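import Groth.Agent.H18HTop.SpecLift
import Mathlib.RingTheory.PowerSeries.Inverse

/-!
# Universal submersiveness and discrete valuation rings
-/

set_option autoImplicit false

universe u

open CategoryTheory Limits AlgebraicGeometry IsLocalRing HTop

namespace Groth.Agent.H18HTop

set_option backward.isDefEq.respectTransparency false

variable {S X : Scheme.{u}}

theorem locallyOfFinitePresentation_of_noetherian [IsLocallyNoetherian S] (f : X ⟶ S) [LocallyOfFiniteType f] :
    LocallyOfFinitePresentation f := by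
  rw [locallyOfFinitePresentation_iff]
  intro U hU V hV e
  haveI := IsLocallyNoetherian.component_noetherian (X := S) ⟨U, hU⟩
  have h := (locallyOfFiniteType_iff f).1 ‹_› hU hV e
  exact RingHom.FinitePresentation.of_finiteType.1 h

/-- The discrete valuation ring lifting condition. -/
def DvrLifts (f : X ⟶ S) : Prop :=
  ∀ (R : Type u) [CommRing R] [IsDomain R] [IsDiscreteValuationRing R] (g : Spec (CommRingCat.of R) ⟶ S),
    ∃ (R' : Type u) (_ : CommRing R') (_ : IsDomain R') (_ : IsDiscreteValuationRing R')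
      (φ : Spec (CommRingCat.of R') ⟶ Spec (CommRingCat.of R)) (h : Spec (CommRingCat.of R') ⟶ X),
      Surjective φ ∧ h ≫ f = φ ≫ g

theorem map_bot_and_closed_of_surjective {R R' : Type u} [CommRing R] [IsDomain R] [IsLocalRing R] [CommRing R']
    [IsDomain R'] [IsLocalRing R'] (φ : Spec (CommRingCat.of R') ⟶ Spec (CommRingCat.of R)) [Surjective φ] :
    φ (⊥ : PrimeSpectrum R') = (⊥ : PrimeSpectrum R) ∧ φ (closedPoint R') = closedPoint R := by
  constructor
  · obtain ⟨z, hz⟩ := φ.surjective (⊥ : PrimeSpectrum R)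
    have h : φ (⊥ : PrimeSpectrum R') ⤳ φ z :=
      ((PrimeSpectrum.le_iff_specializes (⊥ : PrimeSpectrum R') z).1 bot_le).map φ.continuous
    rw [hz] at h
    exact PrimeSpectrum.ext (le_bot_iff.1
      ((PrimeSpectrum.le_iff_specializes (show PrimeSpectrum R from φ (⊥ : PrimeSpectrum R')) ⊥).2 h))
  · obtain ⟨z, hz⟩ := φ.surjective (closedPoint R)
    have h : φ z ⤳ φ (closedPoint R') := (specializes_closedPoint z).map φ.continuous
    rw [hz] at h
    exact PrimeSpectrum.ext (le_antisymm (IsLocalRing.le_maximalIdeal (Ideal.IsPrime.ne_top inferInstance))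
      ((PrimeSpectrum.le_iff_specializes (closedPoint R) (show PrimeSpectrum R from φ (closedPoint R'))).2 h))

theorem exists_preimage_of_dvrLifts {f : X ⟶ S} (hf : DvrLifts f) (s : S) : ∃ x, f x = s := by
  let k := S.residueField s
  let R := PowerSeries k
  let c : Spec (CommRingCat.of R) ⟶ Spec (CommRingCat.of k) := Spec.map (CommRingCat.ofHom PowerSeries.C)
  obtain ⟨R', _, _, _, φ, h, -, hh⟩ := hf R (c ≫ S.fromSpecResidueField s)
  refine ⟨h (closedPoint R'), ?_⟩
  rw [← Scheme.Hom.comp_apply, hh, Scheme.Hom.comp_apply, Scheme.Hom.comp_apply]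
  exact Scheme.fromSpecResidueField_apply s _

theorem liftsNoethSpecializations_of_dvrLifts {f : X ⟶ S} (hf : DvrLifts f) :
    LiftsNoethSpecializations (PreZeroHypercover.singleton.{u} f) := by
  intro Y _ g y y' h
  rcases eq_or_ne y' y with rfl | hne
  · obtain ⟨x, hx⟩ := exists_preimage_of_dvrLifts hf (g y')
    obtain ⟨a, ha, -⟩ := Scheme.Pullback.exists_preimage_pullback (f := g) (g := f) y' x hx.symm
    exact ⟨PUnit.unit, a, a, specializes_rfl, ha, ha⟩
  obtain ⟨A, k, hA, hkc, hgen⟩ := H11Val.exists_dvr_hom_through (𝟙 Y) y y' h hne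
  have hk0 : k (⊥ : PrimeSpectrum A) = y := by
    have e : Spec.map (CommRingCat.ofHom A.subtype) (closedPoint (Y.residueField y)) = (⊥ : PrimeSpectrum A) := by
      refine PrimeSpectrum.ext ?_
      show Ideal.comap A.subtype (maximalIdeal (Y.residueField y)) = ⊥
      rw [maximalIdeal_eq_bot]
      exact Ideal.comap_bot_of_injective _ A.subtype_injective
    rw [← e, ← Scheme.Hom.comp_apply, hgen, Category.comp_id]
    exact Scheme.fromSpecResidueField_apply y _
  haveI := hA
  obtain ⟨R', _, _, _, φ, l, hφ, hl⟩ := hf A (k ≫ g)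
  haveI := hφ
  obtain ⟨hb0, hb1⟩ := map_bot_and_closed_of_surjective φ
  let m : Spec (CommRingCat.of R') ⟶ pullback g f := pullback.lift (φ ≫ k) l (by rw [Category.assoc, hl])
  refine ⟨PUnit.unit, m (⊥ : PrimeSpectrum R'), m (closedPoint R'),
    (specializes_closedPoint _).map m.continuous, ?_, ?_⟩
  · show pullback.fst g f (m _) = y
    rw [← Scheme.Hom.comp_apply, pullback.lift_fst, Scheme.Hom.comp_apply, hb0, hk0]
  · show pullback.fst g f (m _) = y'
    rw [← Scheme.Hom.comp_apply, pullback.lift_fst, Scheme.Hom.comp_apply, hb1, hkc]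

theorem univSubmersive_iff_desc_singleton (f : X ⟶ S) :
    SGA1.UnivSubmersive f ↔ SGA1.UnivSubmersive (Sigma.desc (PreZeroHypercover.singleton.{u} f).f) := by
  show _ ↔ SGA1.UnivSubmersive (Sigma.desc (fun _ : PUnit.{u + 1} => f))
  haveI : IsIso (Sigma.ι (fun _ : PUnit.{u + 1} => X) PUnit.unit) :=
    ⟨Sigma.desc (fun _ => 𝟙 X), Sigma.ι_desc _ _, Sigma.hom_ext _ _ fun ⟨⟩ => by
      rw [← Category.assoc, Sigma.ι_desc, Category.id_comp, Category.comp_id]⟩
  haveI : SGA1.UnivSubmersive.{u}.RespectsIso := MorphismProperty.IsStableUnderBaseChange.respectsIso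
  have e : Sigma.ι (fun _ : PUnit.{u + 1} => X) PUnit.unit ≫ Sigma.desc (fun _ : PUnit.{u + 1} => f) = f :=
    Sigma.ι_desc _ _
  exact Iff.trans (by rw [e]) (MorphismProperty.cancel_left_of_respectsIso SGA1.UnivSubmersive _ _)

theorem univSubmersive_iff_dvrLifts [IsLocallyNoetherian S] (f : X ⟶ S) [LocallyOfFiniteType f] [QuasiCompact f] :
    SGA1.UnivSubmersive f ↔ DvrLifts f := by
  haveI : ∀ i, LocallyOfFiniteType ((PreZeroHypercover.singleton.{u} f).f i) := fun _ => ‹LocallyOfFiniteType f›
  haveI : ∀ i, QuasiCompact ((PreZeroHypercover.singleton.{u} f).f i) := fun _ => ‹QuasiCompact f›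
  haveI : Finite (PreZeroHypercover.singleton.{u} f).I₀ := inferInstanceAs (Finite PUnit)
  rw [univSubmersive_iff_desc_singleton]
  refine ⟨fun hf R _ _ _ g => ?_, fun hf => univSubmersive_sigmaDesc _
    (isVCover_of_liftsNoethSpecializations _ (liftsNoethSpecializations_of_dvrLifts hf))⟩
  obtain ⟨i, a, b, hab, ha, hb⟩ := exists_specializes_pullback _ hf g
    (show ((⊥ : PrimeSpectrum R) : Spec (CommRingCat.of R)) ⤳ (closedPoint R) from specializes_closedPoint _)
  let p : pullback g f ⟶ Spec (CommRingCat.of R) := pullback.fst g f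
  let a' : (pullback g f : Scheme.{u}) := a
  let b' : (pullback g f : Scheme.{u}) := b
  haveI : LocallyOfFiniteType p := MorphismProperty.pullback_fst (P := @LocallyOfFiniteType) g f ‹_›
  haveI := LocallyOfFiniteType.isLocallyNoetherian p
  have ha' : p a' = (⊥ : PrimeSpectrum R) := ha
  have hb' : p b' = closedPoint R := hb
  have hne : b' ≠ a' := fun h => IsDiscreteValuationRing.not_isField R <|
    IsLocalRing.isField_iff_maximalIdeal_eq.2 (by
      have : (⊥ : PrimeSpectrum R) = closedPoint R := by rw [← ha', ← hb', h]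
      exact (congrArg PrimeSpectrum.asIdeal this).symm)
  obtain ⟨A, k, hA, hkc, hgen⟩ := H11Val.exists_dvr_hom_through (𝟙 (pullback g f)) a' b' hab hne
  have hk0 : k (Spec.map (CommRingCat.ofHom A.subtype) (closedPoint _)) = a' := by
    rw [← Scheme.Hom.comp_apply, hgen, Category.comp_id]
    exact Scheme.fromSpecResidueField_apply a' _
  refine ⟨A, inferInstance, inferInstance, hA, k ≫ p, k ≫ pullback.snd g f, ⟨fun z => ?_⟩, ?_⟩
  · rcases eq_or_ne (PrimeSpectrum.asIdeal z) ⊥ with hz | hz
    · exact ⟨_, (Scheme.Hom.comp_apply _ _ _).trans ((congrArg p hk0).trans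
        (ha'.trans (PrimeSpectrum.ext hz.symm)))⟩
    · exact ⟨closedPoint A, (Scheme.Hom.comp_apply _ _ _).trans ((congrArg p hkc).trans
        (hb'.trans (PrimeSpectrum.ext (IsLocalRing.eq_maximalIdeal
          (Ideal.IsPrime.isMaximal inferInstance hz)).symm)))⟩
  · rw [Category.assoc, Category.assoc, pullback.condition]

end Groth.Agent.H18HTop
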