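import Groth.Prelude.Def_HTop
import Groth.Prelude.Def_SGA1
import Mathlib.AlgebraicGeometry.ValuativeCriterion

/-!
# V coverings: gluing, base change, composition, submersivity
-/

set_option autoImplicit false

universe w u

open CategoryTheory Limits AlgebraicGeometry IsLocalRing HTop

namespace Groth.Agent.H18HTop

set_option backward.isDefEq.respectTransparency false

variable {S T : Scheme.{u}}

theorem isExtVal_comp {U V W : CommRingCat.{u}} [IsDomain U] [ValuationRing U] [IsDomain V] [ValuationRing V]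
    [IsDomain W] [ValuationRing W] {φ : U ⟶ V} {ψ : V ⟶ W} (hφ : IsExtVal U V φ) (hψ : IsExtVal V W ψ) :
    IsExtVal U W (φ ≫ ψ) := by
  haveI := hφ.2; haveI := hψ.2
  refine ⟨?_, ?_⟩
  · rw [CommRingCat.hom_comp, RingHom.coe_comp]; exact hψ.1.comp hφ.1
  · rw [CommRingCat.hom_comp]; exact RingHom.isLocalHom_comp _ _

theorem range_subset_of_closedPoint_mem {V : CommRingCat.{u}} [IsLocalRing V] (g : Spec V ⟶ T) (U : T.Opens)
    (h : g (closedPoint V) ∈ U) : Set.range g ⊆ U := by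
  rintro _ ⟨v, rfl⟩
  exact ((specializes_closedPoint v).map g.continuous).mem_open U.2 h

/-- Standard V coverings given Zariski locally on an affine scheme glue to one. -/
theorem exists_standardV_of_local [IsAffine S] (g : S ⟶ T) (E : PreZeroHypercover.{w} T)
    (h : ∀ x : S, ∃ W : S.Opens, x ∈ W ∧ IsAffineOpen W ∧ ∃ F : PreZeroHypercover.{0} (W : Scheme.{u}),
      IsStandardV F ∧ RefinesOver (W.ι ≫ g) F E) :
    ∃ F : PreZeroHypercover.{0} S, IsStandardV F ∧ RefinesOver g F E := by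
  choose W hx hW F hF hR using h
  obtain ⟨t, ht⟩ := isCompact_univ.elim_finite_subcover (fun x => (W x : Set S)) (fun x => (W x).2)
    (fun x _ => Set.mem_iUnion.2 ⟨x, hx x⟩)
  let e := t.equivFin.symm
  refine ⟨⟨Σ k : Fin t.card, (F (e k).1).I₀, fun kj => (F (e kj.1).1).X kj.2,
    fun kj => (F (e kj.1).1).f kj.2 ≫ (W (e kj.1).1).ι⟩, ⟨‹_›, ?_, fun kj => (hF _).isAffine_obj _, ?_⟩, ?_⟩
  · haveI := fun k => (hF (e k).1).finite_index
    exact inferInstanceAs (Finite (Σ k : Fin t.card, (F (e k).1).I₀))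
  · intro V _ _ v
    obtain ⟨x, hxt, hxW⟩ := Set.mem_iUnion₂.1 (ht (Set.mem_univ (v (closedPoint V))))
    obtain ⟨k, hk⟩ := e.surjective ⟨x, hxt⟩
    have hr : Set.range v ⊆ Set.range (W (e k).1).ι := by
      rw [Scheme.Opens.range_ι]
      exact range_subset_of_closedPoint_mem v _ (by rw [hk]; exact hxW)
    obtain ⟨V', i1, i2, φ, hφ, j, v', hv'⟩ := (hF (e k).1).lift V (IsOpenImmersion.lift (W (e k).1).ι v hr)
    refine ⟨V', i1, i2, φ, hφ, ⟨k, j⟩, v', ?_⟩
    show v' ≫ (F (e k).1).f j ≫ (W (e k).1).ι = _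
    rw [← Category.assoc, hv', Category.assoc, IsOpenImmersion.lift_fac]
  · rintro ⟨k, j⟩
    obtain ⟨i, l, hl⟩ := hR (e k).1 j
    exact ⟨i, l, by rw [hl]; exact (Category.assoc _ _ _).symm⟩

/-- Base change of a standard V covering along a morphism of affines. -/
theorem isStandardV_pullback [IsAffine S] (g : S ⟶ T) {F : PreZeroHypercover.{w} T} (hF : IsStandardV F) :
    IsStandardV (F.pullback₁ g) := by
  haveI := hF.isAffine
  refine ⟨‹_›, hF.finite_index, fun j => ?_, fun V _ _ v => ?_⟩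
  · haveI := hF.isAffine_obj j
    haveI : IsAffineHom g := isAffineHom_of_isAffine g
    haveI : IsAffineHom (pullback.snd g (F.f j)) :=
      MorphismProperty.pullback_snd (P := @IsAffineHom) _ _ ‹_›
    exact isAffine_of_isAffineHom (pullback.snd g (F.f j))
  · obtain ⟨W, i1, i2, φ, hφ, j, v', hv'⟩ := hF.lift V (v ≫ g)
    exact ⟨W, i1, i2, φ, hφ, j, pullback.lift (Spec.map φ ≫ v) v' (by rw [Category.assoc, hv']),
      pullback.lift_fst _ _ _⟩

/-- A V covering gives a standard V covering of every affine scheme mapping to the base. -/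
theorem exists_standardV [IsAffine S] (g : S ⟶ T) {E : PreZeroHypercover.{w} T} (hE : IsVCover E) :
    ∃ F : PreZeroHypercover.{0} S, IsStandardV F ∧ RefinesOver g F E := by
  refine exists_standardV_of_local g E fun x => ?_
  obtain ⟨U, hU, hxU, -⟩ := exists_isAffineOpen_mem_and_subset (x := g x) (U := ⊤) trivial
  obtain ⟨W, hW, hxW, hWU⟩ := exists_isAffineOpen_mem_and_subset (x := x) (U := g ⁻¹ᵁ U) hxU
  obtain ⟨F, hF, hR⟩ := hE ⟨U, hU⟩
  have hWU' : W ≤ g ⁻¹ᵁ U := hWU
  haveI : IsAffine (W : Scheme.{u}) := hW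
  refine ⟨W, hxW, hW, F.pullback₁ (g.resLE U W hWU'), isStandardV_pullback _ hF, fun j => ?_⟩
  obtain ⟨i, l, hl⟩ := hR j
  refine ⟨i, pullback.snd _ _ ≫ l, ?_⟩
  rw [Category.assoc, hl, ← Category.assoc, ← pullback.condition, Category.assoc, g.resLE_comp_ι]
  rfl

theorem isVCover_pullback {T' : Scheme.{u}} (g : T' ⟶ T) (E : PreZeroHypercover.{w} T) (hE : IsVCover E) :
    IsVCover (E.pullback₁ g) := by
  intro U
  haveI : IsAffine ((U : T'.Opens) : Scheme.{u}) := U.2
  obtain ⟨F, hF, hR⟩ := exists_standardV ((U : T'.Opens).ι ≫ g) hE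
  refine ⟨F, hF, fun j => ?_⟩
  obtain ⟨i, l, hl⟩ := hR j
  exact ⟨i, pullback.lift (F.f j ≫ (U : T'.Opens).ι) l (by rw [Category.assoc, hl]), pullback.lift_fst _ _ _⟩

theorem isVCover_bind (E : PreZeroHypercover.{w} T) (hE : IsVCover E)
    (F : ∀ i, PreZeroHypercover.{w} (E.X i)) (hF : ∀ i, IsVCover (F i)) : IsVCover (E.bind F) := by
  intro U
  obtain ⟨G, hG, hR⟩ := hE U
  choose i l hl using hR
  have h (j) : ∃ H : PreZeroHypercover.{0} (G.X j), IsStandardV H ∧ RefinesOver (l j) H (F (i j)) :=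
    haveI := hG.isAffine_obj j
    exists_standardV (l j) (hF _)
  choose H hH hH' using h
  refine ⟨G.bind H, ⟨hG.isAffine, ?_, fun jk => (hH jk.1).isAffine_obj jk.2, fun V _ _ v => ?_⟩, ?_⟩
  · haveI := hG.finite_index
    haveI := fun j => (hH j).finite_index
    exact inferInstanceAs (Finite (Σ j, (H j).I₀))
  · obtain ⟨W, i1, i2, φ, hφ, j, v', hv'⟩ := hG.lift V v
    obtain ⟨W', i1', i2', ψ, hψ, k, v'', hv''⟩ := (hH j).lift W v'
    refine ⟨W', i1', i2', φ ≫ ψ, isExtVal_comp hφ hψ, ⟨j, k⟩, v'', ?_⟩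
    show v'' ≫ (H j).f k ≫ G.f j = _
    rw [← Category.assoc, hv'', Category.assoc, hv', Spec.map_comp, Category.assoc]
  · rintro ⟨j, k⟩
    obtain ⟨m, l', hl'⟩ := hH' j k
    refine ⟨⟨i j, m⟩, l', ?_⟩
    show l' ≫ (F (i j)).f m ≫ E.f (i j) = ((H j).f k ≫ G.f j) ≫ _
    rw [← Category.assoc, hl', Category.assoc, hl, Category.assoc]

theorem exists_specializes_of_mem_closure_image_spec {R A : CommRingCat.{u}} (φ : R ⟶ A) {Z : Set (Spec A)}
    (hZ : IsClosed Z) {y : Spec R} (hy : y ∈ closure (Spec.map φ '' Z)) : ∃ z ∈ Z, Spec.map φ z ⤳ y := by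
  obtain ⟨I, rfl⟩ := (PrimeSpectrum.isClosed_iff_zeroLocus_ideal Z).mp hZ
  have hsub : Spec.map φ '' (PrimeSpectrum.zeroLocus (I : Set A)) ⊆
      PrimeSpectrum.zeroLocus ((I.comap φ.hom : Ideal R) : Set R) := by
    rintro _ ⟨z, hz, rfl⟩ r hr
    exact hz hr
  have hp : I.comap φ.hom ≤ PrimeSpectrum.asIdeal y :=
    (PrimeSpectrum.isClosed_zeroLocus _).closure_subset_iff.2 hsub hy
  obtain ⟨q, hqI, hq, hqle⟩ := (PrimeSpectrum.asIdeal y).exists_ideal_comap_le_prime I hp
  exact ⟨⟨q, hq⟩, hqI, (PrimeSpectrum.le_iff_specializes ⟨q.comap φ.hom, inferInstance⟩ y).mp hqle⟩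

theorem exists_specializes_of_mem_closure_image {X Y : Scheme.{u}} [IsAffine X] [IsAffine Y] (f : X ⟶ Y)
    {Z : Set X} (hZ : IsClosed Z) {y : Y} (hy : y ∈ closure (f '' Z)) : ∃ z ∈ Z, f z ⤳ y := by
  let φ := Spec.preimage (X.isoSpec.inv ≫ f ≫ Y.isoSpec.hom)
  have hφ : ∀ s, Spec.map φ s = Y.isoSpec.hom (f (X.isoSpec.inv s)) := fun s => by
    rw [Spec.map_preimage]; rfl
  have hi : ∀ x, X.isoSpec.inv (X.isoSpec.hom x) = x := fun x => by
    rw [← Scheme.Hom.comp_apply, Iso.hom_inv_id]; rfl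
  have hy' : Y.isoSpec.hom y ∈ closure (Spec.map φ '' (X.isoSpec.inv ⁻¹' Z)) := by
    refine closure_mono ?_ (image_closure_subset_closure_image Y.isoSpec.hom.continuous ⟨y, hy, rfl⟩)
    rintro _ ⟨_, ⟨z, hz, rfl⟩, rfl⟩
    exact ⟨X.isoSpec.hom z, show X.isoSpec.inv _ ∈ Z by rwa [hi], by rw [hφ, hi]⟩
  obtain ⟨s, hs, hs'⟩ := exists_specializes_of_mem_closure_image_spec φ (hZ.preimage X.isoSpec.inv.continuous) hy'
  exact ⟨_, hs, Y.isoSpec.hom.isOpenEmbedding.isInducing.specializes_iff.1 (hφ s ▸ hs')⟩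

/-- Specialisations are realised by valuation rings. -/
theorem exists_valuation_of_specializes {x y : T} (h : x ⤳ y) :
    ∃ (V : CommRingCat.{u}) (_ : IsDomain V) (_ : ValuationRing V) (g : Spec V ⟶ T),
      g (⊥ : PrimeSpectrum V) = x ∧ g (closedPoint V) = y := by
  let m : T.presheaf.stalk y ⟶ T.residueField x := T.presheaf.stalkSpecializes h ≫ T.residue x
  obtain ⟨A, hA, hA'⟩ := exists_factor_valuationRing m.hom
  let m' : T.presheaf.stalk y ⟶ .of A := CommRingCat.ofHom (m.hom.codRestrict _ hA)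
  let g : Spec (.of A) ⟶ T := Spec.map m' ≫ T.fromSpecStalk y
  refine ⟨.of A, inferInstance, inferInstance, g, ?_, ?_⟩
  · have w : Spec.map (CommRingCat.ofHom (algebraMap A (T.residueField x))) ≫ g = T.fromSpecResidueField x := by
      rw [Scheme.fromSpecResidueField, ← Scheme.SpecMap_stalkSpecializes_fromSpecStalk h,
        ← Spec.map_comp_assoc, ← Spec.map_comp_assoc]
      rfl
    have e : Spec.map (CommRingCat.ofHom (algebraMap A (T.residueField x))) (closedPoint (T.residueField x)) =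
        (⊥ : PrimeSpectrum A) := by
      refine PrimeSpectrum.ext ?_
      show Ideal.comap (algebraMap A (T.residueField x)) (maximalIdeal _) = ⊥
      rw [maximalIdeal_eq_bot]
      exact Ideal.comap_bot_of_injective _ (IsFractionRing.injective A (T.residueField x))
    rw [← e, ← Scheme.Hom.comp_apply, w]
    exact Scheme.fromSpecResidueField_apply x _
  · show T.fromSpecStalk y (Spec.map m' (closedPoint A)) = y
    rw [show Spec.map m' (closedPoint A) = closedPoint (T.presheaf.stalk y) from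
      comap_closedPoint (S := A) (m.hom.codRestrict A.toSubring hA), Scheme.fromSpecStalk_closedPoint]

theorem exists_preimage_of_specializes {E : PreZeroHypercover.{w} T} (hE : HasValLift E) {x y : T} (h : x ⤳ y) :
    ∃ (j : E.I₀) (a b : E.X j), a ⤳ b ∧ E.f j a = x ∧ E.f j b = y := by
  obtain ⟨V, _, _, g, hgx, hgy⟩ := exists_valuation_of_specializes h
  obtain ⟨W, i1, i2, φ, hφ, j, g', hg'⟩ := hE V g
  haveI := i1; haveI := i2; haveI := hφ.2
  refine ⟨j, g' (⊥ : PrimeSpectrum W), g' (closedPoint W), (specializes_closedPoint _).map g'.continuous, ?_, ?_⟩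
  · rw [← Scheme.Hom.comp_apply, hg', Scheme.Hom.comp_apply]
    refine (congrArg g (PrimeSpectrum.ext ?_)).trans hgx
    exact Ideal.comap_bot_of_injective _ hφ.1
  · rw [← Scheme.Hom.comp_apply, hg', Scheme.Hom.comp_apply]
    exact (congrArg g (comap_closedPoint φ.hom)).trans hgy

theorem exists_preimage_mem {E : PreZeroHypercover.{w} T} (hE : IsVCover E) (y : T) :
    ∃ (i : E.I₀) (a : E.X i), E.f i a = y := by
  obtain ⟨U, hU, hyU, -⟩ := exists_isAffineOpen_mem_and_subset (x := y) (U := ⊤) trivial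
  obtain ⟨F, hF, hR⟩ := hE ⟨U, hU⟩
  obtain ⟨j, a, _, -, ha, -⟩ := exists_preimage_of_specializes hF.lift (specializes_refl (⟨y, hyU⟩ : U))
  obtain ⟨i, l, hl⟩ := hR j
  exact ⟨i, l a, by rw [← Scheme.Hom.comp_apply, hl, Scheme.Hom.comp_apply, ha]; rfl⟩

/-- A subset whose preimages in the members of a V covering are closed is closed. -/
theorem isClosed_of_isVCover {E : PreZeroHypercover.{w} T} (hE : IsVCover E) (A : Set T)
    (hA : ∀ i, IsClosed (E.f i ⁻¹' A)) : IsClosed A := by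
  rw [TopologicalSpace.IsOpenCover.isClosed_iff_coe_preimage (U := fun U : T.affineOpens => (U : T.Opens))
    (iSup_affineOpens_eq_top T)]
  intro U
  obtain ⟨F, hF, hR⟩ := hE U
  haveI := hF.isAffine; haveI := hF.finite_index
  let B : Set ((U : T.Opens) : Scheme.{u}) := (U : T.Opens).ι ⁻¹' A
  show IsClosed B
  have hB (j) : IsClosed (F.f j ⁻¹' B) := by
    obtain ⟨i, l, hl⟩ := hR j
    have : F.f j ⁻¹' B = l ⁻¹' (E.f i ⁻¹' A) := by
      ext z
      show (U : T.Opens).ι (F.f j z) ∈ A ↔ E.f i (l z) ∈ A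
      rw [← Scheme.Hom.comp_apply, ← Scheme.Hom.comp_apply, hl]
    exact this ▸ (hA i).preimage l.continuous
  refine isClosed_of_closure_subset fun y hy => ?_
  have hsub : B ⊆ ⋃ j, F.f j '' (F.f j ⁻¹' B) := fun z hz => by
    obtain ⟨j, a, _, -, ha, -⟩ := exists_preimage_of_specializes hF.lift (specializes_refl z)
    exact Set.mem_iUnion.2 ⟨j, a, show F.f j a ∈ B from ha ▸ hz, ha⟩
  have := closure_mono hsub hy
  rw [closure_iUnion_of_finite] at this
  obtain ⟨j, hj⟩ := Set.mem_iUnion.1 this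
  haveI := hF.isAffine_obj j
  obtain ⟨z, hz, hzy⟩ := exists_specializes_of_mem_closure_image (F.f j) (hB j) hj
  obtain ⟨k, a, b, hab, ha, hb⟩ := exists_preimage_of_specializes hF.lift hzy
  have : b ∈ F.f k ⁻¹' B := hab.mem_closed (hB k) (show F.f k a ∈ B from ha ▸ hz)
  exact hb ▸ this

theorem univSubmersive_sigmaDesc {X : Scheme.{u}} (E : PreZeroHypercover.{u} X) (hE : IsVCover E) :
    SGA1.UnivSubmersive (Sigma.desc E.f) := by
  intro P Y q g p hsq
  have hE' := isVCover_pullback g E hE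
  let m (i) : pullback g (E.f i) ⟶ P := hsq.lift (pullback.fst _ _) (pullback.snd _ _ ≫ Sigma.ι E.X i)
    (by rw [Category.assoc, Sigma.ι_desc, pullback.condition])
  have hm (i) : m i ≫ p = pullback.fst g (E.f i) := hsq.lift_fst _ _ _
  have hm' (i) (a) : p (m i a) = pullback.fst g (E.f i) a := by rw [← Scheme.Hom.comp_apply, hm]
  refine Topology.isQuotientMap_iff_isClosed.2 ⟨fun y => ?_, fun A => ⟨fun h => h.preimage p.continuous, fun h => ?_⟩⟩
  · obtain ⟨i, a, ha⟩ := exists_preimage_mem hE' y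
    exact ⟨m i a, (hm' i a).trans ha⟩
  · refine isClosed_of_isVCover hE' A fun i => ?_
    have : (pullback.fst g (E.f i)) ⁻¹' A = m i ⁻¹' (p ⁻¹' A) := by
      ext a; show _ ∈ A ↔ p (m i a) ∈ A; rw [hm']
    exact this ▸ h.preimage (m i).continuous

end Groth.Agent.H18HTop
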