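import Mathlib
import Groth.Prelude.Def_HTop3
import Groth.Agent.H29Blow.Basic

/-!
Almost blow up squares: locally principal ideals under pullback, uniqueness of blow ups.
-/

set_option autoImplicit false
set_option backward.isDefEq.respectTransparency false
universe u

open CategoryTheory CategoryTheory.Limits AlgebraicGeometry HTop

namespace Groth.Agent.H18HTop

theorem isLocPrincipal_comap {X Y : Scheme.{u}} {I : Y.IdealSheafData} (hI : IsLocPrincipal I)
    (f : X ⟶ Y) : IsLocPrincipal (I.comap f) := fun x => by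
  obtain ⟨U, hxU, a, haU⟩ := hI (f x)
  obtain ⟨V, hV, hxV, hVU⟩ := exists_isAffineOpen_mem_and_subset (U := f ⁻¹ᵁ U.1) (x := x) hxU
  refine ⟨⟨V, hV⟩, hxV, (f.appLE U.1 V hVU).hom a, ?_⟩
  rw [H29Blow.ideal_comap I f U ⟨V, hV⟩ hVU, haU, Ideal.map_span, Set.image_singleton]

/-- A morphism over the base between two blow ups in the same centre is an isomorphism. -/
theorem isIso_of_isBlowUp {X B B' : Scheme.{u}} {b : B ⟶ X} {b' : B' ⟶ X} {I : X.IdealSheafData}
    (hb : BlowUp.IsBlowUp b I) (hb' : BlowUp.IsBlowUp b' I) (φ : B ⟶ B') (hφ : φ ≫ b' = b) :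
    IsIso φ := by
  obtain ⟨ψ, hψ, -⟩ := hb.2 B' b' hb'.1
  refine ⟨ψ, (hb.2 B b hb.1).unique ?_ ?_, (hb'.2 B' b' hb'.1).unique ?_ ?_⟩
  · rw [Category.assoc, hψ, hφ]
  · rw [Category.id_comp]
  · rw [Category.assoc, hφ, hψ]
  · rw [Category.id_comp]

theorem isBlowUp_comp_iso {X B B' : Scheme.{u}} {b : B ⟶ X} {I : X.IdealSheafData}
    (hb : BlowUp.IsBlowUp b I) (φ : B' ⟶ B) [IsIso φ] : BlowUp.IsBlowUp (φ ≫ b) I := by
  refine ⟨?_, fun Y g hg => ?_⟩
  · rw [Scheme.IdealSheafData.comap_comp]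
    exact H29Blow.isEffCartierIdeal_comap_of_flat hb.1 φ
  · obtain ⟨h, hh, hu⟩ := hb.2 Y g hg
    refine ⟨h ≫ inv φ, by simpa using hh, fun k hk => ?_⟩
    have := hu (k ≫ φ) (by simpa using hk)
    simp [← this]

theorem awayFrom_comap {X Y : Scheme.{u}} (f : X ⟶ Y) (I : Y.IdealSheafData) :
    awayFrom (I.comap f) = f ⁻¹ᵁ awayFrom I := by
  ext x
  change x ∉ ((I.comap f).support : Set X) ↔ f x ∉ (I.support : Set Y)
  rw [Scheme.IdealSheafData.support_comap]
  rfl

theorem supportedOn_comap_le {X Y : Scheme.{u}} (f : X ⟶ Y) (I : Y.IdealSheafData) :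
    supportedOn I ≤ (supportedOn (I.comap f)).map f := by
  unfold supportedOn
  rw [awayFrom_comap, Scheme.IdealSheafData.map_ker, ← morphismRestrict_ι]
  exact Scheme.Hom.le_ker_comp _ _

theorem map_supportedOn_comap {X Y : Scheme.{u}} (w : X ⟶ Y) [IsClosedImmersion w]
    (I : Y.IdealSheafData) (hw : w.ker ≤ supportedOn I) :
    (supportedOn (I.comap w)).map w = supportedOn I := by
  let U := awayFrom I
  let s : U.toScheme ⟶ X := IsClosedImmersion.lift w U.ι hw
  have hs : s ≫ w = U.ι := IsClosedImmersion.lift_fac _ _ _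
  have hr : Set.range s ⊆ Set.range (w ⁻¹ᵁ U).ι := by
    rintro _ ⟨z, rfl⟩
    rw [Scheme.Opens.range_ι]
    change w (s z) ∈ U
    rw [← Scheme.Hom.comp_apply, hs]
    exact z.2
  have hid : IsOpenImmersion.lift (w ⁻¹ᵁ U).ι s hr ≫ (w ∣_ U) = 𝟙 _ := by
    rw [← cancel_mono U.ι, Category.assoc, morphismRestrict_ι,
      IsOpenImmersion.lift_fac_assoc, hs, Category.id_comp]
  haveI : IsClosedImmersion (w ∣_ U) :=
    IsZariskiLocalAtTarget.restrict (P := @IsClosedImmersion) inferInstance _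
  haveI : IsSplitEpi (w ∣_ U) := IsSplitEpi.mk' ⟨_, hid⟩
  haveI : IsIso (w ∣_ U) := isIso_of_mono_of_isSplitEpi _
  unfold supportedOn
  rw [awayFrom_comap, Scheme.IdealSheafData.map_ker, ← morphismRestrict_ι,
    Scheme.Hom.ker_comp_of_isIso]

theorem ker_subschemeι_comp {X Y : Scheme.{u}} (J : X.IdealSheafData) (f : X ⟶ Y) :
    (J.subschemeι ≫ f).ker = J.map f := by
  rw [← Scheme.IdealSheafData.map_ker, Scheme.IdealSheafData.ker_subschemeι]

theorem awayFrom_inf_eq_basicOpen {X : Scheme.{u}} {I : X.IdealSheafData} {U : X.affineOpens}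
    {f : Γ(X, U.1)} (hf : I.ideal U = Ideal.span {f}) : awayFrom I ⊓ U.1 = X.basicOpen f := by
  ext x
  refine ⟨fun ⟨hx, hxU⟩ => ?_, fun hx => ⟨?_, X.basicOpen_le f hx⟩⟩
  · by_contra hc
    refine hx ((Scheme.IdealSheafData.mem_support_iff_of_mem hxU).mpr ?_)
    rw [hf, Scheme.zeroLocus_span, Scheme.mem_zeroLocus_iff]
    intro g hg
    rw [Set.mem_singleton_iff.mp hg]
    exact hc
  · exact H29Blow.basicOpen_disjoint_support
      (by rw [hf]; exact Ideal.mem_span_singleton_self f) hx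

theorem image_preimage_awayFrom {X : Scheme.{u}} {I : X.IdealSheafData} {U : X.affineOpens}
    {f : Γ(X, U.1)} (hf : I.ideal U = Ideal.span {f}) :
    (awayFrom I).ι ''ᵁ ((awayFrom I).ι ⁻¹ᵁ U.1) = X.basicOpen f := by
  rw [Scheme.Hom.image_preimage_eq_opensRange_inf, Scheme.Opens.opensRange_ι,
    awayFrom_inf_eq_basicOpen hf]

theorem quasiCompact_awayFrom_ι {X : Scheme.{u}} {I : X.IdealSheafData} (hI : IsLocPrincipal I) :
    QuasiCompact (awayFrom I).ι := by
  haveI : IsAffineHom (awayFrom I).ι := isAffineHom_of_forall_exists_isAffineOpen _ fun x => by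
    obtain ⟨U, hxU, f, hf⟩ := hI x
    refine ⟨U.1, hxU, U.2, (Scheme.Hom.isAffineOpen_iff_of_isOpenImmersion (awayFrom I).ι).mp ?_⟩
    rw [image_preimage_awayFrom hf]
    exact U.2.basicOpen f
  infer_instance

theorem res_eq_zero_iff {X : Scheme.{u}} {U V W : X.Opens} (e : V = W) (hV : V ≤ U) (hW : W ≤ U)
    (x : Γ(X, U)) : (X.presheaf.map (homOfLE hV).op).hom x = 0 ↔
      (X.presheaf.map (homOfLE hW).op).hom x = 0 := by
  subst e; rfl

/-- The sections supported on a principal ideal are those vanishing where the generator is a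
unit. -/
theorem mem_supportedOn_iff {X : Scheme.{u}} {I : X.IdealSheafData} (hI : IsLocPrincipal I)
    {U : X.affineOpens} {f : Γ(X, U.1)} (hf : I.ideal U = Ideal.span {f}) (x : Γ(X, U.1)) :
    x ∈ (supportedOn I).ideal U ↔
      (X.presheaf.map (homOfLE (X.basicOpen_le f)).op).hom x = 0 := by
  haveI := quasiCompact_awayFrom_ι hI
  rw [supportedOn, Scheme.Hom.ker_apply, RingHom.mem_ker, Scheme.Opens.ι_app]
  exact res_eq_zero_iff (image_preimage_awayFrom hf) _ _ x

theorem isLocPrincipal_of_isEffCartierIdeal {X : Scheme.{u}} {I : X.IdealSheafData}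
    (hI : BlowUp.IsEffCartierIdeal I) : IsLocPrincipal I := fun x => by
  obtain ⟨U, hxU, f, -, hf⟩ := hI x
  exact ⟨U, hxU, f, hf⟩

theorem supportedOn_eq_bot {X : Scheme.{u}} {I : X.IdealSheafData}
    (hI : BlowUp.IsEffCartierIdeal I) : supportedOn I = ⊥ := by
  refine H29Blow.ext_of_forall_exists fun x => ?_
  obtain ⟨U, hxU, f, hf, hfU⟩ := hI x
  refine ⟨U, hxU, ?_⟩
  rw [Scheme.IdealSheafData.ideal_bot, Pi.bot_apply, eq_bot_iff]
  intro y hy
  exact H29Blow.eq_zero_of_res_basicOpen_eq_zero hf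
    ((mem_supportedOn_iff (isLocPrincipal_of_isEffCartierIdeal hI) hfU y).mp hy)

/-- Killing the sections supported on a locally principal ideal makes it effective Cartier. -/
theorem isEffCartierIdeal_comap_supportedOn {X : Scheme.{u}} {I : X.IdealSheafData}
    (hI : IsLocPrincipal I) :
    BlowUp.IsEffCartierIdeal (I.comap (supportedOn I).subschemeι) := fun p => by
  let s := (supportedOn I).subschemeι
  obtain ⟨U, hpU, f, hf⟩ := hI (s p)
  refine ⟨⟨s ⁻¹ᵁ U.1, U.2.preimage s⟩, hpU, (s.app U.1).hom f, ?_, ?_⟩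
  · rw [mem_nonZeroDivisors_iff_right]
    intro z hz
    obtain ⟨y, rfl⟩ := (supportedOn I).subschemeι_app_surjective U z
    rw [← map_mul, ← RingHom.mem_ker, Scheme.IdealSheafData.ker_subschemeι_app,
      mem_supportedOn_iff hI hf, map_mul] at hz
    rw [← RingHom.mem_ker, Scheme.IdealSheafData.ker_subschemeι_app, mem_supportedOn_iff hI hf]
    have hu : IsUnit ((X.presheaf.map (homOfLE (X.basicOpen_le f)).op).hom f) :=
      RingedSpace.isUnit_res_basicOpen _ f
    exact hu.mul_left_eq_zero.mp hz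
  · rw [H29Blow.ideal_comap I s U ⟨s ⁻¹ᵁ U.1, U.2.preimage s⟩ le_rfl, hf, Ideal.map_span,
      Set.image_singleton, ← Scheme.Hom.app_eq_appLE]

/-- A morphism under which a locally principal ideal becomes effective Cartier kills the sections
supported on it. -/
theorem supportedOn_le_ker {X Y : Scheme.{u}} (g : Y ⟶ X) (I : X.IdealSheafData)
    (hg : BlowUp.IsEffCartierIdeal (I.comap g)) : supportedOn I ≤ g.ker := by
  refine (supportedOn_comap_le g I).trans (le_of_eq ?_)
  rw [supportedOn_eq_bot hg, Scheme.IdealSheafData.map_bot]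

end Groth.Agent.H18HTop
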