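import Mathlib
import Groth.Agent.H18HTop.AlmostBlowUp
import Groth.Agent.H26Blow.Exists
import Groth.Agent.H26Blow.Proper
import Groth.Agent.H7Lim.IdealExtension
import Groth.Agent.S2079
import Groth.Agent.S4613
import Groth.Agent.H7Lim.DescendUnramified

/-!
Existence of almost blow up squares: approximate the blow up, closed in a proper scheme of finite
presentation, by a closed subscheme of finite presentation.
-/

set_option autoImplicit false
set_option backward.isDefEq.respectTransparency false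
universe u

open CategoryTheory CategoryTheory.Limits AlgebraicGeometry HTop

namespace Groth.Agent.H18HTop

/-- The finite-type condition on a closed immersion in terms of its kernel. -/
theorem lfp_iff_ker_fg {X Y : Scheme.{u}} (j : X ⟶ Y) [IsClosedImmersion j] :
    LocallyOfFinitePresentation j ↔ ∀ U : Y.affineOpens, (j.ker.ideal U).FG := by
  rw [Groth.Agent.S4613.result j]
  simp only [Scheme.Hom.ker_apply]

/-- Near every point of `P`, the pullback of `I` is generated by one section on the closed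
subscheme `B`. -/
theorem exists_local_data {P B : Scheme.{u}} (e : B ⟶ P) [IsClosedImmersion e]
    (L : P.IdealSheafData) (hL : IsLocPrincipal (L.comap e)) (x : P) :
    ∃ (V : P.affineOpens) (g : Γ(P, V.1)), x ∈ V.1 ∧
      (L.ideal V).map (e.app V.1).hom = Ideal.span {(e.app V.1).hom g} := by
  by_cases hx : x ∈ Set.range e
  · obtain ⟨y, rfl⟩ := hx
    obtain ⟨W, hyW, h, hW⟩ := hL y
    obtain ⟨O, hO, hOW⟩ := e.isClosedEmbedding.isInducing.isOpen_iff.1 W.1.2
    obtain ⟨V, hV, hxV, hVO⟩ := exists_isAffineOpen_mem_and_subset (U := ⟨O, hO⟩) (x := e y)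
      (hOW.symm.subset hyW)
    have hle : e ⁻¹ᵁ V ≤ W.1 := fun z hz => hOW.subset (hVO hz)
    obtain ⟨g, hg⟩ := e.app_surjective V hV ((B.presheaf.map (homOfLE hle).op).hom h)
    refine ⟨⟨V, hV⟩, g, hxV, ?_⟩
    rw [hg, Scheme.Hom.app_eq_appLE, ← H29Blow.ideal_comap L e ⟨V, hV⟩ ⟨e ⁻¹ᵁ V, hV.preimage e⟩ le_rfl]
    exact H29Blow.ideal_eq_span_res (V := W) (W := ⟨e ⁻¹ᵁ V, hV.preimage e⟩) hle hW
  · obtain ⟨V, hV, hxV, hVO⟩ := exists_isAffineOpen_mem_and_subset
      (U := ⟨(Set.range e)ᶜ, e.isClosedEmbedding.isClosed_range.isOpen_compl⟩) (x := x) hx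
    refine ⟨⟨V, hV⟩, 1, hxV, ?_⟩
    have hbot : e ⁻¹ᵁ V = ⊥ := eq_bot_iff.2 fun z hz => hVO hz ⟨z, rfl⟩
    haveI : Subsingleton Γ(B, e ⁻¹ᵁ V) := by
      rw [hbot]
      exact CommRingCat.subsingleton_of_isTerminal B.sheaf.isTerminalOfEmpty
    exact Subsingleton.elim _ _

/-- Finitely many sections of the ideal of `B` which make `L` principal and which cut out `B`
wherever `L` is the unit ideal. -/
theorem exists_local_sections {P B : Scheme.{u}} (e : B ⟶ P) [IsClosedImmersion e]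
    (L : P.IdealSheafData) (hLfg : ∀ V : P.affineOpens, (L.ideal V).FG)
    (hL : IsLocPrincipal (L.comap e))
    (hker : ∀ D : P.affineOpens, D.1 ≤ awayFrom L → (e.ker.ideal D).FG) (x : P) :
    ∃ (V : P.affineOpens) (g : Γ(P, V.1)) (s : Finset Γ(P, V.1)),
      x ∈ V.1 ∧ (s : Set Γ(P, V.1)) ⊆ e.ker.ideal V ∧
      L.ideal V ⊔ Ideal.span (s : Set Γ(P, V.1)) = Ideal.span {g} ⊔ Ideal.span (s : Set Γ(P, V.1)) ∧
      ∀ z ∈ V.1, z ∈ awayFrom L → ∃ f : Γ(P, V.1), z ∈ P.basicOpen f ∧
        e.ker.ideal ⟨P.basicOpen f, V.2.basicOpen f⟩ ≤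
          (Ideal.span (s : Set Γ(P, V.1))).map
            (P.presheaf.map (homOfLE (P.basicOpen_le f)).op).hom := by
  classical
  obtain ⟨V, g, hxV, hVg⟩ := exists_local_data e L hL x
  obtain ⟨F, hF⟩ := hLfg V
  have hFL : ∀ f ∈ F, f ∈ L.ideal V := fun f hf => hF ▸ Ideal.subset_span (Finset.mem_coe.2 hf)
  have hmap : (Ideal.span (F : Set Γ(P, V.1))).map (e.app V.1).hom = (L.ideal V).map (e.app V.1).hom :=
    congrArg (Ideal.map (e.app V.1).hom) hF
  have hgL : (e.app V.1).hom g ∈ (L.ideal V).map (e.app V.1).hom :=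
    hVg ▸ Ideal.mem_span_singleton_self _
  obtain ⟨g', hg'L, hg'⟩ := (Ideal.mem_map_iff_of_surjective _ (e.app_surjective V.1 V.2)).1 hgL
  have hex : ∀ f ∈ F, ∃ a : Γ(P, V.1), (e.app V.1).hom f = (e.app V.1).hom (a * g) := by
    intro f hf
    have h1 := Ideal.mem_map_of_mem (e.app V.1).hom (hFL f hf)
    rw [hVg, Ideal.mem_span_singleton'] at h1
    obtain ⟨a, ha⟩ := h1
    obtain ⟨a', rfl⟩ := e.app_surjective V.1 V.2 a
    exact ⟨a', by rw [map_mul, ha]⟩
  choose a ha using hex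
  have hD : ∀ f ∈ F, ∃ t : Finset Γ(P, V.1), (t : Set Γ(P, V.1)) ⊆ e.ker.ideal V ∧
      e.ker.ideal ⟨P.basicOpen f, V.2.basicOpen f⟩ ≤ (Ideal.span (t : Set Γ(P, V.1))).map
        (P.presheaf.map (homOfLE (P.basicOpen_le f)).op).hom := by
    intro f hf
    have hfg := hker ⟨P.basicOpen f, V.2.basicOpen f⟩
      (fun z hz => H29Blow.basicOpen_disjoint_support (hFL f hf) hz)
    have heq := e.ker.map_ideal (U := ⟨P.basicOpen f, V.2.basicOpen f⟩) (V := V) (P.basicOpen_le f)
    rw [← heq, Ideal.map] at hfg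
    obtain ⟨t', ht', ht'eq⟩ := (Submodule.fg_span_iff_fg_span_finset_subset _).1 hfg
    obtain ⟨t, ht, rfl⟩ := Finset.subset_set_image_iff.1 ht'
    refine ⟨t, ht, le_of_eq ?_⟩
    rw [← heq, Ideal.map_span, ← Finset.coe_image]
    exact ht'eq
  choose t htk htgen using hD
  let s : Finset Γ(P, V.1) := insert (g - g')
    (F.attach.image (fun f => f.1 - a f.1 f.2 * g) ∪ F.attach.biUnion (fun f => t f.1 f.2))
  have hmem : ∀ {u v : Γ(P, V.1)}, (e.app V.1).hom u = (e.app V.1).hom v → u - v ∈ e.ker.ideal V := by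
    intro u v huv
    rw [Scheme.Hom.ker_apply, RingHom.mem_ker, map_sub, huv, sub_self]
  refine ⟨V, g, s, hxV, ?_, ?_, ?_⟩
  · intro u hu
    simp only [s, Finset.coe_insert, Finset.coe_union, Set.mem_insert_iff, Set.mem_union,
      Finset.coe_image, Set.mem_image, Finset.coe_biUnion, Set.mem_iUnion, Finset.mem_coe,
      exists_prop] at hu
    rcases hu with rfl | ⟨f, -, rfl⟩ | ⟨f, -, hu⟩
    · exact hmem hg'.symm
    · exact hmem (ha f.1 f.2)
    · exact htk f.1 f.2 hu
  · refine le_antisymm (sup_le ?_ le_sup_right) (sup_le ?_ le_sup_right)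
    · rw [← hF, Ideal.span_le]
      intro f hf
      have h1 : f - a f hf * g ∈ Ideal.span (s : Set Γ(P, V.1)) :=
        Ideal.subset_span (Finset.mem_insert_of_mem
          (Finset.mem_union_left _ (Finset.mem_image.2 ⟨⟨f, hf⟩, Finset.mem_attach _ _, rfl⟩)))
      have h2 : a f hf * g ∈ Ideal.span ({g} : Set Γ(P, V.1)) :=
        Ideal.mul_mem_left _ _ (Ideal.mem_span_singleton_self g)
      have := Ideal.add_mem _ (Ideal.mem_sup_right (S := Ideal.span ({g} : Set Γ(P, V.1))) h1)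
        (Ideal.mem_sup_left h2)
      simpa using this
    · rw [Ideal.span_le, Set.singleton_subset_iff]
      have h1 : g - g' ∈ Ideal.span (s : Set Γ(P, V.1)) :=
        Ideal.subset_span (Finset.mem_insert_self _ _)
      have := Ideal.add_mem _ (Ideal.mem_sup_right (S := L.ideal V) h1) (Ideal.mem_sup_left hg'L)
      simpa using this
  · intro z hzV hz
    have hz' : ∃ f ∈ F, z ∈ P.basicOpen f := by
      by_contra hc
      push Not at hc
      refine hz ((Scheme.IdealSheafData.mem_support_iff_of_mem hzV).mpr ?_)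
      rw [← hF, Scheme.zeroLocus_span, Scheme.mem_zeroLocus_iff]
      exact hc
    obtain ⟨f, hf, hzf⟩ := hz'
    refine ⟨f, hzf, (htgen f hf).trans (Ideal.map_mono (Ideal.span_mono fun u hu => ?_))⟩
    exact Finset.mem_insert_of_mem (Finset.mem_union_right _
      (Finset.mem_biUnion.2 ⟨⟨f, hf⟩, Finset.mem_attach _ _, hu⟩))

/-- Inside a proper scheme of finite presentation containing the blow up, there is an almost blow up
square of finite presentation whose blow up is the given one. -/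
theorem exists_isAlmostBlowUpSquare_in {Z X P B : Scheme.{u}} [CompactSpace X] [QuasiSeparatedSpace X]
    (i : Z ⟶ X) [IsClosedImmersion i] [LocallyOfFinitePresentation i] (p : P ⟶ X) [IsProper p]
    [LocallyOfFinitePresentation p] {bl : B ⟶ X} (hbl : BlowUp.IsBlowUp bl i.ker) (e : B ⟶ P)
    [IsClosedImmersion e] (hep : e ≫ p = bl) :
    ∃ (X' : Scheme.{u}) (j : X' ⟶ P) (_ : IsClosedImmersion j) (_ : LocallyOfFinitePresentation j)
      (e' : B ⟶ X') (_ : IsClosedImmersion e'), e' ≫ j = e ∧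
      e'.ker = supportedOn (i.ker.comap (j ≫ p)) ∧
      HTop.IsAlmostBlowUpSquare (pullback.fst (j ≫ p) i) (pullback.snd (j ≫ p) i) (j ≫ p) i := by
  classical
  have hifg : ∀ U : X.affineOpens, (i.ker.ideal U).FG := (lfp_iff_ker_fg i).1 inferInstance
  haveI : IsProper bl := Groth.Agent.H26Blow.isProper_of_isBlowUp hbl fun x => by
    obtain ⟨U, hU, hxU, -⟩ := exists_isAffineOpen_mem_and_subset
      (TopologicalSpace.Opens.mem_top x)
    exact ⟨⟨U, hU⟩, hxU, hifg _⟩
  haveI : CompactSpace P := QuasiCompact.compactSpace_of_compactSpace p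
  haveI : QuasiSeparatedSpace P := quasiSeparatedSpace_of_quasiSeparated p
  let L := i.ker.comap p
  have hLe : L.comap e = i.ker.comap bl := by
    rw [← Scheme.IdealSheafData.comap_comp, hep]
  have hLfg : ∀ V : P.affineOpens, (L.ideal V).FG := by
    haveI : IsClosedImmersion (pullback.fst p i) := MorphismProperty.pullback_fst _ _ inferInstance
    haveI : LocallyOfFinitePresentation (pullback.fst p i) :=
      MorphismProperty.pullback_fst _ _ inferInstance
    have := (lfp_iff_ker_fg (pullback.fst p i)).1 inferInstance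
    rwa [Scheme.IdealSheafData.ker_fst_of_isClosedImmersion] at this
  have hker : ∀ W : P.affineOpens, W.1 ≤ awayFrom L → (e.ker.ideal W).FG := by
    intro W hW
    let U : X.Opens := awayFrom i.ker
    have hWU : W.1 ≤ p ⁻¹ᵁ U := by rwa [← awayFrom_comap]
    haveI : IsIso (bl ∣_ U) := H29Blow.isIso_morphismRestrict hbl U fun x hx => hx
    haveI : IsIso ((e ≫ p) ∣_ U) := by rw [hep]; infer_instance
    haveI : IsClosedImmersion (e ∣_ (p ⁻¹ᵁ U)) :=
      IsZariskiLocalAtTarget.restrict (P := @IsClosedImmersion) inferInstance _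
    haveI : LocallyOfFiniteType (p ∣_ U) :=
      IsZariskiLocalAtTarget.restrict (P := @LocallyOfFiniteType) inferInstance _
    haveI : LocallyOfFinitePresentation ((e ∣_ (p ⁻¹ᵁ U)) ≫ (p ∣_ U)) := by
      rw [← morphismRestrict_comp]; infer_instance
    haveI : LocallyOfFinitePresentation (e ∣_ (p ⁻¹ᵁ U)) :=
      Groth.Agent.H7Lim.locallyOfFinitePresentation_of_comp (e ∣_ (p ⁻¹ᵁ U)) (p ∣_ U)
    let W' : (p ⁻¹ᵁ U).toScheme.affineOpens :=
      ⟨(p ⁻¹ᵁ U).ι ⁻¹ᵁ W.1, W.2.preimage_of_isOpenImmersion _ (by rwa [Scheme.Opens.opensRange_ι])⟩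
    have h1 := (lfp_iff_ker_fg (e ∣_ (p ⁻¹ᵁ U))).1 inferInstance W'
    rw [Scheme.ker_morphismRestrict_ideal] at h1
    have h2 : (⟨(p ⁻¹ᵁ U).ι ''ᵁ W'.1, W'.2.image_of_isOpenImmersion _⟩ : P.affineOpens) = W :=
      Subtype.ext (by
        change (p ⁻¹ᵁ U).ι ''ᵁ ((p ⁻¹ᵁ U).ι ⁻¹ᵁ W.1) = W.1
        rw [Scheme.Hom.image_preimage_eq_opensRange_inf, Scheme.Opens.opensRange_ι]
        exact inf_of_le_right hWU)
    exact (congrArg (fun A : P.affineOpens => (e.ker.ideal A).FG) h2).mp h1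
  choose V g s hxV hsk hsup hcut using fun x => exists_local_sections e L hLfg
    (hLe ▸ isLocPrincipal_of_isEffCartierIdeal hbl.1) hker x
  obtain ⟨T, hT⟩ := isCompact_univ.elim_finite_subcover (fun x : P => ((V x).1 : Set P))
    (fun x => (V x).1.2) fun x _ => Set.mem_iUnion.2 ⟨x, hxV x⟩
  choose J₀ hJ₀le hJ₀fg hJ₀s using fun x =>
    Groth.Agent.H7Lim.exists_finiteType_le e.ker (V x) (s x) (hsk x)
  let J : P.IdealSheafData := T.sup J₀
  have hJle : J ≤ e.ker := Finset.sup_le fun x _ => hJ₀le x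
  have hJfg : ∀ W : P.affineOpens, (J.ideal W).FG := by
    refine Finset.sup_induction (p := fun K : P.IdealSheafData => ∀ W, (K.ideal W).FG)
      (fun W => by rw [Scheme.IdealSheafData.ideal_bot]; exact Submodule.fg_bot)
      (fun K hK K' hK' W => ?_) fun x _ => hJ₀fg x
    rw [Scheme.IdealSheafData.ideal_sup, Pi.sup_apply]
    exact Submodule.FG.sup (hK W) (hK' W)
  have hsJ : ∀ x ∈ T, Ideal.span (s x : Set Γ(P, (V x).1)) ≤ J.ideal (V x) := fun x hx =>
    Ideal.span_le.2 ((hJ₀s x).trans (Finset.le_sup (f := J₀) hx (V x)))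
  let X' := J.subscheme
  let j : X' ⟶ P := J.subschemeι
  haveI : LocallyOfFinitePresentation j :=
    (lfp_iff_ker_fg j).2 fun W => by rw [Scheme.IdealSheafData.ker_subschemeι]; exact hJfg W
  let b : X' ⟶ X := j ≫ p
  have hjk : j.ker ≤ e.ker := by rw [Scheme.IdealSheafData.ker_subschemeι]; exact hJle
  let e' : B ⟶ X' := IsClosedImmersion.lift j e hjk
  have he' : e' ≫ j = e := IsClosedImmersion.lift_fac _ _ _
  haveI : IsClosedImmersion (e' ≫ j) := by rw [he']; infer_instance
  haveI : IsClosedImmersion e' := IsClosedImmersion.of_comp e' j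
  have hI : i.ker.comap b = L.comap j := Scheme.IdealSheafData.comap_comp _ _ _
  have hlp : IsLocPrincipal (i.ker.comap b) := fun q => by
    obtain ⟨x, hx, hqx⟩ := Set.mem_iUnion₂.1 (hT (Set.mem_univ (j q)))
    refine ⟨⟨j ⁻¹ᵁ (V x).1, (V x).2.preimage j⟩, hqx, (j.app (V x).1).hom (g x), ?_⟩
    rw [hI, H29Blow.ideal_comap L j (V x) ⟨j ⁻¹ᵁ (V x).1, (V x).2.preimage j⟩ le_rfl,
      ← Scheme.Hom.app_eq_appLE]
    have hz : (Ideal.span (s x : Set Γ(P, (V x).1))).map (j.app (V x).1).hom = ⊥ := by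
      rw [Ideal.map_eq_bot_iff_le_ker]
      refine (hsJ x hx).trans (le_of_eq ?_)
      exact (J.ker_subschemeι_app (V x)).symm
    have := congrArg (Ideal.map (j.app (V x).1).hom) (hsup x)
    rw [Ideal.map_sup, Ideal.map_sup, hz, sup_bot_eq, sup_bot_eq, Ideal.map_span,
      Set.image_singleton] at this
    exact this
  have he'b : e' ≫ b = bl := by
    change e' ≫ j ≫ p = bl
    rw [← Category.assoc, he', hep]
  have hle1 : supportedOn (i.ker.comap b) ≤ e'.ker := supportedOn_le_ker e' _ (by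
    rw [← Scheme.IdealSheafData.comap_comp, he'b]; exact hbl.1)
  let A := awayFrom (i.ker.comap b)
  let r : A.toScheme ⟶ P := A.ι ≫ j
  have hr : e.ker ≤ r.ker := by
    have hJr : J.comap r = ⊥ := by
      refine le_bot_iff.1 ((Scheme.IdealSheafData.le_map_iff_comap_le (f := r)).1 ?_)
      refine le_trans ?_ (le_of_eq (Scheme.IdealSheafData.map_bot r).symm)
      exact le_trans (le_of_eq J.ker_subschemeι.symm) (Scheme.Hom.le_ker_comp A.ι j)
    refine le_trans ?_ (le_of_eq (Scheme.IdealSheafData.map_bot r))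
    refine (Scheme.IdealSheafData.le_map_iff_comap_le (f := r)).2 ?_
    rw [← hJr]
    refine le_of_eq (H29Blow.ext_of_forall_exists fun a => ?_)
    obtain ⟨x, hx, hax⟩ := Set.mem_iUnion₂.1 (hT (Set.mem_univ (r a)))
    have haway : r a ∈ awayFrom L := by
      have ha : A.ι a ∈ j ⁻¹ᵁ awayFrom L := by
        rw [← awayFrom_comap, ← hI]
        exact a.2
      exact ha
    obtain ⟨f, hzf, hfle⟩ := hcut x (r a) hax haway
    obtain ⟨W, hW, haW, hWle⟩ := exists_isAffineOpen_mem_and_subset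
      (U := r ⁻¹ᵁ P.basicOpen f) (x := a) hzf
    refine ⟨⟨W, hW⟩, haW, ?_⟩
    rw [H29Blow.ideal_comap _ r ⟨P.basicOpen f, (V x).2.basicOpen f⟩ ⟨W, hW⟩ hWle,
      H29Blow.ideal_comap _ r ⟨P.basicOpen f, (V x).2.basicOpen f⟩ ⟨W, hW⟩ hWle]
    refine congrArg _ (le_antisymm (hfle.trans ?_) (hJle _))
    refine (Ideal.map_mono (hsJ x hx)).trans (le_of_eq ?_)
    exact J.map_ideal (U := ⟨P.basicOpen f, (V x).2.basicOpen f⟩) (V := V x) (P.basicOpen_le f)
  have hle2 : e'.ker ≤ supportedOn (i.ker.comap b) := by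
    have h1 : IsClosedImmersion.lift e r hr ≫ e' = A.ι := by
      rw [← cancel_mono j, Category.assoc, he']
      exact IsClosedImmersion.lift_fac _ _ _
    change e'.ker ≤ A.ι.ker
    rw [← h1]
    exact Scheme.Hom.le_ker_comp _ _
  have hkeq : e'.ker = (supportedOn (i.ker.comap b)).subschemeι.ker := by
    rw [Scheme.IdealSheafData.ker_subschemeι]; exact le_antisymm hle2 hle1
  haveI := IsClosedImmersion.isIso_lift e' (supportedOn (i.ker.comap b)).subschemeι hkeq
  refine ⟨X', j, inferInstance, inferInstance, e', inferInstance, he', le_antisymm hle2 hle1,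
    ⟨inferInstance, inferInstance, IsPullback.of_hasPullback b i, hlp, inferInstance,
      inferInstance, ?_⟩⟩
  have := isBlowUp_comp_iso hbl
    (IsClosedImmersion.lift e' (supportedOn (i.ker.comap b)).subschemeι hkeq.le)
  rwa [← he'b, IsClosedImmersion.lift_fac_assoc] at this

/-- Over a qcqs scheme every centre of finite presentation has an almost blow up. -/
theorem exists_isAlmostBlowUpSquare {Z X : Scheme.{u}} [CompactSpace X] [QuasiSeparatedSpace X]
    (i : Z ⟶ X) [IsClosedImmersion i] [LocallyOfFinitePresentation i] :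
    ∃ (E X' : Scheme.{u}) (e : E ⟶ X') (π : E ⟶ Z) (b : X' ⟶ X),
      HTop.IsAlmostBlowUpSquare e π b i := by
  have hifg : ∀ U : X.affineOpens, (i.ker.ideal U).FG := (lfp_iff_ker_fg i).1 inferInstance
  obtain ⟨B, bl, hbl⟩ := Groth.Agent.H26Blow.exists_isBlowUp i.ker
  haveI : IsProper bl := Groth.Agent.H26Blow.isProper_of_isBlowUp hbl fun x => by
    obtain ⟨U, hU, hxU, -⟩ := exists_isAffineOpen_mem_and_subset
      (TopologicalSpace.Opens.mem_top x)
    exact ⟨⟨U, hU⟩, hxU, hifg _⟩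
  obtain ⟨ι, hι, hιc, D, c, hc, ec, -, hD⟩ := Groth.Agent.S2079.result bl
  obtain ⟨k⟩ := IsCofiltered.nonempty (C := ι)
  obtain ⟨hπ, hp, hpf⟩ := hD k
  let P := (D.obj k).left
  let p : P ⟶ X := (D.obj k).hom
  let e : B ⟶ P := ec.inv.left ≫ (c.π.app k).left
  haveI : IsProper p := hp
  haveI : LocallyOfFinitePresentation p := hpf
  haveI : IsClosedImmersion (c.π.app k).left := hπ
  haveI : IsClosedImmersion e := by
    change IsClosedImmersion (ec.inv.left ≫ (c.π.app k).left)
    infer_instance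
  have hep : e ≫ p = bl := by
    change (ec.inv.left ≫ (c.π.app k).left) ≫ (D.obj k).hom = bl
    rw [Category.assoc, Over.w (c.π.app k)]
    exact Over.w ec.inv
  obtain ⟨X', j, _, _, e', _, -, -, h⟩ := exists_isAlmostBlowUpSquare_in i p hbl e hep
  exact ⟨_, X', _, _, _, h⟩

end Groth.Agent.H18HTop
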