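import Mathlib
import Groth.Agent.H11Ample.ImmersionPn
import Groth.Agent.H11Ample.RelQuasiAffine
import Groth.Agent.H11Proj.Finite
import Groth.Agent.H27Weil.Geometry
import Groth.Agent.H18HTop.SpecLiftDVR
import Groth.Agent.H7Lim.IdealExtension
import Groth.Agent.H7Lim.DescendUnramified
import Groth.Agent.H18HTop.AlmostBlowUpExists

/-!
Affine schemes of finite presentation over an affine base are open in proper schemes of finite
presentation.
-/

set_option autoImplicit false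
set_option backward.isDefEq.respectTransparency false
universe u

open CategoryTheory CategoryTheory.Limits AlgebraicGeometry TopologicalSpace

namespace Groth.Agent.H18HTop

theorem range_restrict {X Y : Scheme.{u}} (f : X ⟶ Y) (U : Y.Opens) :
    Set.range (f ∣_ U) = Subtype.val ⁻¹' Set.range f := by
  rw [morphismRestrict_base]
  exact Set.range_restrictPreimage _ _

theorem exists_open_in_proper_fp {C T : Scheme.{u}} (q : C ⟶ T) [IsAffine C] [IsAffine T]
    [LocallyOfFinitePresentation q] :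
    ∃ (P : Scheme.{u}) (p : P ⟶ T) (j : C ⟶ P), IsProper p ∧ LocallyOfFinitePresentation p ∧
      IsOpenImmersion j ∧ j ≫ p = q := by
  classical
  obtain ⟨n, i, hi, hiq⟩ := Groth.Agent.H11Ample.exists_immersion_projSpaceOver q
    (Groth.Agent.H11Ample.isQuasiAffine_iff_isAmple.1 inferInstance : CohB1.IsAmple (Coh.structureModule C))
  haveI := hi
  let P₀ := CohB1.ProjSpaceOver n T
  let p₀ : P₀ ⟶ T := CohB1.ProjSpaceOver.toBase n T
  haveI : IsProper p₀ := H27Weil.isProper_toBase n T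
  haveI : LocallyOfFinitePresentation p₀ := by
    haveI := H27Weil.isProper_toSpec n (ULift.{u} ℤ)
    haveI : IsNoetherianRing (ULift.{u} ℤ) := isNoetherianRing_of_ringEquiv ℤ ULift.ringEquiv.symm
    haveI : LocallyOfFinitePresentation (CohB1.ProjSpace.toSpec n (ULift.{u} ℤ)) :=
      locallyOfFinitePresentation_of_noetherian _
    exact MorphismProperty.pullback_snd _ _ inferInstance
  haveI : CompactSpace P₀ := QuasiCompact.compactSpace_of_compactSpace p₀
  haveI : QuasiSeparatedSpace P₀ := quasiSeparatedSpace_of_quasiSeparated p₀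
  haveI : QuasiCompact i := by
    haveI : QuasiCompact (i ≫ p₀) := by
      change QuasiCompact (i ≫ CohB1.ProjSpaceOver.toBase n T); rw [hiq]; infer_instance
    exact QuasiCompact.of_comp i p₀
  let O : P₀.Opens := i.coborderRange
  have hiO : Set.range i ⊆ O := fun y hy => subset_coborder hy
  have hcl : IsClosedMap i.liftCoborder := i.liftCoborder.isClosedEmbedding.isClosedMap
  -- finitely many affines in `O` covering the image
  have hA : ∀ c : C, ∃ U : P₀.Opens, IsAffineOpen U ∧ i c ∈ U ∧ U ≤ O := fun c =>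
    exists_isAffineOpen_mem_and_subset (hiO ⟨c, rfl⟩)
  choose U hU hcU hUO using hA
  obtain ⟨S, hS⟩ := isCompact_univ.elim_finite_subcover (fun c => ((i ⁻¹ᵁ U c : C.Opens) : Set C))
    (fun c => (i ⁻¹ᵁ U c).2) fun c _ => Set.mem_iUnion.2 ⟨c, hcU c⟩
  -- `i` is a finitely presented closed immersion over `O`
  have hfg : ∀ c, (i.ker.ideal ⟨U c, hU c⟩).FG := by
    intro c
    haveI : LocallyOfFinitePresentation ((i ∣_ O) ≫ O.ι ≫ p₀) := by
      rw [← Category.assoc, morphismRestrict_ι, Category.assoc, show i ≫ p₀ = q from hiq]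
      infer_instance
    haveI : LocallyOfFinitePresentation (i ∣_ O) :=
      Groth.Agent.H7Lim.locallyOfFinitePresentation_of_comp (i ∣_ O) (O.ι ≫ p₀)
    haveI : IsClosedImmersion (i ∣_ O) := by
      haveI : IsPreimmersion (i ∣_ O) := inferInstance
      refine .of_isPreimmersion _ ?_
      rw [range_restrict]
      exact isClosed_preimage_val_coborder
    let W' : O.toScheme.affineOpens :=
      ⟨O.ι ⁻¹ᵁ U c, (hU c).preimage_of_isOpenImmersion _ (by rw [Scheme.Opens.opensRange_ι]; exact hUO c)⟩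
    have h1 := (lfp_iff_ker_fg (i ∣_ O)).1 inferInstance W'
    rw [Scheme.ker_morphismRestrict_ideal] at h1
    have h2 : (⟨O.ι ''ᵁ W'.1, W'.2.image_of_isOpenImmersion _⟩ : P₀.affineOpens) = ⟨U c, hU c⟩ :=
      Subtype.ext (by
        change O.ι ''ᵁ (O.ι ⁻¹ᵁ U c) = U c
        rw [Scheme.Hom.image_preimage_eq_opensRange_inf, Scheme.Opens.opensRange_ι]
        exact inf_of_le_right (hUO c))
    exact (congrArg (fun A : P₀.affineOpens => (i.ker.ideal A).FG) h2).mp h1
  choose s hs using hfg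
  choose J₀ hJ₀le hJ₀fg hJ₀s using fun c =>
    Groth.Agent.H7Lim.exists_finiteType_le i.ker ⟨U c, hU c⟩ (s c)
      (fun x hx => hs c ▸ Ideal.subset_span hx)
  let J : P₀.IdealSheafData := S.sup J₀
  have hJle : J ≤ i.ker := Finset.sup_le fun c _ => hJ₀le c
  have hJfg : ∀ W : P₀.affineOpens, (J.ideal W).FG := by
    refine Finset.sup_induction (p := fun K : P₀.IdealSheafData => ∀ W, (K.ideal W).FG)
      (fun W => by rw [Scheme.IdealSheafData.ideal_bot]; exact Submodule.fg_bot)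
      (fun K hK K' hK' W => ?_) fun x _ => hJ₀fg x
    rw [Scheme.IdealSheafData.ideal_sup, Pi.sup_apply]
    exact Submodule.FG.sup (hK W) (hK' W)
  have hJeq : ∀ c ∈ S, i.ker.ideal ⟨U c, hU c⟩ ≤ J.ideal ⟨U c, hU c⟩ := fun c hc =>
    (hs c).symm.trans_le (Ideal.span_le.2 ((hJ₀s c).trans (Finset.le_sup (f := J₀) hc ⟨U c, hU c⟩)))
  let ιJ : J.subscheme ⟶ P₀ := J.subschemeι
  haveI : LocallyOfFinitePresentation ιJ :=
    (lfp_iff_ker_fg ιJ).2 fun W => by rw [Scheme.IdealSheafData.ker_subschemeι]; exact hJfg W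
  have hle : ιJ.ker ≤ i.ker := by rw [Scheme.IdealSheafData.ker_subschemeι]; exact hJle
  let j : C ⟶ J.subscheme := IsClosedImmersion.lift ιJ i hle
  have hj : j ≫ ιJ = i := IsClosedImmersion.lift_fac _ _ _
  haveI : IsImmersion (j ≫ ιJ) := by rw [hj]; exact hi
  haveI : IsImmersion j := IsImmersion.of_comp j ιJ
  haveI : QuasiCompact (j ≫ ιJ) := by rw [hj]; infer_instance
  haveI : QuasiCompact j := QuasiCompact.of_comp j ιJ
  refine ⟨J.subscheme, ιJ ≫ p₀, j, inferInstance, inferInstance, ?_,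
    by rw [← Category.assoc, hj]; exact hiq⟩
  let W : J.subscheme.Opens := ⨆ c ∈ S, ιJ ⁻¹ᵁ U c
  have hWtop : j ⁻¹ᵁ W = ⊤ := top_le_iff.1 fun c _ => by
    obtain ⟨d, hd, hcd⟩ := Set.mem_iUnion₂.1 (hS (Set.mem_univ c))
    change j c ∈ W
    refine Opens.mem_iSup.2 ⟨d, Opens.mem_iSup.2 ⟨hd, ?_⟩⟩
    change ιJ (j c) ∈ U d
    rw [← Scheme.Hom.comp_apply, hj]
    exact hcd
  have hWO : W ≤ ιJ ⁻¹ᵁ O := iSup₂_le fun c _ x hx => hUO c hx
  haveI : IsClosedImmersion (j ∣_ W) := by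
    haveI : IsPreimmersion (j ∣_ W) := inferInstance
    refine .of_isPreimmersion _ ?_
    rw [range_restrict]
    have h1 : Subtype.val ⁻¹' Set.range j =
        (fun w : W => (⟨ιJ w.1, hWO w.2⟩ : O)) ⁻¹' (Subtype.val ⁻¹' Set.range i) := by
      ext w
      constructor
      · rintro ⟨c, hc⟩
        exact ⟨c, by rw [← hj, Scheme.Hom.comp_apply, hc]⟩
      · rintro ⟨c, hc⟩
        refine ⟨c, ιJ.isClosedEmbedding.injective ?_⟩
        rw [← Scheme.Hom.comp_apply, hj]
        exact hc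
    rw [h1]
    exact isClosed_preimage_val_coborder.preimage
      (Continuous.subtype_mk (ιJ.continuous.comp continuous_subtype_val) _)
  have hker : (j ∣_ W).ker = ⊥ := by
    refine H29Blow.ext_of_forall_exists fun w => ?_
    obtain ⟨c, hc⟩ := Opens.mem_iSup.1 w.2
    obtain ⟨hcS, hwc⟩ := Opens.mem_iSup.1 hc
    have hle' : ιJ ⁻¹ᵁ U c ≤ W := le_iSup₂ (f := fun c (_ : c ∈ S) => ιJ ⁻¹ᵁ U c) c hcS
    have haff : IsAffineOpen (ιJ ⁻¹ᵁ U c) := (hU c).preimage ιJ
    refine ⟨⟨W.ι ⁻¹ᵁ (ιJ ⁻¹ᵁ U c), haff.preimage_of_isOpenImmersion _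
      (by rw [Scheme.Opens.opensRange_ι]; exact hle')⟩, hwc, ?_⟩
    rw [Scheme.ker_morphismRestrict_ideal]
    have h2 : (⟨W.ι ''ᵁ (W.ι ⁻¹ᵁ (ιJ ⁻¹ᵁ U c)), (haff.preimage_of_isOpenImmersion _
        (by rw [Scheme.Opens.opensRange_ι]; exact hle')).image_of_isOpenImmersion _⟩ :
          J.subscheme.affineOpens) = ⟨ιJ ⁻¹ᵁ U c, haff⟩ :=
      Subtype.ext (by
        change W.ι ''ᵁ (W.ι ⁻¹ᵁ (ιJ ⁻¹ᵁ U c)) = ιJ ⁻¹ᵁ U c
        rw [Scheme.Hom.image_preimage_eq_opensRange_inf, Scheme.Opens.opensRange_ι]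
        exact inf_of_le_right hle')
    have h3 : j.ker.ideal ⟨ιJ ⁻¹ᵁ U c, haff⟩ = ⊥ := by
      rw [eq_bot_iff]
      intro x hx
      rw [Scheme.Hom.ker_apply, RingHom.mem_ker] at hx
      obtain ⟨y, rfl⟩ := J.subschemeι_app_surjective ⟨U c, hU c⟩ x
      rw [Ideal.mem_bot, ← RingHom.mem_ker, Scheme.IdealSheafData.ker_subschemeι_app]
      refine hJeq c hcS ?_
      rw [Scheme.Hom.ker_apply, RingHom.mem_ker, Scheme.Hom.congr_app hj.symm (U c)]
      simp only [Scheme.Hom.comp_app, CommRingCat.comp_apply]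
      erw [hx, map_zero]
    rw [Scheme.IdealSheafData.ideal_bot, Pi.bot_apply]
    revert h3
    rw [← h2]
    exact id
  haveI : IsIso (j ∣_ W) := by
    have h := IsClosedImmersion.isIso_lift (𝟙 W.toScheme) (j ∣_ W)
      (by rw [hker, Scheme.Hom.ker_eq_bot_of_isIso])
    have e := IsClosedImmersion.lift_fac (𝟙 W.toScheme) (j ∣_ W)
      (by rw [hker, Scheme.Hom.ker_eq_bot_of_isIso])
    rw [Category.comp_id] at e
    rw [← e]
    exact h
  haveI : IsIso (j ⁻¹ᵁ W).ι := by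
    rw [hWtop]
    exact inferInstanceAs (IsIso C.topIso.hom)
  have : j = inv (j ⁻¹ᵁ W).ι ≫ (j ∣_ W) ≫ W.ι := by
    rw [morphismRestrict_ι, IsIso.inv_hom_id_assoc]
  rw [this]
  infer_instance

end Groth.Agent.H18HTop
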