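import Groth.Agent.H18HTop.StandardPh
import Groth.Agent.H7Lim.Proper.Chow

/-!
# Composition of standard ph coverings
-/

set_option autoImplicit false
set_option linter.style.haveILetI false

universe w w' w'' u

open CategoryTheory Limits AlgebraicGeometry HTop TopologicalSpace

namespace Groth.Agent.H18HTop

set_option backward.isDefEq.respectTransparency false

variable {U T : Scheme.{u}}

/-- A proper surjection over a quasi-compact open extends, after refining it, to one over the whole. -/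
theorem exists_extend (f : U ⟶ T) [CompactSpace T] [QuasiSeparatedSpace T] [IsProper f] {O : U.Opens}
    (hO : IsCompact (O : Set U)) {W : Scheme.{u}} (π : W ⟶ O) [IsProper π] [Surjective π] :
    ∃ (Z : Scheme.{u}) (q : Z ⟶ U), IsProper q ∧ Surjective q ∧
      ∃ h : ((q ⁻¹ᵁ O : Z.Opens) : Scheme.{u}) ⟶ W, h ≫ π = q ∣_ O := by
  haveI : QuasiSeparatedSpace U := quasiSeparatedSpace_of_quasiSeparated f
  haveI : CompactSpace (O : Scheme.{u}) := isCompact_iff_compactSpace.1 hO
  haveI : QuasiCompact O.ι := inferInstance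
  obtain ⟨n, W', π', j, hj, hjS, hπ', hπ's⟩ := H7Lim.exists_chow_qcqs (π ≫ O.ι ≫ f)
  haveI : IsProper (CohB1.ProjSpaceOver.toBase n T) := H27Weil.isProper_toBase n T
  let b := CohB1.ProjSpaceOver.toBase n T
  let w := π' ≫ π ≫ O.ι
  let m : W' ⟶ pullback b f := pullback.lift j w (by rw [hjS]; simp [w])
  have hm₁ : m ≫ pullback.fst b f = j := pullback.lift_fst _ _ _
  have hm₂ : m ≫ pullback.snd b f = w := pullback.lift_snd _ _ _
  haveI : IsImmersion (m ≫ pullback.fst b f) := by rw [hm₁]; exact hj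
  haveI : IsImmersion m := IsImmersion.of_comp m (pullback.fst b f)
  haveI : QuasiCompact (m ≫ pullback.snd b f) := by rw [hm₂]; infer_instance
  haveI : QuasiCompact m := QuasiCompact.of_comp m (pullback.snd b f)
  -- the image is closed over `O`
  let PO := pullback.snd b f ⁻¹ᵁ O
  have hrange : Set.range m ⊆ (PO : Set _) := by
    rintro _ ⟨x, rfl⟩
    show pullback.snd b f (m x) ∈ O
    rw [← Scheme.Hom.comp_apply, hm₂]
    exact (π (π' x)).2
  let m' : W' ⟶ PO := IsOpenImmersion.lift PO.ι m (by rw [Scheme.Opens.range_ι]; exact hrange)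
  have hm' : m' ≫ PO.ι = m := IsOpenImmersion.lift_fac _ _ _
  have hm'O : m' ≫ (pullback.snd b f ∣_ O) = π' ≫ π := by
    rw [← cancel_mono O.ι, Category.assoc, morphismRestrict_ι, ← Category.assoc, hm', hm₂]
    simp [w]
  haveI : IsProper (m' ≫ (pullback.snd b f ∣_ O)) := by rw [hm'O]; infer_instance
  haveI : IsProper m' := IsProper.of_comp m' (pullback.snd b f ∣_ O)
  have hcl : ∀ z : m.image, pullback.snd b f (m.imageι z) ∈ O → z ∈ Set.range m.toImage := by
    intro z hz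
    have h1 : m.imageι z ∈ closure (Set.range m) := by
      have : Set.range m.imageι = closure (Set.range m) := by
        rw [Scheme.IdealSheafData.range_subschemeι, m.support_ker]
      exact this ▸ Set.mem_range_self z
    have h2 : (⟨m.imageι z, hz⟩ : PO) ∈ closure (Set.range m') := by
      rw [PO.ι.isEmbedding.closure_eq_preimage_closure_image, Set.mem_preimage, ← Set.range_comp,
        ← TopCat.coe_comp, ← Scheme.Hom.comp_base, hm']
      exact h1
    rw [IsClosed.closure_eq m'.isClosedMap.isClosed_range] at h2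
    obtain ⟨x, hx⟩ := h2
    refine ⟨x, m.imageι.isEmbedding.injective ?_⟩
    rw [← Scheme.Hom.comp_apply, Scheme.Hom.toImage_imageι]
    refine (congrArg (fun (r : W' ⟶ pullback b f) => r x) hm').symm.trans ?_
    exact (Scheme.Hom.comp_apply m' PO.ι x).trans (congrArg PO.ι hx)
  let C := (Scheme.IdealSheafData.vanishingIdeal (⟨(O : Set U)ᶜ, O.2.isClosed_compl⟩ : Closeds U))
  have hC : Set.range C.subschemeι = (O : Set U)ᶜ := by
    rw [Scheme.IdealSheafData.range_subschemeι, Scheme.IdealSheafData.coe_support_vanishingIdeal]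
    rfl
  let q₀ := m.imageι ≫ pullback.snd b f
  let q : m.image ⨿ C.subscheme ⟶ U := coprod.desc q₀ C.subschemeι
  haveI : IsProper q₀ := inferInstance
  haveI hq : IsProper q := by
    have e : q = coprod.map q₀ C.subschemeι ≫ coprod.desc (𝟙 U) (𝟙 U) := by simp [q]
    haveI : IsProper (coprod.map q₀ C.subschemeι) :=
      IsZariskiLocalAtTarget.coprodMap (P := @IsProper) _ _ inferInstance inferInstance
    rw [e]
    infer_instance
  let k : W' ⟶ m.image ⨿ C.subscheme := m.toImage ≫ coprod.inl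
  have hk : k ≫ q = π' ≫ π ≫ O.ι := by
    simp only [k, q, q₀, Category.assoc, coprod.inl_desc, Scheme.Hom.toImage_imageι_assoc, hm₂, w]
  have hr : Set.range (q ⁻¹ᵁ O).ι ⊆ Set.range k := by
    rw [Scheme.Opens.range_ι]
    intro z hz
    obtain ⟨(a | a), rfl⟩ := (coprodMk m.image C.subscheme).surjective z
    · rw [coprodMk_inl] at hz ⊢
      have hz' : pullback.snd b f (m.imageι a) ∈ O := by
        have : q ((coprod.inl : m.image ⟶ m.image ⨿ C.subscheme) a) ∈ O := hz
        rw [← Scheme.Hom.comp_apply, coprod.inl_desc] at this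
        exact this
      obtain ⟨x, rfl⟩ := hcl a hz'
      exact ⟨x, rfl⟩
    · rw [coprodMk_inr] at hz
      have : q ((coprod.inr : C.subscheme ⟶ m.image ⨿ C.subscheme) a) ∈ O := hz
      rw [← Scheme.Hom.comp_apply, coprod.inr_desc] at this
      exact absurd this (hC ▸ Set.mem_range_self a : C.subschemeι a ∈ (O : Set U)ᶜ)
  refine ⟨_, q, hq, ⟨fun x => ?_⟩, IsOpenImmersion.lift k (q ⁻¹ᵁ O).ι hr ≫ π', ?_⟩
  · by_cases hx : x ∈ O
    · obtain ⟨a, ha⟩ := π.surjective ⟨x, hx⟩
      obtain ⟨a', rfl⟩ := π'.surjective a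
      refine ⟨k a', ?_⟩
      rw [← Scheme.Hom.comp_apply, hk, Scheme.Hom.comp_apply, Scheme.Hom.comp_apply, ha]
      rfl
    · obtain ⟨c, rfl⟩ : x ∈ Set.range C.subschemeι := hC ▸ hx
      exact ⟨(coprod.inr : C.subscheme ⟶ m.image ⨿ C.subscheme) c, by rw [← Scheme.Hom.comp_apply, coprod.inr_desc]⟩
  · rw [← cancel_mono O.ι, morphismRestrict_ι, Category.assoc, Category.assoc, ← hk,
      IsOpenImmersion.lift_fac_assoc]

/-- Simultaneous extension of proper surjections given over finitely many quasi-compact opens. -/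
theorem exists_extend_all (f : U ⟶ T) [CompactSpace T] [QuasiSeparatedSpace T] [IsProper f] {ι : Type w}
    [Finite ι] (O : ι → U.Opens) (hO : ∀ i, IsCompact (O i : Set U)) (W : ι → Scheme.{u})
    (π : ∀ i, W i ⟶ O i) (hp : ∀ i, IsProper (π i)) (hs : ∀ i, Surjective (π i)) :
    ∃ (Z : Scheme.{u}) (q : Z ⟶ U), IsProper q ∧ Surjective q ∧
      ∀ i, ∃ h : ((q ⁻¹ᵁ O i : Z.Opens) : Scheme.{u}) ⟶ W i, h ≫ π i = q ∣_ O i := by
  classical
  haveI := Fintype.ofFinite ι
  suffices H : ∀ s : Finset ι, ∃ (Z : Scheme.{u}) (q : Z ⟶ U), IsProper q ∧ Surjective q ∧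
      ∀ i ∈ s, ∃ h : ((q ⁻¹ᵁ O i : Z.Opens) : Scheme.{u}) ⟶ W i, h ≫ π i = q ∣_ O i by
    obtain ⟨Z, q, h₁, h₂, h₃⟩ := H Finset.univ
    exact ⟨Z, q, h₁, h₂, fun i => h₃ i (Finset.mem_univ i)⟩
  intro s
  induction s using Finset.induction with
  | empty => exact ⟨U, 𝟙 U, inferInstance, inferInstance, fun i hi => absurd hi (Finset.notMem_empty i)⟩
  | insert a s ha ih =>
    obtain ⟨Z₁, q₁, h₁, h₁s, H₁⟩ := ih
    haveI := hp a; haveI := hs a
    obtain ⟨Z₂, q₂, h₂, h₂s, H₂⟩ := exists_extend f (hO a) (π a)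
    refine ⟨pullback q₁ q₂, pullback.fst q₁ q₂ ≫ q₁, inferInstance, inferInstance, fun i hi => ?_⟩
    rcases Finset.mem_insert.1 hi with rfl | hi
    · obtain ⟨h, hh⟩ := H₂
      refine ⟨(pullback.snd q₁ q₂).resLE (q₂ ⁻¹ᵁ O i) _ (fun x hx => show q₂ (pullback.snd q₁ q₂ x) ∈ O i by
          rw [← Scheme.Hom.comp_apply, ← pullback.condition]; exact hx) ≫ h, ?_⟩
      rw [← cancel_mono (O i).ι, Category.assoc, Category.assoc, reassoc_of% hh, morphismRestrict_ι, morphismRestrict_ι,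
        Scheme.Hom.resLE_comp_ι_assoc, pullback.condition]
    · obtain ⟨h, hh⟩ := H₁ i hi
      refine ⟨(pullback.fst q₁ q₂).resLE (q₁ ⁻¹ᵁ O i) _ (fun x hx => by exact hx) ≫ h, ?_⟩
      rw [← cancel_mono (O i).ι, Category.assoc, Category.assoc, reassoc_of% hh, morphismRestrict_ι, morphismRestrict_ι,
        Scheme.Hom.resLE_comp_ι_assoc]

/-- A proper surjection which is Zariski locally refined by a family gives a standard ph covering. -/
theorem exists_standardPh_of_proper [IsAffine T] {Z T₀ : Scheme.{u}} (q : Z ⟶ T) [IsProper q] [Surjective q]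
    (g : T ⟶ T₀) (E : PreZeroHypercover.{w} T₀)
    (h : ∀ z : Z, ∃ (V : Scheme.{u}) (v : V ⟶ Z), IsOpenImmersion v ∧ z ∈ Set.range v ∧
      ∃ (i : E.I₀) (l : V ⟶ E.X i), l ≫ E.f i = v ≫ q ≫ g) :
    ∃ F : PreZeroHypercover.{0} T, IsStandardPh F ∧ RefinesOver g F E := by
  haveI : CompactSpace Z := QuasiCompact.compactSpace_of_compactSpace q
  choose V v hv hz i l hl using h
  have hA : ∀ z : Z, ∃ A : Z.Opens, IsAffineOpen A ∧ z ∈ A ∧ (A : Set Z) ⊆ Set.range (v z) := fun z => by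
    haveI := hv z
    exact exists_isAffineOpen_mem_and_subset (U := (v z).opensRange) (hz z)
  choose A hA hzA hAv using hA
  obtain ⟨t, ht⟩ := isCompact_univ.elim_finite_subcover (fun z => (A z : Set Z)) (fun z => (A z).2)
    (fun z _ => Set.mem_iUnion.2 ⟨z, hzA z⟩)
  let e := t.equivFin.symm
  refine ⟨⟨Fin t.card, fun k => A (e k).1, fun k => (A (e k).1).ι ≫ q⟩,
    ⟨‹_›, inferInstanceAs (Finite (Fin t.card)), fun k => hA _,
      ⟨Z, q, fun k => (A (e k).1).ι, ‹_›, ‹_›, fun k => (inferInstance : IsOpenImmersion (A (e k).1).ι),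
        fun k => rfl, fun x => ?_⟩⟩, fun k => ?_⟩
  · obtain ⟨z, hzt, hxz⟩ := Set.mem_iUnion₂.1 (ht (Set.mem_univ x))
    obtain ⟨k, hk⟩ := e.surjective ⟨z, hzt⟩
    refine ⟨k, ⟨x, by rw [hk]; exact hxz⟩, rfl⟩
  · haveI := hv (e k).1
    refine ⟨i (e k).1, IsOpenImmersion.lift (v (e k).1) (A (e k).1).ι
      (by rw [Scheme.Opens.range_ι]; exact hAv _) ≫ l (e k).1, ?_⟩
    rw [Category.assoc, hl, IsOpenImmersion.lift_fac_assoc]
    exact (Category.assoc _ _ _).symm

/-- Composites of standard ph coverings are refined by standard ph coverings. -/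
theorem exists_standardPh_bind {T₀ : Scheme.{u}} (g : T ⟶ T₀) (E : PreZeroHypercover.{w} T₀)
    {G : PreZeroHypercover.{w'} T} (hG : IsStandardPh G) {H : ∀ j, PreZeroHypercover.{w''} (G.X j)}
    (hH : ∀ j, IsStandardPh (H j))
    (hR : ∀ j k, ∃ (i : E.I₀) (l : (H j).X k ⟶ E.X i), l ≫ E.f i = (H j).f k ≫ G.f j ≫ g) :
    ∃ F : PreZeroHypercover.{0} T, IsStandardPh F ∧ RefinesOver g F E := by
  haveI := hG.isAffine
  haveI := hG.finite_index
  obtain ⟨U, f, ι, hf, hfs, ho, hι, hcov⟩ := hG.exists_proper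
  haveI := ho
  haveI := hG.isAffine_obj
  choose W p ν hp hps hν hνp hνcov using fun j => (hH j).exists_proper
  have hO : ∀ j, IsCompact ((ι j).opensRange : Set U) := fun j => isCompact_range (ι j).continuous
  obtain ⟨Z, q, hq, hqs, hh⟩ := exists_extend_all f (fun j => (ι j).opensRange) hO W
    (fun j => p j ≫ (ι j).isoOpensRange.hom)
    (fun j => by haveI := hp j; infer_instance) (fun j => by haveI := hps j; infer_instance)
  haveI := hq; haveI := hqs; haveI := hf; haveI := hfs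
  refine exists_standardPh_of_proper (q ≫ f) g E fun z => ?_
  obtain ⟨j, hj⟩ := hcov (q z)
  obtain ⟨h, hh⟩ := hh j
  let z' : (q ⁻¹ᵁ (ι j).opensRange : Z.Opens) := ⟨z, hj⟩
  obtain ⟨k, y, hy⟩ := hνcov j (h z')
  haveI := hν j k
  obtain ⟨x, hx, -⟩ := Scheme.Pullback.exists_preimage_pullback (f := h) (g := ν j k) z' y hy.symm
  obtain ⟨i, l, hl⟩ := hR j k
  refine ⟨pullback h (ν j k), pullback.fst _ _ ≫ (q ⁻¹ᵁ (ι j).opensRange).ι, inferInstance,
    ⟨x, by rw [Scheme.Hom.comp_apply, hx]; rfl⟩, i, pullback.snd _ _ ≫ l, ?_⟩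
  have key : h ≫ p j ≫ ι j = (q ⁻¹ᵁ (ι j).opensRange).ι ≫ q := by
    rw [← morphismRestrict_ι, ← hh, Category.assoc, Category.assoc, Scheme.Hom.isoOpensRange_hom_ι]
  rw [Category.assoc, hl, ← hι j, ← hνp j k, Category.assoc, ← pullback.condition_assoc,
    Category.assoc, Category.assoc, reassoc_of% key, Category.assoc]

/-- Standard ph coverings may be constructed Zariski locally. -/
theorem exists_standardPh_of_local [IsAffine T] {T₀ : Scheme.{u}} (g : T ⟶ T₀) (E : PreZeroHypercover.{w} T₀)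
    (h : ∀ x : T, ∃ W : T.Opens, x ∈ W ∧ IsAffineOpen W ∧ ∃ F : PreZeroHypercover.{0} (W : Scheme.{u}),
      IsStandardPh F ∧ RefinesOver (W.ι ≫ g) F E) :
    ∃ F : PreZeroHypercover.{0} T, IsStandardPh F ∧ RefinesOver g F E := by
  choose W hx hW F hF hR using h
  obtain ⟨t, ht⟩ := isCompact_univ.elim_finite_subcover (fun x => (W x : Set T)) (fun x => (W x).2)
    (fun x _ => Set.mem_iUnion.2 ⟨x, hx x⟩)
  let e := t.equivFin.symm
  refine exists_standardPh_bind g E
    (G := ⟨Fin t.card, fun k => W (e k).1, fun k => (W (e k).1).ι⟩)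
    ⟨‹_›, inferInstanceAs (Finite (Fin t.card)), fun k => hW _,
      ⟨T, 𝟙 T, fun k => (W (e k).1).ι, inferInstance, inferInstance,
        fun k => (inferInstance : IsOpenImmersion (W (e k).1).ι), fun k => Category.comp_id _, fun x => ?_⟩⟩
    (H := fun k => F (e k).1) (fun k => hF _) (fun k m => ?_)
  · obtain ⟨z, hzt, hxz⟩ := Set.mem_iUnion₂.1 (ht (Set.mem_univ x))
    obtain ⟨k, hk⟩ := e.surjective ⟨z, hzt⟩
    exact ⟨k, ⟨x, by rw [hk]; exact hxz⟩, rfl⟩
  · exact hR (e k).1 m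

/-- A ph covering gives a standard ph covering of every affine scheme mapping to the base. -/
theorem exists_standardPh [IsAffine T] {T₀ : Scheme.{u}} (g : T ⟶ T₀) {E : PreZeroHypercover.{w} T₀}
    (hE : IsPhCover E) : ∃ F : PreZeroHypercover.{0} T, IsStandardPh F ∧ RefinesOver g F E := by
  refine exists_standardPh_of_local g E fun x => ?_
  obtain ⟨V, hV, hxV, -⟩ := exists_isAffineOpen_mem_and_subset (x := g x) (U := ⊤) trivial
  obtain ⟨W, hW, hxW, hWV⟩ := exists_isAffineOpen_mem_and_subset (x := x) (U := g ⁻¹ᵁ V) hxV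
  obtain ⟨F, hF, hR⟩ := hE.2 ⟨V, hV⟩
  have hWV' : W ≤ g ⁻¹ᵁ V := hWV
  haveI : IsAffine (W : Scheme.{u}) := hW
  refine ⟨W, hxW, hW, F.pullback₁ (g.resLE V W hWV'), isStandardPh_pullback _ hF, fun j => ?_⟩
  obtain ⟨i, l, hl⟩ := hR j
  refine ⟨i, pullback.snd _ _ ≫ l, ?_⟩
  rw [Category.assoc, hl, ← Category.assoc, ← pullback.condition, Category.assoc, g.resLE_comp_ι]
  rfl

theorem isPhCover_pullback {T' : Scheme.{u}} (g : T' ⟶ T) (E : PreZeroHypercover.{w} T) (hE : IsPhCover E) :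
    IsPhCover (E.pullback₁ g) := by
  refine ⟨fun i => MorphismProperty.pullback_fst (P := @LocallyOfFiniteType) g (E.f i) (hE.1 i), fun A => ?_⟩
  haveI : IsAffine ((A : T'.Opens) : Scheme.{u}) := A.2
  obtain ⟨F, hF, hR⟩ := exists_standardPh ((A : T'.Opens).ι ≫ g) hE
  refine ⟨F, hF, fun j => ?_⟩
  obtain ⟨i, l, hl⟩ := hR j
  exact ⟨i, pullback.lift (F.f j ≫ (A : T'.Opens).ι) l (by rw [Category.assoc, hl]), pullback.lift_fst _ _ _⟩

theorem isPhCover_bind (E : PreZeroHypercover.{w} T) (hE : IsPhCover E)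
    (F : ∀ i, PreZeroHypercover.{w} (E.X i)) (hF : ∀ i, IsPhCover (F i)) : IsPhCover (E.bind F) := by
  refine ⟨fun ik => MorphismProperty.comp_mem (@LocallyOfFiniteType) _ _ ((hF ik.1).1 ik.2) (hE.1 ik.1),
    fun A => ?_⟩
  obtain ⟨G, hG, hR⟩ := hE.2 A
  choose i l hl using hR
  have h (j) : ∃ H : PreZeroHypercover.{0} (G.X j), IsStandardPh H ∧ RefinesOver (l j) H (F (i j)) :=
    haveI := hG.isAffine_obj j
    exists_standardPh (l j) (hF _)
  choose H hH hH' using h
  refine exists_standardPh_bind (A : T.Opens).ι (E.bind F) hG hH fun j k => ?_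
  obtain ⟨m, l', hl'⟩ := hH' j k
  refine ⟨⟨i j, m⟩, l', ?_⟩
  show l' ≫ (F (i j)).f m ≫ E.f (i j) = _
  rw [← Category.assoc, hl', Category.assoc, hl]

end Groth.Agent.H18HTop
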