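import Groth.Agent.H18HTop.ProperFamily
import Groth.Prelude.Def_HTop3
import Groth.Agent.H29Blow.Basic
import Groth.Agent.H12AlgSp.HilbQuot

/-!
# Sheaves turn proper modification squares into cartesian squares of sections
-/

set_option autoImplicit false

universe w v u

open CategoryTheory Limits AlgebraicGeometry HTop Opposite

namespace Groth.Agent.H18HTop

set_option backward.isDefEq.respectTransparency false

theorem universallyClosed_sigmaDesc {T : Scheme.{u}} {I : Type u} [Finite I] {X : I → Scheme.{u}}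
    (f : ∀ i, X i ⟶ T) [∀ i, UniversallyClosed (f i)] : UniversallyClosed (Sigma.desc f) := by
  refine ⟨fun {W'} {T'} p g f' hp => ?_⟩
  intro C hC
  replace hp := hp.flip
  let m : ∀ i, pullback (f i) g ⟶ W' := fun i =>
    hp.lift (pullback.fst (f i) g ≫ Sigma.ι X i) (pullback.snd (f i) g)
      (by rw [Category.assoc, Sigma.ι_desc, pullback.condition])
  have e : f'.base '' C = ⋃ i, (pullback.snd (f i) g).base '' ((m i).base ⁻¹' C) := by
    ext t
    simp only [Set.mem_image, Set.mem_iUnion, Set.mem_preimage]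
    constructor
    · rintro ⟨w, hw, rfl⟩
      obtain ⟨i, x, hx⟩ := (sigmaOpenCover X).exists_eq (p w)
      have hi : IsPullback (m i) (pullback.fst (f i) g) p (Sigma.ι X i) := by
        refine (IsPullback.of_bot ?_ (hp.lift_fst _ _ _).symm hp.flip.flip).flip
        rw [hp.lift_snd, Sigma.ι_desc]
        exact IsPullback.of_hasPullback (f i) g
      obtain ⟨z, hz, -⟩ := Scheme.Pullback.exists_preimage_pullback (f := p) (g := Sigma.ι X i) w x hx.symm
      refine ⟨i, hi.isoPullback.inv z, ?_, ?_⟩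
      · rwa [← Scheme.Hom.comp_apply, hi.isoPullback_inv_fst, hz]
      · rw [← hz, ← hi.isoPullback_inv_fst, Scheme.Hom.comp_apply, ← Scheme.Hom.comp_apply (m i),
          hp.lift_snd]
    · rintro ⟨i, z, hz, rfl⟩
      exact ⟨m i z, hz, by rw [← Scheme.Hom.comp_apply, hp.lift_snd]⟩
  rw [e]
  exact isClosed_iUnion_of_finite fun i =>
    haveI : UniversallyClosed (pullback.snd (f i) g) :=
      MorphismProperty.pullback_snd (P := @UniversallyClosed) _ _ inferInstance
    (pullback.snd (f i) g).isClosedMap _ (hC.preimage (m i).continuous)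

theorem isPhCover_of_proper {T : Scheme.{u}} (E : PreZeroHypercover.{u} T) [Finite E.I₀]
    [∀ i, IsProper (E.f i)] (hsurj : ∀ t : T, ∃ i z, E.f i z = t) : IsPhCover E := by
  refine ⟨fun i => inferInstance, fun U => ?_⟩
  haveI : IsAffine ((U : T.Opens) : Scheme.{u}) := U.2
  let f := fun i => E.f i ∣_ (U : T.Opens)
  haveI : ∀ i, IsProper (f i) := fun i => IsZariskiLocalAtTarget.restrict (P := @IsProper) inferInstance _
  let D := Sigma.desc f
  haveI := universallyClosed_sigmaDesc f
  haveI := Groth.Agent.H12AlgSp.isSeparated_sigmaDesc f fun i => inferInstance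
  haveI : LocallyOfFiniteType D :=
    (IsZariskiLocalAtSource.iff_of_openCover (P := @LocallyOfFiniteType) (sigmaOpenCover _)).2 fun i => by
      change LocallyOfFiniteType (Sigma.ι _ i ≫ D)
      rw [Sigma.ι_desc]
      infer_instance
  haveI : IsProper D := { }
  have hcpt : ∀ i, ∃ s : Set (E.f i ⁻¹ᵁ (U : T.Opens)).toScheme.affineOpens,
      s.Finite ∧ ∀ z, ∃ O ∈ s, z ∈ O.1 := fun i => by
    haveI : CompactSpace ↥(E.f i ⁻¹ᵁ (U : T.Opens)).toScheme :=
      QuasiCompact.compactSpace_of_compactSpace (f i)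
    have hU : IsCompact ((⊤ : (E.f i ⁻¹ᵁ (U : T.Opens)).toScheme.Opens) :
        Set ↥(E.f i ⁻¹ᵁ (U : T.Opens)).toScheme) := by
      rw [TopologicalSpace.Opens.coe_top]
      exact isCompact_univ
    obtain ⟨s, hs, hsU⟩ := (isCompact_iff_finite_and_eq_biUnion_affineOpens
      (U := (⊤ : (E.f i ⁻¹ᵁ (U : T.Opens)).toScheme.Opens))).mp hU
    refine ⟨s, hs, fun z => ?_⟩
    have hz : z ∈ (⊤ : (E.f i ⁻¹ᵁ (U : T.Opens)).toScheme.Opens) := trivial
    rw [hsU, ← SetLike.mem_coe, TopologicalSpace.Opens.coe_iSup, Set.mem_iUnion] at hz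
    obtain ⟨O, hO⟩ := hz
    rw [TopologicalSpace.Opens.coe_iSup, Set.mem_iUnion] at hO
    exact ⟨O, hO.1, hO.2⟩
  choose s hs hcov using hcpt
  haveI := fun i => (hs i).to_subtype
  let e := (Finite.equivFin (Σ i, s i)).symm
  let O := fun n => (e n).2.1
  refine ⟨PreZeroHypercover.mk (Fin (Nat.card (Σ i, s i))) (fun n => ((O n).1 : Scheme.{u}))
    (fun n => (O n).1.ι ≫ f (e n).1), ?_, fun n => ?_⟩
  · refine ⟨inferInstance, inferInstanceAs (Finite (Fin _)), fun n => (O n).2,
      _, D, fun n => (O n).1.ι ≫ Sigma.ι (fun i => ((E.f i ⁻¹ᵁ (U : T.Opens)) : Scheme.{u})) (e n).1, inferInstance, ⟨fun x => ?_⟩,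
      fun n => inferInstanceAs (IsOpenImmersion (_ ≫ _)), fun n => ?_, fun x => ?_⟩
    · obtain ⟨i, z, hz⟩ := hsurj x.1
      refine ⟨Sigma.ι (fun i => (E.f i ⁻¹ᵁ (U : T.Opens) : Scheme.{u})) i ⟨z,
        show E.f i z ∈ (U : T.Opens) from hz ▸ x.2⟩, ?_⟩
      rw [← Scheme.Hom.comp_apply, Sigma.ι_desc]
      apply Subtype.ext
      rw [morphismRestrict_base]
      exact hz
    · simp only [Category.assoc]
      exact congrArg (_ ≫ ·) (Sigma.ι_desc _ _)
    · obtain ⟨i, z, rfl⟩ := (sigmaOpenCover _).exists_eq x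
      obtain ⟨P, hP, hzP⟩ := hcov i z
      have hk : ∀ (k : Σ i, s i) (w : (E.f k.1 ⁻¹ᵁ (U : T.Opens)).toScheme), w ∈ k.2.1.1 →
          ∃ n, Sigma.ι (fun i => ((E.f i ⁻¹ᵁ (U : T.Opens)) : Scheme.{u})) k.1 w ∈
            Set.range ((O n).1.ι ≫ Sigma.ι (fun i => ((E.f i ⁻¹ᵁ (U : T.Opens)) : Scheme.{u})) (e n).1) := by
        intro k w hw
        obtain ⟨n, rfl⟩ := e.surjective k
        exact ⟨n, ⟨w, hw⟩, Scheme.Hom.comp_apply _ _ _⟩
      exact hk ⟨i, P, hP⟩ z hzP
  · refine ⟨(e n).1, (O n).1.ι ≫ (E.f (e n).1 ⁻¹ᵁ (U : T.Opens)).ι, ?_⟩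
    simp only [Category.assoc]
    exact congrArg (_ ≫ ·) (morphismRestrict_ι _ _).symm

section

variable {S : Scheme.{u}} {J : GrothendieckTopology (Over S)} (F : Sheaf J (Type w))
  (Q : MorphismProperty Scheme.{u}) [Q.IsStableUnderBaseChange]

/-- A topology for which finite jointly surjective families of proper `Q`-morphisms are coverings. -/
def ProperCovers (J : GrothendieckTopology (Over S)) (Q : MorphismProperty Scheme.{u}) : Prop :=
  ∀ {X' : Over S} {I : Type u} [Finite I] {X : I → Over S} (f : ∀ i, X i ⟶ X'),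
    (∀ i, IsProper (f i).left) → (∀ i, Q (f i).left) → (∀ t : X'.left, ∃ i z, (f i).left z = t) →
      Sieve.generate (Presieve.ofArrows X f) ∈ J X'

variable {F Q}

theorem ext_of_properCovers (hJ : ProperCovers J Q) {X' : Over S} {I : Type u} [Finite I]
    {X : I → Over S} (f : ∀ i, X i ⟶ X') (hp : ∀ i, IsProper (f i).left) (hQ : ∀ i, Q (f i).left)
    (hsurj : ∀ t : X'.left, ∃ i z, (f i).left z = t) {a b : F.obj.obj (op X')}
    (h : ∀ i, F.obj.map (f i).op a = F.obj.map (f i).op b) : a = b :=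
  ((Presieve.isSheafFor_iff_generate _).2
    (((isSheaf_iff_isSheaf_of_type _ _).1 F.property) _ (hJ f hp hQ hsurj))).isSeparatedFor.ext
    fun _ _ ⟨i⟩ => h i

theorem cartesian_of_properCovers (hJ : ProperCovers J Q) {E Z X' X : Over S}
    (e : E ⟶ X') (π : E ⟶ Z) (b : X' ⟶ X) (i : Z ⟶ X) [IsClosedImmersion i.left] [IsProper b.left]
    (hb : Q b.left) (hi : Q i.left) (hd : Q (pullback.diagonal b.left))
    (hsq : IsPullback e.left π.left b.left i.left)
    (U : X.left.Opens) (hU : (U : Set X.left) = (Set.range i.left.base)ᶜ) (hiso : IsIso (b.left ∣_ U))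
    (t : F.obj.obj (op Z)) (s' : F.obj.obj (op X')) (hts : F.obj.map π.op t = F.obj.map e.op s') :
    ∃! s : F.obj.obj (op X), F.obj.map i.op s = t ∧ F.obj.map b.op s = s' := by
  let ρ : pullback b.left b.left ⟶ X.left := pullback.fst _ _ ≫ b.left
  let P : Over S := Over.mk (ρ ≫ X.hom)
  let q₁ : P ⟶ X' := Over.homMk (pullback.fst _ _) (by
    change pullback.fst _ _ ≫ X'.hom = ρ ≫ X.hom
    simp [ρ])
  let q₂ : P ⟶ X' := Over.homMk (pullback.snd _ _) (by
    change pullback.snd _ _ ≫ X'.hom = ρ ≫ X.hom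
    rw [show ρ = pullback.snd _ _ ≫ b.left from pullback.condition, Category.assoc, Over.w b])
  have hlift : ∀ {T : Over S} (g₁ : T ⟶ X') (g₂ : T ⟶ Z), g₁ ≫ b = g₂ ≫ i →
      F.obj.map g₁.op s' = F.obj.map g₂.op t := by
    intro T g₁ g₂ h
    have hw : g₁.left ≫ b.left = g₂.left ≫ i.left := congrArg (fun m => Over.Hom.left m) h
    let l : T ⟶ E := Over.homMk (hsq.lift g₁.left g₂.left hw) (by
      rw [← Over.w π, ← Category.assoc, hsq.lift_snd, Over.w g₂])
    rw [show g₁ = l ≫ e from Over.OverMorphism.ext (hsq.lift_fst _ _ hw).symm,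
      show g₂ = l ≫ π from Over.OverMorphism.ext (hsq.lift_snd _ _ hw).symm,
      op_comp, op_comp, Functor.map_comp, Functor.map_comp, CategoryTheory.comp_apply,
      CategoryTheory.comp_apply, hts]
  have hkey : F.obj.map q₁.op s' = F.obj.map q₂.op s' := by
    let Δ : X' ⟶ P := Over.homMk (pullback.diagonal b.left) (by
      change pullback.diagonal b.left ≫ ρ ≫ X.hom = X'.hom
      simp [ρ])
    let R : Over S := Over.mk (pullback.fst ρ i.left ≫ P.hom)
    let k : R ⟶ P := Over.homMk (pullback.fst ρ i.left) rfl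
    let π' : R ⟶ Z := Over.homMk (pullback.snd ρ i.left) (by
      change pullback.snd ρ i.left ≫ Z.hom = pullback.fst ρ i.left ≫ ρ ≫ X.hom
      rw [pullback.condition_assoc, Over.w i])
    have hl : ∀ q : P ⟶ X', q.left ≫ b.left = ρ →
        F.obj.map k.op (F.obj.map q.op s') = F.obj.map π'.op t := by
      intro q hq
      rw [← CategoryTheory.comp_apply, ← Functor.map_comp, ← op_comp]
      refine hlift _ _ (Over.OverMorphism.ext ?_)
      change (k.left ≫ q.left) ≫ b.left = π'.left ≫ i.left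
      rw [Category.assoc, hq]
      exact pullback.condition
    let Xf : ULift.{u} Bool → Over S := fun c => bif c.down then X' else R
    let ff : ∀ c, Xf c ⟶ P := fun c => match c with
      | ⟨true⟩ => Δ
      | ⟨false⟩ => k
    refine ext_of_properCovers hJ (X' := P) (I := ULift.{u} Bool) (X := Xf) ff (fun c => ?_) (fun c => ?_)
      (fun p => ?_) fun c => ?_
    · match c with
      | ⟨true⟩ => exact (inferInstance : IsProper (pullback.diagonal b.left))
      | ⟨false⟩ => exact MorphismProperty.pullback_fst (P := @IsProper) ρ i.left inferInstance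
    · match c with
      | ⟨true⟩ => exact hd
      | ⟨false⟩ => exact MorphismProperty.pullback_fst (P := Q) ρ i.left hi
    · by_cases hp : ρ p ∈ U
      · haveI : IsIso (b.left ∣_ U) := hiso
        let O := ρ ⁻¹ᵁ U
        have hr : ∀ q : pullback b.left b.left ⟶ X'.left, q ≫ b.left = ρ →
            Set.range (O.ι ≫ q) ⊆ Set.range (b.left ⁻¹ᵁ U).ι := by
          rintro q hq _ ⟨z, rfl⟩
          rw [Scheme.Opens.range_ι]
          show b.left ((O.ι ≫ q) z) ∈ U
          rw [← Scheme.Hom.comp_apply, Category.assoc, hq, Scheme.Hom.comp_apply]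
          exact z.2
        have h12 : O.ι ≫ pullback.fst b.left b.left = O.ι ≫ pullback.snd b.left b.left := by
          rw [← IsOpenImmersion.lift_fac _ _ (hr _ rfl),
            ← IsOpenImmersion.lift_fac _ _ (hr _ pullback.condition.symm)]
          congr 1
          rw [← cancel_mono (b.left ∣_ U), ← cancel_mono U.ι, Category.assoc, Category.assoc,
            morphismRestrict_ι, IsOpenImmersion.lift_fac_assoc, IsOpenImmersion.lift_fac_assoc,
            Category.assoc, Category.assoc, pullback.condition]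
        have hO : O.ι = (O.ι ≫ pullback.fst b.left b.left) ≫ pullback.diagonal b.left :=
          pullback.hom_ext (by simp) (by simp [h12])
        refine ⟨⟨true⟩, (O.ι ≫ pullback.fst b.left b.left) ⟨p, hp⟩, ?_⟩
        change pullback.diagonal b.left ((O.ι ≫ pullback.fst b.left b.left) ⟨p, hp⟩) = p
        rw [← Scheme.Hom.comp_apply, ← hO]
        rfl
      · have hp' : ρ p ∈ Set.range i.left.base := by
          by_contra h
          exact hp (show ρ p ∈ (U : Set X.left) by rw [hU]; exact h)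
        obtain ⟨z, hz⟩ := hp'
        obtain ⟨w, hw, -⟩ := Scheme.Pullback.exists_preimage_pullback (f := ρ) (g := i.left) p z hz.symm
        exact ⟨⟨false⟩, w, hw⟩
    · match c with
      | ⟨true⟩ =>
        change F.obj.map Δ.op _ = F.obj.map Δ.op _
        rw [← CategoryTheory.comp_apply, ← CategoryTheory.comp_apply, ← Functor.map_comp,
          ← Functor.map_comp, ← op_comp, ← op_comp]
        congr 4
        refine Over.OverMorphism.ext ?_
        change pullback.diagonal b.left ≫ pullback.fst _ _ = pullback.diagonal b.left ≫ pullback.snd _ _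
        simp
      | ⟨false⟩ =>
        change F.obj.map k.op _ = F.obj.map k.op _
        rw [hl q₁ rfl, hl q₂ pullback.condition.symm]
  let Yf : ULift.{u} Bool → Over S := fun c => bif c.down then X' else Z
  let gg : ∀ c, Yf c ⟶ X := fun c => match c with
    | ⟨true⟩ => b
    | ⟨false⟩ => i
  have hgp : ∀ c, IsProper (gg c).left := fun c => match c with
    | ⟨true⟩ => ‹IsProper b.left›
    | ⟨false⟩ => (inferInstance : IsProper i.left)
  have hgQ : ∀ c, Q (gg c).left := fun c => match c with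
    | ⟨true⟩ => hb
    | ⟨false⟩ => hi
  have hgs : ∀ x : X.left, ∃ c z, (gg c).left z = x := fun x => by
    by_cases hx : x ∈ U
    · haveI : IsIso (b.left ∣_ U) := hiso
      refine ⟨⟨true⟩, ((b.left ⁻¹ᵁ U).ι) ((inv (b.left ∣_ U)) ⟨x, hx⟩), ?_⟩
      change b.left _ = x
      rw [← Scheme.Hom.comp_apply, ← morphismRestrict_ι, ← Scheme.Hom.comp_apply,
        IsIso.inv_hom_id_assoc]
      rfl
    · have : x ∈ Set.range i.left.base := by
        by_contra h
        exact hx (show x ∈ (U : Set X.left) by rw [hU]; exact h)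
      obtain ⟨z, hz⟩ := this
      exact ⟨⟨false⟩, z, hz⟩
  have hsheaf := (Presieve.isSheafFor_iff_generate _).2
    (((isSheaf_iff_isSheaf_of_type _ _).1 F.property) _ (hJ gg hgp hgQ hgs))
  rw [Presieve.isSheafFor_arrows_iff] at hsheaf
  haveI : Mono i := Over.mono_of_mono_left i
  let x : ∀ c, F.obj.obj (op (Yf c)) := fun c => match c with
    | ⟨true⟩ => s'
    | ⟨false⟩ => t
  obtain ⟨s, hs, huniq⟩ := hsheaf x fun c c' T g g' h => by
    match c, c' with
    | ⟨true⟩, ⟨true⟩ =>
      have hp' : g.left ≫ b.left = g'.left ≫ b.left := congrArg (fun m => Over.Hom.left m) h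
      let r : T ⟶ P := Over.homMk (pullback.lift g.left g'.left hp') (by
        change pullback.lift _ _ _ ≫ ρ ≫ X.hom = T.hom
        simp [ρ]
        exact Over.w g)
      rw [show g = r ≫ q₁ from Over.OverMorphism.ext (pullback.lift_fst _ _ _).symm,
        show g' = r ≫ q₂ from Over.OverMorphism.ext (pullback.lift_snd _ _ _).symm, op_comp, op_comp,
        Functor.map_comp, Functor.map_comp, CategoryTheory.comp_apply, CategoryTheory.comp_apply]
      exact congrArg _ hkey
    | ⟨true⟩, ⟨false⟩ => exact hlift g g' h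
    | ⟨false⟩, ⟨true⟩ => exact (hlift g' g h.symm).symm
    | ⟨false⟩, ⟨false⟩ =>
      obtain rfl : g = g' := (cancel_mono i).1 h
      rfl
  refine ⟨s, ⟨hs ⟨false⟩, hs ⟨true⟩⟩, fun s₂ h₂ => huniq s₂ fun c => ?_⟩
  match c with
  | ⟨true⟩ => exact h₂.2
  | ⟨false⟩ => exact h₂.1

end

theorem properCovers_Jph (S : Scheme.{u}) : ProperCovers (Jph S) @LocallyOfFiniteType := by
  intro X' I _ X f hp hQ hsurj
  let E : PreZeroHypercover.{u} X'.left := ⟨I, fun i => (X i).left, fun i => (f i).left⟩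
  haveI : Finite E.I₀ := ‹Finite I›
  haveI : ∀ i, IsProper (E.f i) := hp
  exact mem_over_of_family phPrecoverage f
    ((presieve₀_mem_phPrecoverage_iff E).2 (isPhCover_of_proper E hsurj))

theorem properCovers_Jh (S : Scheme.{u}) : ProperCovers (Jh S) @LocallyOfFinitePresentation := by
  intro X' I _ X f hp hQ hsurj
  let E : PreZeroHypercover.{u} X'.left := ⟨I, fun i => (X i).left, fun i => (f i).left⟩
  haveI : Finite E.I₀ := ‹Finite I›
  haveI : ∀ i, IsProper (E.f i) := hp
  exact mem_over_of_family hPrecoverage f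
    ((presieve₀_mem_hPrecoverage_iff E).2 ⟨hQ, isVCover_of_universallyClosed E hsurj⟩)

theorem isIso_of_supportedOn {X' X Z : Scheme.{u}} (b : X' ⟶ X) (i : Z ⟶ X) [IsClosedImmersion i]
    (hb : BlowUp.IsBlowUp ((supportedOn (i.ker.comap b)).subschemeι ≫ b) i.ker)
    (U : X.Opens) (hU : (U : Set X) = (Set.range i.base)ᶜ) : IsIso (b ∣_ U) := by
  have hsupp : ∀ x ∈ U, x ∉ i.ker.support := fun x hx h => by
    rw [← SetLike.mem_coe, Scheme.Hom.support_ker, i.isClosedEmbedding.isClosed_range.closure_eq] at h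
    exact (show x ∈ (Set.range i.base)ᶜ from hU ▸ hx) h
  have h1 := H29Blow.isIso_morphismRestrict hb U hsupp
  rw [morphismRestrict_comp] at h1
  let s := (supportedOn (i.ker.comap b)).subschemeι
  let A := awayFrom (i.ker.comap b)
  have hA : b ⁻¹ᵁ U ≤ A := fun x hx h => by
    rw [SetLike.mem_coe, Scheme.IdealSheafData.support_comap] at h
    exact hsupp _ hx h
  let t : A.toScheme ⟶ (supportedOn (i.ker.comap b)).subscheme := A.ι.toImage
  have ht : t ≫ s = A.ι := A.ι.toImage_imageι
  let j : (b ⁻¹ᵁ U).toScheme ⟶ (supportedOn (i.ker.comap b)).subscheme := X'.homOfLE hA ≫ t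
  have hj : j ≫ s = (b ⁻¹ᵁ U).ι := by
    rw [Category.assoc, ht, Scheme.homOfLE_ι]
  have hr : Set.range j ⊆ Set.range (s ⁻¹ᵁ (b ⁻¹ᵁ U)).ι := by
    rintro _ ⟨z, rfl⟩
    rw [Scheme.Opens.range_ι]
    change s (j z) ∈ b ⁻¹ᵁ U
    rw [← Scheme.Hom.comp_apply, hj]
    exact z.2
  have hid : IsOpenImmersion.lift (s ⁻¹ᵁ (b ⁻¹ᵁ U)).ι j hr ≫ (s ∣_ (b ⁻¹ᵁ U)) = 𝟙 _ := by
    rw [← cancel_mono (b ⁻¹ᵁ U).ι, Category.assoc, morphismRestrict_ι,
      IsOpenImmersion.lift_fac_assoc, hj, Category.id_comp]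
  haveI : IsClosedImmersion (s ∣_ (b ⁻¹ᵁ U)) :=
    IsZariskiLocalAtTarget.restrict (P := @IsClosedImmersion) inferInstance _
  haveI : IsSplitEpi (s ∣_ (b ⁻¹ᵁ U)) := IsSplitEpi.mk' ⟨_, hid⟩
  haveI : IsIso (s ∣_ (b ⁻¹ᵁ U)) := isIso_of_mono_of_isSplitEpi _
  exact IsIso.of_isIso_comp_left (s ∣_ (b ⁻¹ᵁ U)) _

end Groth.Agent.H18HTop
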