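import Groth.Agent.H18HTop.VCover
import Groth.Agent.H11Val.Point
import Mathlib.AlgebraicGeometry.Morphisms.UniversallyOpen
import Mathlib.AlgebraicGeometry.Sites.Fpqc

/-!
# Criteria for V coverings
-/

set_option autoImplicit false

universe w u

open CategoryTheory Limits AlgebraicGeometry IsLocalRing HTop

namespace Groth.Agent.H18HTop

set_option backward.isDefEq.respectTransparency false

variable {X Y T : Scheme.{u}}

/-- A lift of the two extreme points of `Spec V` as a specialisation gives a valuative lift. -/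
theorem hasValLift_of_specializes (E : PreZeroHypercover.{w} T)
    (h : ∀ (V : CommRingCat.{u}) [IsDomain V] [ValuationRing V] (g : Spec V ⟶ T),
      ∃ (j : E.I₀) (a b : (pullback g (E.f j) : Scheme.{u})), a ⤳ b ∧
        pullback.fst g (E.f j) a = (⊥ : PrimeSpectrum V) ∧ pullback.fst g (E.f j) b = closedPoint V) :
    HasValLift E := by
  intro V _ _ g
  obtain ⟨j, a, b, hab, ha, hb⟩ := h V g
  obtain ⟨W, i1, i2, h', hha, hhb⟩ := exists_valuation_of_specializes hab
  haveI := i1; haveI := i2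
  let φ : V ⟶ W := Spec.preimage (h' ≫ pullback.fst g (E.f j))
  have hφ : Spec.map φ = h' ≫ pullback.fst g (E.f j) := Spec.map_preimage _
  have h0 : Spec.map φ (⊥ : PrimeSpectrum W) = (⊥ : PrimeSpectrum V) := by
    rw [hφ, Scheme.Hom.comp_apply, hha, ha]
  have h1 : Spec.map φ (closedPoint W) = closedPoint V := by
    rw [hφ, Scheme.Hom.comp_apply, hhb, hb]
  refine ⟨W, i1, i2, φ, ⟨?_, ?_⟩, j, h' ≫ pullback.snd _ _, ?_⟩
  · rw [injective_iff_map_eq_zero]
    intro x hx
    have : x ∈ Ideal.comap φ.hom ⊥ := by rw [Ideal.mem_comap, Ideal.mem_bot]; exact hx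
    rw [show Ideal.comap φ.hom ⊥ = (⊥ : Ideal V) from congrArg PrimeSpectrum.asIdeal h0] at this
    exact Ideal.mem_bot.1 this
  · refine ((IsLocalRing.local_hom_TFAE φ.hom).out 0 4).2 ?_
    exact congrArg PrimeSpectrum.asIdeal h1
  · rw [hφ, Category.assoc, Category.assoc, pullback.condition]

/-- A family of affines with the lifting property refining a family is a witness for V coverings. -/
theorem isVCover_of_finite_affine (E : PreZeroHypercover.{w} T)
    (h : ∀ U : T.affineOpens, ∃ (n : ℕ) (a : Fin n → E.I₀) (W : ∀ k, (E.X (a k)).Opens)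
      (g : ∀ k, (W k : Scheme.{u}) ⟶ (U : T.Opens)), (∀ k, IsAffineOpen (W k)) ∧
      (∀ k, g k ≫ (U : T.Opens).ι = (W k).ι ≫ E.f (a k)) ∧
      HasValLift (PreZeroHypercover.mk (Fin n) (fun k => (W k : Scheme.{u})) g)) : IsVCover E := by
  intro U
  obtain ⟨n, a, W, g, hW, hg, hl⟩ := h U
  exact ⟨PreZeroHypercover.mk (Fin n) (fun k => (W k : Scheme.{u})) g, ⟨U.2, inferInstanceAs (Finite (Fin n)), hW, hl⟩,
    fun k => ⟨a k, (W k).ι, (hg k).symm⟩⟩

/-- Flat jointly surjective families have the valuative lifting property. -/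
theorem hasValLift_of_flat (E : PreZeroHypercover.{w} T) [∀ i, Flat (E.f i)]
    (h : ∀ x : T, ∃ i, x ∈ Set.range (E.f i)) : HasValLift E := by
  refine hasValLift_of_specializes E fun V _ _ g => ?_
  obtain ⟨j, y, hy⟩ := h (g (closedPoint V))
  obtain ⟨b, hb, -⟩ := Scheme.Pullback.exists_preimage_pullback (f := g) (g := E.f j) (closedPoint V) y hy.symm
  have hsp : (⊥ : PrimeSpectrum V) ⤳ pullback.fst g (E.f j) b := by
    rw [hb]; exact specializes_closedPoint _
  obtain ⟨a, hab, ha⟩ := Flat.generalizingMap (pullback.fst g (E.f j)) hsp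
  exact ⟨j, a, b, hab, ha, hb⟩

theorem isVCover_of_fpqc (𝒰 : Scheme.Cover Scheme.fpqcPrecoverage T) : IsVCover 𝒰.toPreZeroHypercover := by
  have hmem : Presieve.ofArrows 𝒰.X 𝒰.f ∈ Scheme.fpqcPrecoverage T := 𝒰.mem₀
  haveI : QuasiCompactCover 𝒰.toPreZeroHypercover := Scheme.presieve₀_mem_qcPrecoverage_iff.mp hmem.1
  have hfl := ((Scheme.ofArrows_mem_precoverage_iff (P := @Flat)).mp hmem.2).2
  refine isVCover_of_finite_affine _ fun U => ?_
  obtain ⟨n, a, W, hW, h⟩ := QuasiCompactCover.exists_isAffineOpen_of_isCompact 𝒰.toPreZeroHypercover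
    U.2.isCompact
  have hle : ∀ k, W k ≤ (𝒰.f (a k)) ⁻¹ᵁ (U : T.Opens) := fun k x hx => by
    show 𝒰.f (a k) x ∈ ((U : T.Opens) : Set T)
    rw [← h]; exact Set.mem_iUnion.mpr ⟨k, ⟨x, hx, rfl⟩⟩
  let g := fun k => (𝒰.f (a k)).resLE (U : T.Opens) (W k) (hle k)
  refine ⟨n, a, W, g, hW, fun k => (𝒰.f (a k)).resLE_comp_ι _, ?_⟩
  haveI : ∀ k, Flat ((PreZeroHypercover.mk (Fin n) (fun k => (W k : Scheme.{u})) g).f k) := fun k => by
    haveI := hfl (a k)
    show Flat ((𝒰.f (a k)).resLE (U : T.Opens) (W k) (hle k))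
    infer_instance
  refine hasValLift_of_flat _ fun x => ?_
  have hx : (U : T.Opens).ι x ∈ ((U : T.Opens) : Set T) := x.2
  rw [← h] at hx
  obtain ⟨k, v, hv, hvx⟩ := Set.mem_iUnion.mp hx
  refine ⟨k, (⟨v, hv⟩ : W k), (U : T.Opens).ι.isOpenEmbedding.injective ?_⟩
  show (U : T.Opens).ι ((𝒰.f (a k)).resLE (U : T.Opens) (W k) (hle k) ⟨v, hv⟩) = _
  rw [← Scheme.Hom.comp_apply, (𝒰.f (a k)).resLE_comp_ι, ← hvx]
  rfl

theorem hasValLift_of_isVCover {E : PreZeroHypercover.{w} T} (hE : IsVCover E) : HasValLift E := by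
  intro V _ _ v
  obtain ⟨U, hU, hvU, -⟩ := exists_isAffineOpen_mem_and_subset (x := v (closedPoint V)) (U := ⊤) trivial
  obtain ⟨F, hF, hR⟩ := hE ⟨U, hU⟩
  have hr : Set.range v ⊆ Set.range U.ι := by
    rw [Scheme.Opens.range_ι]; exact range_subset_of_closedPoint_mem v U hvU
  obtain ⟨W, i1, i2, φ, hφ, j, v', hv'⟩ := hF.lift V (IsOpenImmersion.lift U.ι v hr)
  obtain ⟨i, l, hl⟩ := hR j
  refine ⟨W, i1, i2, φ, hφ, i, v' ≫ l, ?_⟩
  rw [Category.assoc, hl, ← Category.assoc, hv', Category.assoc]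
  exact congrArg (Spec.map φ ≫ ·) (IsOpenImmersion.lift_fac _ _ _)

/-- For a quasi-compact morphism the valuative lifting property gives a V covering. -/
theorem isVCover_singleton_of_hasValLift (f : X ⟶ Y) [QuasiCompact f]
    (h : HasValLift (PreZeroHypercover.singleton.{w} f)) : IsVCover (PreZeroHypercover.singleton.{w} f) := by
  refine isVCover_of_finite_affine _ fun U => ?_
  obtain ⟨s, hs, hsU⟩ := (isCompact_iff_finite_and_eq_biUnion_affineOpens (U := f ⁻¹ᵁ (U : Y.Opens))).mp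
    (f.isCompact_preimage U.2.isCompact)
  haveI := hs.to_subtype
  let e := (Finite.equivFin s).symm
  have hle : ∀ k, ((e k).1 : X.Opens) ≤ f ⁻¹ᵁ (U : Y.Opens) := fun k =>
    hsU ▸ le_iSup₂ (f := fun (i : X.affineOpens) (_ : i ∈ s) => (i : X.Opens)) (e k).1 (e k).2
  refine ⟨Nat.card s, fun _ => PUnit.unit, fun k => ((e k).1 : X.Opens),
    fun k => f.resLE (U : Y.Opens) ((e k).1 : X.Opens) (hle k), fun k => (e k).1.2,
    fun k => f.resLE_comp_ι _, fun V _ _ v => ?_⟩
  obtain ⟨W, i1, i2, φ, hφ, j', v', hv'⟩ := h V (v ≫ (U : Y.Opens).ι)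
  let v'' : Spec W ⟶ X := v'
  have hv'' : v'' ≫ f = Spec.map φ ≫ v ≫ (U : Y.Opens).ι := hv'
  have hm : v'' (closedPoint W) ∈ f ⁻¹ᵁ (U : Y.Opens) := by
    show f (v'' (closedPoint W)) ∈ (U : Y.Opens)
    rw [← Scheme.Hom.comp_apply, hv'', Scheme.Hom.comp_apply]
    exact (v (Spec.map φ (closedPoint W))).2
  rw [hsU, ← SetLike.mem_coe, TopologicalSpace.Opens.coe_iSup, Set.mem_iUnion] at hm
  obtain ⟨i, hi⟩ := hm
  rw [TopologicalSpace.Opens.coe_iSup, Set.mem_iUnion] at hi
  obtain ⟨his, hiW⟩ := hi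
  obtain ⟨k, hk⟩ := e.surjective ⟨i, his⟩
  have hr : Set.range v'' ⊆ Set.range ((e k).1 : X.Opens).ι := by
    rw [Scheme.Opens.range_ι]
    exact range_subset_of_closedPoint_mem v'' _ (by rw [hk]; exact hiW)
  refine ⟨W, i1, i2, φ, hφ, k, IsOpenImmersion.lift ((e k).1 : X.Opens).ι v'' hr, ?_⟩
  show IsOpenImmersion.lift ((e k).1 : X.Opens).ι v'' hr ≫ f.resLE (U : Y.Opens) _ (hle k) = _
  rw [← cancel_mono (U : Y.Opens).ι, Category.assoc, f.resLE_comp_ι, ← Category.assoc,
    IsOpenImmersion.lift_fac, hv'', Category.assoc]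

theorem hasValLift_singleton_iff (f : X ⟶ Y) :
    HasValLift (PreZeroHypercover.singleton.{w} f) ↔
      ∀ (Z : Scheme.{u}) (g : Z ⟶ Y) (z' z : Z), z' ⤳ z → ∃ w' w : ↑(pullback g f),
        w' ⤳ w ∧ pullback.fst g f w' = z' ∧ pullback.fst g f w = z := by
  refine ⟨fun h Z g z' z hz => ?_, fun h => hasValLift_of_specializes _ fun V _ _ g => ?_⟩
  · obtain ⟨V, i1, i2, k, hk, hk'⟩ := exists_valuation_of_specializes hz
    haveI := i1; haveI := i2
    obtain ⟨W, j1, j2, φ, hφ, j', v, hv⟩ := h V (k ≫ g)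
    haveI := j1; haveI := j2; haveI := hφ.2
    let l : Spec W ⟶ pullback g f := pullback.lift (Spec.map φ ≫ k) v (by rw [Category.assoc]; exact hv.symm)
    refine ⟨l (⊥ : PrimeSpectrum W), l (closedPoint W), (specializes_closedPoint _).map l.continuous, ?_, ?_⟩
    · rw [← Scheme.Hom.comp_apply, pullback.lift_fst, Scheme.Hom.comp_apply]
      exact (congrArg k (PrimeSpectrum.ext (Ideal.comap_bot_of_injective _ hφ.1))).trans hk
    · rw [← Scheme.Hom.comp_apply, pullback.lift_fst, Scheme.Hom.comp_apply]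
      exact (congrArg k (comap_closedPoint φ.hom)).trans hk'
  · obtain ⟨a, b, hab, ha, hb⟩ := h (Spec V) g (⊥ : PrimeSpectrum V) (closedPoint V) (specializes_closedPoint _)
    exact ⟨PUnit.unit, a, b, hab, ha, hb⟩

theorem hasValLift_singleton_of_universallyClosed (f : X ⟶ Y) [UniversallyClosed f] [Surjective f] :
    HasValLift (PreZeroHypercover.singleton.{w} f) := by
  refine (hasValLift_singleton_iff f).2 fun Z g z' z hz => ?_
  haveI : Surjective (pullback.fst g f) := MorphismProperty.pullback_fst (P := @Surjective) _ _ ‹_›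
  obtain ⟨w', hw'⟩ := (pullback.fst g f).surjective z'
  obtain ⟨w, hw, hw2⟩ := (pullback.fst g f).isClosedMap.specializingMap (hw'.symm ▸ hz)
  exact ⟨w', w, hw, hw', hw2⟩

theorem isVCover_of_openCover (𝒰 : T.OpenCover) : IsVCover 𝒰.toPreZeroHypercover := by
  intro U
  haveI : IsAffine ((U : T.Opens) : Scheme.{u}) := U.2
  refine exists_standardV_of_local (U : T.Opens).ι 𝒰.toPreZeroHypercover fun x => ?_
  obtain ⟨i, y, hy⟩ := 𝒰.exists_eq ((U : T.Opens).ι x)
  obtain ⟨W, hW, hxW, hWU⟩ := exists_isAffineOpen_mem_and_subset (x := x)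
    (U := (U : T.Opens).ι ⁻¹ᵁ (𝒰.f i).opensRange) ⟨y, hy⟩
  haveI : IsAffine (W : Scheme.{u}) := hW
  refine ⟨W, hxW, hW, PreZeroHypercover.singleton (𝟙 (W : Scheme.{u})),
    ⟨‹_›, inferInstanceAs (Finite PUnit.{1}), fun _ => ‹IsAffine (W : Scheme.{u})›, fun V _ _ v =>
      ⟨V, ‹_›, ‹_›, 𝟙 V, ⟨fun a b h => h, ⟨fun a ha => ha⟩⟩, PUnit.unit, v, ?_⟩⟩, fun _ => ?_⟩
  · show v ≫ 𝟙 _ = Spec.map (𝟙 V) ≫ v
    rw [Spec.map_id, Category.id_comp, Category.comp_id]
  · have hr : Set.range (W.ι ≫ (U : T.Opens).ι) ⊆ Set.range (𝒰.f i) := by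
      rintro _ ⟨z, rfl⟩
      rw [Scheme.Hom.comp_apply]
      exact hWU z.2
    exact ⟨i, IsOpenImmersion.lift (𝒰.f i) _ hr,
      (IsOpenImmersion.lift_fac _ _ _).trans (Category.id_comp _).symm⟩

theorem isVCover_singleton_sigmaDesc_iff (E : PreZeroHypercover.{u} T) :
    IsVCover (PreZeroHypercover.singleton.{0} (Sigma.desc E.f)) ↔ IsVCover E := by
  refine ⟨fun h U => ?_, fun h U => ?_⟩
  · obtain ⟨F, hF, hR⟩ := h U
    choose i l hl using hR
    have hH (j) : ∃ H : PreZeroHypercover.{0} (F.X j), IsStandardV H ∧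
        RefinesOver (l j) H (sigmaOpenCover E.X).toPreZeroHypercover :=
      haveI := hF.isAffine_obj j
      exists_standardV (l j) (isVCover_of_openCover _)
    choose H hH hH' using hH
    refine ⟨F.bind H, ⟨hF.isAffine, ?_, fun jk => (hH jk.1).isAffine_obj jk.2, fun V _ _ v => ?_⟩, ?_⟩
    · haveI := hF.finite_index
      haveI := fun j => (hH j).finite_index
      exact inferInstanceAs (Finite (Σ j, (H j).I₀))
    · obtain ⟨W, i1, i2, φ, hφ, j, v', hv'⟩ := hF.lift V v
      obtain ⟨W', i1', i2', ψ, hψ, k, v'', hv''⟩ := (hH j).lift W v'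
      refine ⟨W', i1', i2', φ ≫ ψ, isExtVal_comp hφ hψ, ⟨j, k⟩, v'', ?_⟩
      show v'' ≫ (H j).f k ≫ F.f j = _
      rw [← Category.assoc, hv'', Category.assoc, hv', Spec.map_comp, Category.assoc]
    · rintro ⟨j, k⟩
      obtain ⟨m, l', hl'⟩ := hH' j k
      refine ⟨m, l', ?_⟩
      have e1 : l' ≫ Sigma.ι E.X m = (H j).f k ≫ l j := hl'
      have e2 : l j ≫ Sigma.desc E.f = F.f j ≫ (U : T.Opens).ι := hl j
      show l' ≫ E.f m = ((H j).f k ≫ F.f j) ≫ _
      rw [← Sigma.ι_desc E.f m, ← Category.assoc, e1, Category.assoc, e2, Category.assoc]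
  · obtain ⟨F, hF, hR⟩ := h U
    refine ⟨F, hF, fun j => ?_⟩
    obtain ⟨i, l, hl⟩ := hR j
    refine ⟨PUnit.unit, l ≫ Sigma.ι E.X i, ?_⟩
    show (l ≫ Sigma.ι E.X i) ≫ Sigma.desc E.f = _
    rw [Category.assoc, Sigma.ι_desc, hl]

/-- Specialisations from generic points lift along universally submersive finite families. -/
theorem exists_specializes_of_univSubmersive [IsLocallyNoetherian T] (E : PreZeroHypercover.{u} T)
    [∀ i, LocallyOfFiniteType (E.f i)] [∀ i, QuasiCompact (E.f i)]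
    (hE : SGA1.UnivSubmersive (Sigma.desc E.f)) {η x : T} (h : η ⤳ x) :
    ∃ (i : E.I₀) (ξ v : E.X i), ξ ⤳ v ∧ E.f i ξ = η ∧ E.f i v = x := by
  rcases eq_or_ne x η with rfl | hne
  · have hq := hE (𝟙 _) (𝟙 T) (Sigma.desc E.f) (IsPullback.of_vert_isIso ⟨by simp⟩)
    obtain ⟨z, hz⟩ := hq.surjective x
    obtain ⟨i, y, rfl⟩ := (sigmaOpenCover E.X).exists_eq z
    have : E.f i y = x := by
      rw [← Sigma.ι_desc E.f i, Scheme.Hom.comp_apply]; exact hz
    exact ⟨i, y, y, specializes_rfl, this, this⟩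
  obtain ⟨A, g, hA, hgc, hgen⟩ := H11Val.exists_dvr_hom_through (𝟙 T) η x h hne
  let Y : Scheme.{u} := Spec (CommRingCat.of A)
  let o : Y := (⊥ : PrimeSpectrum A)
  have hgo : g o = η := by
    have e : Spec.map (CommRingCat.ofHom A.subtype) (closedPoint (T.residueField η)) = o := by
      refine PrimeSpectrum.ext ?_
      show Ideal.comap A.subtype (maximalIdeal (T.residueField η)) = ⊥
      rw [maximalIdeal_eq_bot]
      exact Ideal.comap_bot_of_injective _ A.subtype_injective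
    rw [← e, ← Scheme.Hom.comp_apply, hgen, Category.comp_id]
    exact Scheme.fromSpecResidueField_apply η _
  have hpts : ∀ y : Y, y = o ∨ y = closedPoint A := fun y => by
    by_cases hy : PrimeSpectrum.asIdeal y = ⊥
    · exact Or.inl (PrimeSpectrum.ext hy)
    · exact Or.inr (PrimeSpectrum.ext (IsLocalRing.eq_maximalIdeal
        (Ideal.IsPrime.isMaximal inferInstance hy)))
  have hsq := IsPullback.of_hasPullback g (Sigma.desc E.f)
  let p : pullback g (Sigma.desc E.f) ⟶ Y := pullback.fst _ _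
  have hq : Topology.IsQuotientMap p := hE _ _ p hsq.flip.flip
  by_contra hcon
  push Not at hcon
  have hclosed : IsClosed (p ⁻¹' {o}) := by
    rw [(Scheme.OpenCover.isOpenCover_opensRange
      ((sigmaOpenCover E.X).pullback₁ (pullback.snd g (Sigma.desc E.f)))).isClosed_iff_coe_preimage]
    intro i
    let m := (sigmaOpenCover E.X |>.pullback₁ (pullback.snd g (Sigma.desc E.f))).f i
    let q : pullback (pullback.snd g (Sigma.desc E.f)) (Sigma.ι E.X i) ⟶ Y := m ≫ p
    have sq : IsPullback q (pullback.snd _ _) g (E.f i) := by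
      have := ((IsPullback.of_hasPullback (pullback.snd g (Sigma.desc E.f)) (Sigma.ι E.X i)).flip.paste_vert
        hsq.flip)
      rw [Sigma.ι_desc] at this
      exact this.flip
    haveI : LocallyOfFiniteType q := MorphismProperty.of_isPullback (P := @LocallyOfFiniteType) sq.flip inferInstance
    haveI : QuasiCompact q := MorphismProperty.of_isPullback (P := @QuasiCompact) sq.flip inferInstance
    haveI : IsLocallyNoetherian Y := inferInstanceAs (IsLocallyNoetherian (Spec (CommRingCat.of A)))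
    haveI := LocallyOfFiniteType.isLocallyNoetherian q
    have hspec : StableUnderSpecialization (q ⁻¹' {o}) := fun a b hab ha => by
      rcases hpts (q b) with hb | hb
      · exact hb
      · exfalso
        refine hcon i ((pullback.snd (pullback.snd g (Sigma.desc E.f)) (Sigma.ι E.X i)) a)
          ((pullback.snd (pullback.snd g (Sigma.desc E.f)) (Sigma.ι E.X i)) b) (hab.map (Scheme.Hom.continuous _)) ?_ ?_
        · rw [← Scheme.Hom.comp_apply, ← sq.w, Scheme.Hom.comp_apply, show q a = o from ha, hgo]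
        · rw [← Scheme.Hom.comp_apply, ← sq.w, Scheme.Hom.comp_apply, hb, hgc]
    have ho : IsOpen ({o} : Set Y) := by
      have : ({o} : Set Y) = {closedPoint A}ᶜ := by
        ext y
        refine ⟨fun hy hy' => ?_, fun hy => (hpts y).resolve_right hy⟩
        exact hne.symm (by rw [← hgo, ← hgc, ← Set.mem_singleton_iff.1 hy, Set.mem_singleton_iff.1 hy'])
      rw [this]
      exact (isClosed_singleton_closedPoint A).isOpen_compl
    let G : Scheme.Opens (pullback (pullback.snd g (Sigma.desc E.f)) (Sigma.ι E.X i)) :=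
      ⟨q ⁻¹' {o}, ho.preimage q.continuous⟩
    have hG : IsClosedMap G.ι := by
      refine (isClosedMap_iff_specializingMap G.ι).2 fun a b hab => ?_
      have hb : b ∈ G := hspec hab a.2
      exact ⟨⟨b, hb⟩, G.ι.isOpenEmbedding.isInducing.specializes_iff.1 hab, rfl⟩
    have hGc : IsClosed (q ⁻¹' {o}) := by
      have := hG.isClosed_range
      rwa [Scheme.Opens.range_ι] at this
    have : ((↑) : m.opensRange → _) ⁻¹' (p ⁻¹' {o}) =
        m.isOpenEmbedding.isEmbedding.toHomeomorph.symm ⁻¹' (q ⁻¹' {o}) := by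
      ext z
      show p z.1 ∈ ({o} : Set Y) ↔ (m ≫ p) (m.isOpenEmbedding.isEmbedding.toHomeomorph.symm z) ∈ ({o} : Set Y)
      rw [Scheme.Hom.comp_apply, show m (m.isOpenEmbedding.isEmbedding.toHomeomorph.symm z) = z.1 from
        congrArg Subtype.val (m.isOpenEmbedding.isEmbedding.toHomeomorph.apply_symm_apply z)]
    exact this ▸ hGc.preimage (Homeomorph.continuous _)
  have := (hq.isClosed_preimage.1 hclosed).stableUnderSpecialization
    (show o ⤳ (closedPoint A : Y) from specializes_closedPoint _) rfl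
  exact hne (by rw [← hgo, ← hgc]; exact congrArg g this)

theorem exists_specializes_over_maximal_point [IsLocallyNoetherian T] (E : PreZeroHypercover.{u} T)
    [∀ i, LocallyOfFiniteType (E.f i)] [∀ i, QuasiCompact (E.f i)]
    (hE : SGA1.UnivSubmersive (Sigma.desc E.f)) (x : T) :
    ∃ (i : E.I₀) (ξ v : E.X i), ξ ⤳ v ∧ E.f i v = x ∧ closure {E.f i ξ} ∈ irreducibleComponents ↥T := by
  obtain ⟨C, hC, hxC⟩ : ∃ C ∈ irreducibleComponents T, x ∈ C :=
    ⟨irreducibleComponent x, irreducibleComponent_mem_irreducibleComponents x, mem_irreducibleComponent⟩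
  obtain ⟨η, hη⟩ := QuasiSober.sober hC.1 (isClosed_of_mem_irreducibleComponents C hC)
  obtain ⟨i, ξ, v, hξv, hξ, hv⟩ := exists_specializes_of_univSubmersive E hE (η := η) (x := x)
    (hη.specializes hxC)
  exact ⟨i, ξ, v, hξv, hv, by rw [hξ, hη.def]; exact hC⟩

end Groth.Agent.H18HTop
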