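import Mathlib

/-!
# Points with values in valuation rings with algebraically closed fraction field

A finitely generated algebra over a valuation ring `V` with algebraically closed fraction field which
maps to a local domain dominating `V` has a point with values in `V`.
-/

set_option autoImplicit false
universe u

open MvPolynomial

namespace Groth.Agent.H18HTop.ValPoint

theorem isIntegrallyClosed_mvPolynomial_fin {R : Type u} [CommRing R] [IsDomain R]
    [IsIntegrallyClosed R] (n : ℕ) : IsIntegrallyClosed (MvPolynomial (Fin n) R) := by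
  induction n with
  | zero => exact IsIntegrallyClosed.of_equiv (MvPolynomial.isEmptyAlgEquiv R (Fin 0)).symm.toRingEquiv
  | succ n ih =>
    haveI := ih
    exact IsIntegrallyClosed.of_equiv (MvPolynomial.finSuccEquiv R n).symm.toRingEquiv

/-- A finite family in a valuation ring has a member dividing all of it. -/
theorem exists_dvd_all {V : Type u} [CommRing V] [IsDomain V] [ValuationRing V] {ι : Type*}
    (t : Finset ι) (ht : t.Nonempty) (a : ι → V) : ∃ i ∈ t, ∀ j ∈ t, a i ∣ a j := by
  classical
  induction t using Finset.induction with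
  | empty => exact absurd ht (by simp)
  | @insert b t hb ih =>
    rcases t.eq_empty_or_nonempty with rfl | hne
    · exact ⟨b, by simp, fun j hj => by simp at hj; simp [hj]⟩
    · obtain ⟨i, hi, hdvd⟩ := ih hne
      rcases ValuationRing.dvd_total (a b) (a i) with h | h
      · refine ⟨b, by simp, fun j hj => ?_⟩
        rcases Finset.mem_insert.1 hj with rfl | hj
        · exact dvd_rfl
        · exact h.trans (hdvd j hj)
      · refine ⟨i, Finset.mem_insert_of_mem hi, fun j hj => ?_⟩
        rcases Finset.mem_insert.1 hj with rfl | hj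
        · exact h
        · exact hdvd j hj

/-- A nonzero polynomial over a valuation ring is a scalar times a primitive one. -/
theorem exists_primitive {V : Type u} [CommRing V] [IsDomain V] [ValuationRing V] {σ : Type*}
    {p : MvPolynomial σ V} (hp : p ≠ 0) :
    ∃ (a : V) (p' : MvPolynomial σ V), a ≠ 0 ∧ p = C a * p' ∧
      MvPolynomial.map (IsLocalRing.residue V) p' ≠ 0 := by
  obtain ⟨i, hi, hdvd⟩ := exists_dvd_all p.support (by simpa using hp) (fun m => coeff m p)
  have h : C (coeff i p) ∣ p := by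
    rw [C_dvd_iff_dvd_coeff]
    intro j
    by_cases hj : j ∈ p.support
    · exact hdvd j hj
    · simp [MvPolynomial.notMem_support_iff.1 hj]
  obtain ⟨p', hp'⟩ := h
  have ha : coeff i p ≠ 0 := MvPolynomial.mem_support_iff.1 hi
  refine ⟨_, p', ha, hp', fun h0 => ?_⟩
  have h1 : coeff i p' = 1 := by
    have := congrArg (coeff i) hp'
    rw [coeff_C_mul] at this
    exact (mul_eq_left₀ ha).1 this.symm
  have := congrArg (coeff i) h0
  rw [coeff_map, h1, map_one, coeff_zero] at this
  exact one_ne_zero this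

variable {K : Type u} [Field K] [IsAlgClosed K] (V : ValuationSubring K)

/-- A root in a domain over `V` of a monic polynomial with coefficients in `V` comes from `V`. -/
theorem mem_range_of_isRoot {S : Type u} [CommRing S] [IsDomain S] [Algebra V S] (y : S) :
    ∀ (n : ℕ) (p : Polynomial V), p.Monic → p.natDegree = n → Polynomial.aeval y p = 0 →
      y ∈ (algebraMap V S).range := by
  intro n
  induction n with
  | zero =>
    intro p hp hd h
    rw [Polynomial.Monic.natDegree_eq_zero hp |>.1 hd, map_one] at h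
    exact absurd h one_ne_zero
  | succ n ih =>
    intro p hp hd h
    have hdeg : (p.map (algebraMap V K)).degree ≠ 0 := by
      rw [Polynomial.degree_map_eq_of_injective (IsFractionRing.injective V K),
        Polynomial.degree_eq_natDegree hp.ne_zero, hd]
      exact_mod_cast Nat.succ_ne_zero n
    obtain ⟨c, hc⟩ := IsAlgClosed.exists_root _ hdeg
    have hint : IsIntegral V c := ⟨p, hp, by simpa [Polynomial.IsRoot.def, Polynomial.eval_map] using hc⟩
    obtain ⟨c, rfl⟩ := IsIntegrallyClosed.isIntegral_iff.1 hint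
    have hr : p.IsRoot c := by
      rw [Polynomial.IsRoot.def]
      apply IsFractionRing.injective V K
      rw [map_zero, ← hc, Polynomial.eval_map, Polynomial.eval₂_at_apply]
    obtain ⟨q, hq⟩ := Polynomial.dvd_iff_isRoot.2 hr
    have hqm : q.Monic := (Polynomial.monic_X_sub_C c).of_mul_monic_left (hq ▸ hp)
    rw [hq, map_mul] at h
    rcases mul_eq_zero.1 h with h1 | h1
    · exact ⟨c, (sub_eq_zero.1 (by simpa using h1)).symm⟩
    · refine ih q hqm ?_ h1
      have := congrArg Polynomial.natDegree hq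
      rw [(Polynomial.monic_X_sub_C c).natDegree_mul hqm, Polynomial.natDegree_X_sub_C, hd] at this
      omega

/-- A finitely generated domain over `V` which is faithful on `V` and on its residue field has a
`V`-point. -/
theorem exists_algHom_of_domain {D : Type u} [CommRing D] [IsDomain D] [Algebra V D]
    [Algebra.FiniteType V D] (hinj : Function.Injective (algebraMap V D))
    (hm : (IsLocalRing.maximalIdeal V).map (algebraMap V D) ≠ ⊤) : Nonempty (D →ₐ[V] V) := by
  classical
  let m := IsLocalRing.maximalIdeal V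
  let k := IsLocalRing.ResidueField V
  letI : Field (V ⧸ m) := Ideal.Quotient.field m
  let mD := m.map (algebraMap V D)
  haveI : Nontrivial (D ⧸ mD) := Ideal.Quotient.nontrivial_iff.2 hm
  haveI : Algebra.FiniteType (V ⧸ m) (D ⧸ mD) :=
    Algebra.FiniteType.of_restrictScalars_finiteType V (V ⧸ m) (D ⧸ mD)
  obtain ⟨s, g, hg, hgfin⟩ := exists_finite_inj_algHom_of_fg (V ⧸ m) (D ⧸ mD)
  choose z hz using fun i => Ideal.Quotient.mk_surjective (g (X i))
  let φ : MvPolynomial (Fin s) V →ₐ[V] D := MvPolynomial.aeval z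
  have hφ : ∀ p, Ideal.Quotient.mk mD (φ p) = g (MvPolynomial.map (Ideal.Quotient.mk m) p) := by
    intro p
    change ((Ideal.Quotient.mk mD).comp φ.toRingHom) p = (g.toRingHom.comp (MvPolynomial.map (Ideal.Quotient.mk m))) p
    congr 1
    refine MvPolynomial.ringHom_ext (fun a => ?_) fun i => ?_
    · simp only [RingHom.comp_apply, AlgHom.toRingHom_eq_coe, RingHom.coe_coe, φ, aeval_C, map_C]
      exact (g.commutes (Ideal.Quotient.mk m a)).symm
    · simp [φ, hz]
  have hφinj : Function.Injective φ := by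
    rw [injective_iff_map_eq_zero]
    intro p hp
    by_contra hp0
    obtain ⟨a, p', ha, rfl, hp'⟩ := exists_primitive hp0
    rw [map_mul, mul_eq_zero] at hp
    rcases hp with hp | hp
    · exact ha (hinj (by rw [map_zero, ← φ.commutes]; exact hp))
    · have h1 := hφ p'
      rw [hp, map_zero, eq_comm] at h1
      exact hp' (hg (h1.trans (map_zero g).symm))
  letI algPD : Algebra (MvPolynomial (Fin s) V) D := φ.toRingHom.toAlgebra
  haveI : IsScalarTower V (MvPolynomial (Fin s) V) D :=
    IsScalarTower.of_algebraMap_eq fun a => (φ.commutes a).symm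
  haveI : Algebra.FiniteType (MvPolynomial (Fin s) V) D :=
    Algebra.FiniteType.of_restrictScalars_finiteType V _ _
  -- the special fibre is finite over `k[X]`
  let ψ : MvPolynomial (Fin s) V →+* D ⧸ mD := (Ideal.Quotient.mk mD).comp φ.toRingHom
  have hψfin : ψ.Finite := by
    have : ψ = g.toRingHom.comp (MvPolynomial.map (Ideal.Quotient.mk m)) := RingHom.ext hφ
    rw [this]
    exact RingHom.Finite.comp hgfin
      (RingHom.Finite.of_surjective (MvPolynomial.map (σ := Fin s) (Ideal.Quotient.mk m))
        (MvPolynomial.map_surjective _ Ideal.Quotient.mk_surjective))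
  have hψalg : algebraMap (MvPolynomial (Fin s) V) (D ⧸ mD) = ψ := rfl
  haveI : Module.Finite (MvPolynomial (Fin s) V) (D ⧸ mD) :=
    RingHom.finite_algebraMap.1 (hψalg.symm ▸ hψfin)
  let 𝔭 : Ideal (MvPolynomial (Fin s) V) :=
    RingHom.ker ((Ideal.Quotient.mk m).comp (MvPolynomial.constantCoeff (R := V) (σ := Fin s)))
  have h𝔭max : 𝔭.IsMaximal := RingHom.ker_isMaximal_of_surjective _
    (Ideal.Quotient.mk_surjective.comp fun a => ⟨C a, constantCoeff_C _ a⟩)
  haveI := h𝔭max
  -- a prime over the origin of the special fibre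
  have hψker : RingHom.ker ψ ≤ 𝔭 := by
    intro p hp
    rw [RingHom.mem_ker] at hp
    have h1 : MvPolynomial.map (Ideal.Quotient.mk m) p = 0 :=
      hg ((hφ p).symm.trans (hp.trans (map_zero g).symm))
    rw [RingHom.mem_ker, RingHom.comp_apply, constantCoeff_eq]
    rw [← coeff_map, h1, coeff_zero]
  obtain ⟨xbar, hxbar, hxover⟩ : ∃ xbar : Ideal (D ⧸ mD), xbar.IsMaximal ∧ xbar.comap ψ = 𝔭 := by
    exact Ideal.exists_ideal_over_maximal_of_isIntegral 𝔭 hψker
  let x : Ideal D := xbar.comap (Ideal.Quotient.mk mD)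
  haveI : x.IsPrime := Ideal.IsPrime.comap _
  have hx𝔭 : x.comap φ.toRingHom = 𝔭 := by rw [Ideal.comap_comap]; exact hxover
  -- quasi-finite there
  haveI : Algebra.QuasiFiniteAt (MvPolynomial (Fin s) V) x := by
    refine Algebra.QuasiFiniteAt.of_isOpen_singleton_fiber ⟨x, inferInstance⟩ ?_
    set F := PrimeSpectrum.comap (algebraMap (MvPolynomial (Fin s) V) D) ⁻¹'
      {PrimeSpectrum.comap (algebraMap (MvPolynomial (Fin s) V) D) ⟨x, inferInstance⟩} with hF
    have key : ∀ y ∈ F, ∃ ybar : PrimeSpectrum (D ⧸ mD),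
        ybar.comap (Ideal.Quotient.mk mD) = y ∧ ybar.asIdeal.comap ψ = 𝔭 := by
      intro y hy
      have hy' : y.asIdeal.comap φ.toRingHom = 𝔭 := (congrArg PrimeSpectrum.asIdeal hy).trans hx𝔭
      have hle : mD ≤ y.asIdeal := Ideal.map_le_iff_le_comap.2 fun a ha => by
        have : C a ∈ 𝔭 := by
          simp only [𝔭, RingHom.mem_ker, RingHom.comp_apply, constantCoeff_C]
          exact Ideal.Quotient.eq_zero_iff_mem.2 ha
        rw [← hy', Ideal.mem_comap] at this
        simpa [φ] using this
      haveI := Ideal.map_isPrime_of_surjective (f := Ideal.Quotient.mk mD) Ideal.Quotient.mk_surjective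
        (I := y.asIdeal) (by rwa [Ideal.mk_ker])
      refine ⟨⟨y.asIdeal.map (Ideal.Quotient.mk mD), inferInstance⟩, PrimeSpectrum.ext ?_, ?_⟩
      · exact Ideal.comap_map_mk hle
      · change Ideal.comap ((Ideal.Quotient.mk mD).comp φ.toRingHom) _ = 𝔭
        rw [← Ideal.comap_comap, Ideal.comap_map_mk hle, hy']
    haveI : Finite F := by
      have hfin : (Ideal.primesOver 𝔭 (D ⧸ mD)).Finite := Algebra.QuasiFinite.finite_primesOver _
      refine Set.Finite.to_subtype (Set.Finite.of_finite_image (f := PrimeSpectrum.asIdeal)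
        ((hfin.image (fun P => P.comap (Ideal.Quotient.mk mD))).subset ?_)
        (fun a _ b _ e => PrimeSpectrum.ext e))
      rintro _ ⟨y, hy, rfl⟩
      obtain ⟨ybar, h1, h2⟩ := key y hy
      exact ⟨ybar.asIdeal, ⟨ybar.2, ⟨h2.symm⟩⟩, congrArg PrimeSpectrum.asIdeal h1⟩
    haveI : T1Space F := ⟨fun y => by
      obtain ⟨ybar, h1, h2⟩ := key y.1 y.2
      have hmax : y.1.asIdeal.IsMaximal := by
        have h3 : ybar.asIdeal.IsMaximal :=
          Ideal.isMaximal_of_isIntegral_of_isMaximal_comap (R := MvPolynomial (Fin s) V) ybar.asIdeal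
            (by change (ybar.asIdeal.comap ψ).IsMaximal; rw [h2]; exact h𝔭max)
        haveI := h3
        rw [← congrArg PrimeSpectrum.asIdeal h1]
        exact Ideal.comap_isMaximal_of_surjective _ Ideal.Quotient.mk_surjective
      have hc : IsClosed ({y.1} : Set (PrimeSpectrum D)) :=
        (PrimeSpectrum.isClosed_singleton_iff_isMaximal y.1).2 hmax
      convert hc.preimage continuous_subtype_val using 1
      ext w
      simp [Subtype.ext_iff]⟩
    exact isOpen_discrete _
  obtain ⟨r, hrx, hrint, hr⟩ := Algebra.zariskisMainProperty_iff.1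
    (Algebra.ZariskisMainProperty.of_finiteType (R := MvPolynomial (Fin s) V) x)
  -- going down inside the integral closure
  haveI := isIntegrallyClosed_mvPolynomial_fin (R := V) s
  let D' := integralClosure (MvPolynomial (Fin s) V) D
  haveI : FaithfulSMul (MvPolynomial (Fin s) V) D' :=
    (faithfulSMul_iff_algebraMap_injective _ _).2 fun a b h => hφinj (congrArg Subtype.val h)
  let q₀ : Ideal (MvPolynomial (Fin s) V) :=
    RingHom.ker (MvPolynomial.constantCoeff (R := V) (σ := Fin s))
  haveI : q₀.IsPrime := RingHom.ker_isPrime _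
  have hq₀ : q₀ ≤ 𝔭 := fun p hp => by
    simp only [q₀, RingHom.mem_ker] at hp
    simp [𝔭, RingHom.mem_ker, hp]
  let x' : Ideal D' := x.comap D'.val.toRingHom
  haveI : x'.IsPrime := Ideal.IsPrime.comap _
  haveI : x'.LiesOver 𝔭 := ⟨by
    rw [← hx𝔭]
    rfl⟩
  obtain ⟨q', hq'x, hq'p, hq'o⟩ := Ideal.exists_ideal_le_liesOver_of_le (S := D') (p := q₀) (q := 𝔭) x' hq₀
  have hrq' : (⟨r, hrint⟩ : D') ∉ q' := fun h => hrx (hq'x h)
  let q : Ideal D :=
    { carrier := {y | ∃ (n : ℕ) (h : IsIntegral (MvPolynomial (Fin s) V) (r ^ n * y)),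
        (⟨r ^ n * y, h⟩ : D') ∈ q'}
      zero_mem' := ⟨0, by simp [isIntegral_zero], by
        convert q'.zero_mem
        simp⟩
      add_mem' := by
        rintro a b ⟨n, hn, hnq⟩ ⟨l, hl, hlq⟩
        have hi : IsIntegral (MvPolynomial (Fin s) V) (r ^ (n + l) * (a + b)) := by
          have := ((hrint.pow l).mul hn).add ((hrint.pow n).mul hl)
          convert this using 1; ring
        refine ⟨n + l, hi, ?_⟩
        have := q'.add_mem (q'.mul_mem_left ⟨r ^ l, hrint.pow l⟩ hnq)
          (q'.mul_mem_left ⟨r ^ n, hrint.pow n⟩ hlq)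
        convert this using 1
        exact Subtype.ext (by simp; ring)
      smul_mem' := by
        rintro c a ⟨n, hn, hnq⟩
        obtain ⟨l, hl⟩ := hr c
        have hi : IsIntegral (MvPolynomial (Fin s) V) (r ^ (n + l) * (c • a)) := by
          have := hl.mul hn
          convert this using 1; simp; ring
        refine ⟨n + l, hi, ?_⟩
        have := q'.mul_mem_left ⟨r ^ l * c, hl⟩ hnq
        convert this using 1
        exact Subtype.ext (by simp; ring) }
  have hmem : ∀ y : D, y ∈ q ↔ ∃ (n : ℕ) (h : IsIntegral (MvPolynomial (Fin s) V) (r ^ n * y)),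
      (⟨r ^ n * y, h⟩ : D') ∈ q' := fun y => Iff.rfl
  haveI : q.IsPrime := by
    refine ⟨fun h => ?_, fun {a b} hab => ?_⟩
    · obtain ⟨n, hn, hnq⟩ := (hmem 1).1 (h ▸ Submodule.mem_top)
      have : (⟨r ^ n * 1, hn⟩ : D') = ⟨r, hrint⟩ ^ n := Subtype.ext (by simp)
      exact hrq' (hq'p.mem_of_pow_mem n (this ▸ hnq))
    · obtain ⟨n, hn, hnq⟩ := (hmem _).1 hab
      obtain ⟨i, hi⟩ := hr a
      obtain ⟨j, hj⟩ := hr b
      have h1 : (⟨r ^ i * a, hi⟩ : D') * ⟨r ^ j * b, hj⟩ * ⟨r, hrint⟩ ^ n =
          ⟨r, hrint⟩ ^ (i + j) * ⟨r ^ n * (a * b), hn⟩ := Subtype.ext (by simp; ring)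
      have h2 := q'.mul_mem_left (⟨r, hrint⟩ ^ (i + j)) hnq
      rw [← h1] at h2
      rcases hq'p.mem_or_mem h2 with h3 | h3
      · rcases hq'p.mem_or_mem h3 with h4 | h4
        · exact Or.inl ⟨i, hi, h4⟩
        · exact Or.inr ⟨j, hj, h4⟩
      · exact absurd (hq'p.mem_of_pow_mem n h3) hrq'
  have hq₀' : ∀ p : MvPolynomial (Fin s) V, φ p ∈ q ↔ p ∈ q₀ := by
    intro p
    have hp : algebraMap (MvPolynomial (Fin s) V) D' p ∈ q' ↔ p ∈ q₀ := by
      rw [hq'o.over]; rfl
    rw [hmem, ← hp]
    refine ⟨fun ⟨n, hn, hnq⟩ => ?_, fun h => ⟨0, by rw [pow_zero, one_mul]; exact isIntegral_algebraMap, ?_⟩⟩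
    · have : (⟨r ^ n * φ p, hn⟩ : D') = ⟨r, hrint⟩ ^ n * algebraMap _ D' p := Subtype.ext rfl
      rw [this] at hnq
      exact (hq'p.mem_or_mem hnq).resolve_left fun h => hrq' (hq'p.mem_of_pow_mem n h)
    · convert h using 1
      exact Subtype.ext (by simp; rfl)
  -- the quotient is `V`
  have hbase : (Ideal.Quotient.mk q).comp φ.toRingHom =
      (algebraMap V (D ⧸ q)).comp (MvPolynomial.constantCoeff (R := V) (σ := Fin s)) := by
    refine MvPolynomial.ringHom_ext (fun a => ?_) fun i => ?_
    · simp [φ]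
    · have : φ (X i) ∈ q := (hq₀' _).2 (by simp [q₀, RingHom.mem_ker])
      simpa [φ] using Ideal.Quotient.eq_zero_iff_mem.2 this
  have hint : ∀ y : D, IsIntegral (MvPolynomial (Fin s) V) y →
      Ideal.Quotient.mk q y ∈ (algebraMap V (D ⧸ q)).range := by
    rintro y ⟨p, hp, hpy⟩
    refine mem_range_of_isRoot V _ _ (p.map constantCoeff) (hp.map _) rfl ?_
    rw [Polynomial.aeval_def, Polynomial.eval₂_map, ← hbase, ← Polynomial.hom_eval₂]
    exact (congrArg _ hpy).trans (map_zero _)
  have hVinj : Function.Injective (algebraMap V (D ⧸ q)) := by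
    rw [injective_iff_map_eq_zero]
    intro a ha
    have : φ (C a) ∈ q := by
      rw [show φ (C a) = algebraMap V D a from aeval_C z a]
      exact Ideal.Quotient.eq_zero_iff_mem.1 ha
    simpa [q₀, RingHom.mem_ker] using (hq₀' _).1 this
  obtain ⟨c, hc⟩ := hint r hrint
  have hcu : IsUnit c := by
    by_contra hcu
    refine hrx ?_
    have h1 : algebraMap V D c ∈ x := by
      have : C c ∈ 𝔭 := by
        simp only [𝔭, RingHom.mem_ker, RingHom.comp_apply, constantCoeff_C]
        exact Ideal.Quotient.eq_zero_iff_mem.2 hcu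
      rw [← hx𝔭, Ideal.mem_comap] at this
      simpa [φ] using this
    have hqx : q ≤ x := fun y hy => by
      obtain ⟨n, hn, hnq⟩ := (hmem y).1 hy
      exact ((inferInstance : x.IsPrime).mem_or_mem (hq'x hnq)).resolve_left
        fun h => hrx ((inferInstance : x.IsPrime).mem_of_pow_mem n h)
    have h2 : r - algebraMap V D c ∈ x := hqx (by
      rw [← Ideal.Quotient.eq_zero_iff_mem, map_sub, ← hc]
      exact sub_self _)
    simpa using x.add_mem h2 h1
  have hsurj : Function.Surjective (algebraMap V (D ⧸ q)) := by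
    intro w
    obtain ⟨y, rfl⟩ := Ideal.Quotient.mk_surjective w
    obtain ⟨n, hn⟩ := hr y
    obtain ⟨e, he⟩ := hint _ hn
    refine ⟨((hcu.pow n).unit⁻¹ : Vˣ) * e, ?_⟩
    rw [map_mul, he, map_mul, map_pow, ← hc, ← mul_assoc, ← map_pow, ← map_mul, IsUnit.val_inv_mul,
      map_one, one_mul]
  let e := AlgEquiv.ofBijective (Algebra.ofId V (D ⧸ q)) ⟨hVinj, hsurj⟩
  exact ⟨e.symm.toAlgHom.comp (Ideal.Quotient.mkₐ V q)⟩

/-- A finitely generated `V`-algebra mapping to a local domain dominating `V` has a `V`-point. -/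
theorem exists_algHom {C W : Type u} [CommRing C] [Algebra V C] [Algebra.FiniteType V C]
    [CommRing W] [IsDomain W] [IsLocalRing W] [Algebra V W]
    (hinj : Function.Injective (algebraMap V W)) [IsLocalHom (algebraMap V W)] (f : C →ₐ[V] W) :
    Nonempty (C →ₐ[V] V) := by
  haveI : Algebra.FiniteType V f.range :=
    Algebra.FiniteType.of_surjective f.rangeRestrict f.rangeRestrict_surjective
  have hne : (IsLocalRing.maximalIdeal V).map (algebraMap V f.range) ≠ ⊤ := by
    intro h
    have h1 : (IsLocalRing.maximalIdeal V).map (algebraMap V f.range) ≤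
        (IsLocalRing.maximalIdeal W).comap f.range.val.toRingHom := by
      rw [Ideal.map_le_iff_le_comap, Ideal.comap_comap]
      exact fun a ha => map_nonunit (algebraMap V W) a ha
    rw [h, top_le_iff, Ideal.comap_eq_top_iff] at h1
    exact (IsLocalRing.maximalIdeal.isMaximal W).ne_top h1
  obtain ⟨g⟩ := exists_algHom_of_domain V (D := f.range)
    (fun a b h => hinj (congrArg Subtype.val h)) hne
  exact ⟨g.comp f.rangeRestrict⟩

end Groth.Agent.H18HTop.ValPoint
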