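import Mathlib
import Groth.Agent.H18HTop.ValPoint
import Groth.Agent.H18HTop.Compactify
import Groth.Agent.H18HTop.PhBind
import Groth.Agent.H18HTop.VCoverCrit
import Groth.Agent.H18HTop.ProperSquare
import Groth.Agent.H24Algz.NisCover

/-!
A finite family of affines of finite presentation with the valuative lifting property is refined by a
standard ph covering.
-/

set_option autoImplicit false
set_option backward.isDefEq.respectTransparency false
set_option linter.style.haveILetI false
universe u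

open CategoryTheory CategoryTheory.Limits AlgebraicGeometry TopologicalSpace
open IsLocalRing (closedPoint)
open scoped TensorProduct

namespace Groth.Agent.H18HTop.PhOfV

/-- Lifting property at a valuation ring with algebraically closed fraction field: no extension. -/
theorem exists_lift {A : CommRingCat.{u}} {κ : Type} (B : κ → CommRingCat.{u}) (φ : ∀ k, A ⟶ B k)
    (hft : ∀ k, (φ k).hom.FiniteType)
    (hlift : HTop.HasValLift (PreZeroHypercover.mk κ (fun k => Spec (B k)) (fun k => Spec.map (φ k))))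
    {L : Type u} [Field L] [IsAlgClosed L] (W : ValuationSubring L) (ρ : A →+* W) :
    ∃ (k : κ) (f : B k →+* W), f.comp (φ k).hom = ρ := by
  obtain ⟨W', hdom, hval, ψ, ⟨hinj, hloc⟩, k, g, hg⟩ :=
    hlift (CommRingCat.of W) (Spec.map (CommRingCat.ofHom ρ))
  haveI := hdom
  haveI := hval
  let g' : Spec W' ⟶ Spec (B k) := g
  let θ : B k ⟶ W' := Spec.preimage g'
  have hθ : φ k ≫ θ = CommRingCat.ofHom ρ ≫ ψ := Spec.map_injective (by
    rw [Spec.map_comp, Spec.map_comp, Spec.map_preimage]
    exact hg)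
  have hθ' : θ.hom.comp (φ k).hom = ψ.hom.comp ρ :=
    congrArg CommRingCat.Hom.hom hθ
  letI : Algebra A (B k) := (φ k).hom.toAlgebra
  letI : Algebra A W := ρ.toAlgebra
  letI : Algebra W W' := ψ.hom.toAlgebra
  letI : Algebra A W' := (ψ.hom.comp ρ).toAlgebra
  haveI : IsScalarTower A W W' := IsScalarTower.of_algebraMap_eq' rfl
  haveI : Algebra.FiniteType A (B k) := hft k
  haveI : IsLocalHom (algebraMap W W') := hloc
  let θa : B k →ₐ[A] W' := { θ.hom with commutes' := fun a => RingHom.congr_fun hθ' a }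
  let F : W ⊗[A] B k →ₐ[W] W' :=
    Algebra.TensorProduct.lift (Algebra.ofId W W') θa (fun _ _ => Commute.all _ _)
  obtain ⟨e⟩ := ValPoint.exists_algHom W (C := W ⊗[A] B k) (W := W') hinj F
  refine ⟨k, ((e.restrictScalars A).comp Algebra.TensorProduct.includeRight).toRingHom, ?_⟩
  exact ((e.restrictScalars A).comp (Algebra.TensorProduct.includeRight (R := A) (A := W) (B := B k))).comp_algebraMap

/-- Finitely many points suffice for all valuation rings of `L` centred on `A`. -/
theorem exists_finset_points {A : CommRingCat.{u}} {κ : Type} (B : κ → CommRingCat.{u}) (φ : ∀ k, A ⟶ B k)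
    (hft : ∀ k, (φ k).hom.FiniteType)
    (hlift : HTop.HasValLift (PreZeroHypercover.mk κ (fun k => Spec (B k)) (fun k => Spec.map (φ k))))
    {L : Type u} [Field L] [IsAlgClosed L] (σ : A →+* L) :
    ∃ S : Finset (Σ k, {f : B k →+* L // f.comp (φ k).hom = σ}),
      ∀ W : ValuationSubring L, (∀ a, σ a ∈ W) → ∃ a ∈ S, ∀ b, a.2.1 b ∈ W := by
  classical
  by_contra hcon
  push Not at hcon
  choose W hWσ hWbad using hcon
  let Φ := Σ k, {f : B k →+* L // f.comp (φ k).hom = σ}
  haveI : (Filter.atTop : Filter (Finset Φ)).NeBot := Filter.atTop_neBot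
  let F : Ultrafilter (Finset Φ) := Ultrafilter.of Filter.atTop
  let R : Subring L :=
    { carrier := {x | {S | x ∈ W S} ∈ F}
      zero_mem' := by simp only [Set.mem_setOf_eq, zero_mem, Set.setOf_true]; exact Filter.univ_mem
      one_mem' := by simp only [Set.mem_setOf_eq, one_mem, Set.setOf_true]; exact Filter.univ_mem
      add_mem' := fun {x y} hx hy => Filter.mem_of_superset (Filter.inter_mem hx hy)
        fun S hS => (W S).add_mem x y hS.1 hS.2
      mul_mem' := fun {x y} hx hy => Filter.mem_of_superset (Filter.inter_mem hx hy)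
        fun S hS => (W S).mul_mem x y hS.1 hS.2
      neg_mem' := fun {x} hx => Filter.mem_of_superset hx fun S hS => (W S).neg_mem x hS }
  let Winf : ValuationSubring L :=
    { R with
      mem_or_inv_mem' := fun x => by
        by_cases h : {S | x ∈ W S} ∈ F
        · exact Or.inl h
        · refine Or.inr (Filter.mem_of_superset (Ultrafilter.compl_mem_iff_notMem.2 h) fun S hS => ?_)
          exact ((W S).mem_or_inv_mem x).resolve_left hS }
  have hmem : ∀ x : L, x ∈ Winf ↔ {S | x ∈ W S} ∈ F := fun x => Iff.rfl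
  have hσ : ∀ a, σ a ∈ Winf := fun a => (hmem _).2 (Filter.mem_of_superset Filter.univ_mem fun S _ => hWσ S a)
  obtain ⟨k, f, hf⟩ := exists_lift B φ hft hlift Winf (σ.codRestrict Winf hσ)
  let a : Φ := ⟨k, (Winf.subtype).comp f, by rw [RingHom.comp_assoc, hf]; rfl⟩
  letI : Algebra A (B k) := (φ k).hom.toAlgebra
  haveI : Algebra.FiniteType A (B k) := hft k
  obtain ⟨G, hG⟩ := Algebra.FiniteType.out (R := A) (A := B k)
  have h1 : {S : Finset Φ | a ∈ S} ∈ F := by
    refine Ultrafilter.of_le Filter.atTop ?_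
    exact Filter.mem_atTop_sets.2 ⟨{a}, fun S hS => hS (Finset.mem_singleton_self a)⟩
  have h2 : {S : Finset Φ | ∀ g ∈ G, (f g : L) ∈ W S} ∈ F := by
    have : (⋂ g ∈ G, {S : Finset Φ | (f g : L) ∈ W S}) ∈ (F : Filter (Finset Φ)) :=
      (Filter.biInter_finset_mem G).2 fun g _ => (hmem _).1 (f g).2
    exact Filter.mem_of_superset this fun S hS g hg => Set.mem_iInter₂.1 hS g hg
  obtain ⟨S, hS1, hS2⟩ := Ultrafilter.nonempty_of_mem (Filter.inter_mem h1 h2)
  obtain ⟨b, hb⟩ := hWbad S a hS1
  refine hb ?_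
  have hb' : b ∈ Algebra.adjoin A (G : Set (B k)) := hG ▸ Algebra.mem_top
  refine Algebra.adjoin_induction (p := fun x _ => a.2.1 x ∈ W S) (fun x hx => hS2 x hx) (fun r => ?_)
    (fun x y _ _ hx hy => by rw [map_add]; exact (W S).add_mem _ _ hx hy)
    (fun x y _ _ hx hy => by rw [map_mul]; exact (W S).mul_mem _ _ hx hy) hb'
  have : a.2.1 (algebraMap A (B k) r) = σ r := RingHom.congr_fun a.2.2 r
  rw [this]
  exact hWσ S r

variable {A : CommRingCat.{u}} {κ : Type} (B : κ → CommRingCat.{u}) (φ : ∀ k, A ⟶ B k)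
  {L : Type u} [Field L] (σ : A →+* L)

/-- An open of `P` mapping to the `k`-th member which contains the centre of every valuation ring on
which the point `f` is integral. -/
def Good {P : Scheme.{u}} (p : P ⟶ Spec A) (s : Spec (CommRingCat.of L) ⟶ P)
    (a : Σ k, {f : B k →+* L // f.comp (φ k).hom = σ}) : Prop :=
  ∃ (O : P.Opens) (h : O.toScheme ⟶ Spec (B a.1)), h ≫ Spec.map (φ a.1) = O.ι ≫ p ∧
    ∀ (W : ValuationSubring L) (l : Spec (CommRingCat.of W) ⟶ P),
      Spec.map (CommRingCat.ofHom W.subtype) ≫ l = s → (∀ b, a.2.1 b ∈ W) → l (closedPoint W) ∈ O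

theorem isDominant_generic (W : ValuationSubring L) :
    IsDominant (Spec.map (CommRingCat.ofHom W.subtype)) := by
  constructor
  change DenseRange (PrimeSpectrum.comap W.subtype)
  rw [PrimeSpectrum.denseRange_comap_iff_ker_le_nilRadical,
    (RingHom.injective_iff_ker_eq_bot _).1 Subtype.val_injective]
  exact bot_le

theorem exists_proper (hfp : ∀ k, (φ k).hom.FinitePresentation)
    (S : List (Σ k, {f : B k →+* L // f.comp (φ k).hom = σ})) :
    ∃ (P : Scheme.{u}) (p : P ⟶ Spec A) (s : Spec (CommRingCat.of L) ⟶ P),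
      IsProper p ∧ LocallyOfFinitePresentation p ∧ s ≫ p = Spec.map (CommRingCat.ofHom σ) ∧
      ∀ a ∈ S, Good B φ σ p s a := by
  induction S with
  | nil => exact ⟨Spec A, 𝟙 _, Spec.map (CommRingCat.ofHom σ), inferInstance, inferInstance,
      Category.comp_id _, fun a ha => absurd ha List.not_mem_nil⟩
  | cons a S ih =>
    obtain ⟨P, p, s, hp, hpf, hsp, hgood⟩ := ih
    haveI := hp
    haveI := hpf
    haveI : LocallyOfFinitePresentation (Spec.map (φ a.1)) :=
      (LocallyOfFinitePresentation.SpecMap_iff _).2 (hfp a.1)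
    obtain ⟨P₁, p₁, j, hp₁, hpf₁, hj, hjp⟩ := exists_open_in_proper_fp (Spec.map (φ a.1))
    haveI := hp₁
    haveI := hpf₁
    haveI := hj
    let g : Spec (CommRingCat.of L) ⟶ Spec (B a.1) := Spec.map (CommRingCat.ofHom a.2.1)
    have hg : g ≫ Spec.map (φ a.1) = Spec.map (CommRingCat.ofHom σ) := by
      rw [← Spec.map_comp]
      exact congrArg Spec.map (CommRingCat.hom_ext a.2.2)
    let s' := pullback.lift (f := p) (g := p₁) s (g ≫ j) (by rw [hsp, Category.assoc, hjp, hg])
    refine ⟨pullback p p₁, pullback.fst p p₁ ≫ p, s', inferInstance, inferInstance,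
      by rw [← Category.assoc, pullback.lift_fst, hsp], fun b hb => ?_⟩
    rcases List.mem_cons.1 hb with rfl | hb
    · let O : (pullback p p₁).Opens := pullback.snd p p₁ ⁻¹ᵁ j.opensRange
      refine ⟨O, IsOpenImmersion.lift j (O.ι ≫ pullback.snd p p₁) (by
        rintro _ ⟨z, rfl⟩
        rw [Scheme.Hom.comp_apply]
        exact z.2), ?_, fun W l hl hW => ?_⟩
      · rw [← hjp, IsOpenImmersion.lift_fac_assoc, Category.assoc, pullback.condition]
      · haveI := isDominant_generic W
        let fW : B b.1 →+* W := b.2.1.codRestrict W hW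
        have hfW : CommRingCat.ofHom fW ≫ CommRingCat.ofHom W.subtype = CommRingCat.ofHom b.2.1 := rfl
        have key : l ≫ pullback.snd p p₁ = Spec.map (CommRingCat.ofHom fW) ≫ j := by
          refine ext_of_isDominant_of_isSeparated p₁ ?_ (Spec.map (CommRingCat.ofHom W.subtype)) ?_
          · apply ext_of_isDominant (Spec.map (CommRingCat.ofHom W.subtype))
            rw [Category.assoc, ← pullback.condition, ← Category.assoc l, ← Category.assoc,
              ← Category.assoc _ l, hl, pullback.lift_fst, hsp, Category.assoc, hjp,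
              ← Spec.map_comp_assoc, hfW]
            exact hg.symm
          · rw [← Category.assoc, hl, pullback.lift_snd, ← Spec.map_comp_assoc, hfW]
        change pullback.snd p p₁ (l (closedPoint W)) ∈ j.opensRange
        rw [← Scheme.Hom.comp_apply, key]
        exact ⟨_, rfl⟩
    · obtain ⟨O, h, hh, hO⟩ := hgood b hb
      refine ⟨pullback.fst p p₁ ⁻¹ᵁ O, (pullback.fst p p₁ ∣_ O) ≫ h, ?_, fun W l hl hW => ?_⟩
      · rw [Category.assoc, hh, ← Category.assoc, morphismRestrict_ι, Category.assoc]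
      · exact hO W (l ≫ pullback.fst p p₁) (by rw [← Category.assoc, hl, pullback.lift_fst]) hW

/-- A specialisation of an `L`-point is the centre of a valuation ring of `L`. -/
theorem exists_valuation_centre {L : Type u} [Field L] {P : Scheme.{u}}
    (s : Spec (CommRingCat.of L) ⟶ P) (y : P) (hy : s (closedPoint L) ⤳ y) :
    ∃ (W : ValuationSubring L) (l : Spec (CommRingCat.of W) ⟶ P),
      Spec.map (CommRingCat.ofHom W.subtype) ≫ l = s ∧ l (closedPoint W) = y := by
  let ψ : P.presheaf.stalk y ⟶ CommRingCat.of L :=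
    P.presheaf.stalkSpecializes hy ≫ Scheme.stalkClosedPointTo s
  obtain ⟨W, hW⟩ := (LocalSubring.range ψ.hom).exists_le_valuationSubring
  obtain ⟨hsub, hloc⟩ := LocalSubring.le_def.1 hW
  let θ : P.presheaf.stalk y →+* W :=
    (Subring.inclusion hsub).comp ψ.hom.rangeRestrict
  haveI : IsLocalHom θ := by
    haveI : IsLocalHom ψ.hom.rangeRestrict :=
      IsLocalHom.of_surjective ψ.hom.rangeRestrict ψ.hom.rangeRestrict_surjective
    exact RingHom.isLocalHom_comp _ _
  refine ⟨W, Spec.map (CommRingCat.ofHom θ) ≫ P.fromSpecStalk y, ?_, ?_⟩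
  · rw [← Category.assoc, ← Spec.map_comp,
      show CommRingCat.ofHom θ ≫ CommRingCat.ofHom W.subtype = ψ from rfl, Spec.map_comp,
      Category.assoc, Scheme.SpecMap_stalkSpecializes_fromSpecStalk,
      Scheme.Spec_stalkClosedPointTo_fromSpecStalk]
  · rw [Scheme.Hom.comp_apply]
    exact (congrArg (P.fromSpecStalk y) (IsLocalRing.comap_closedPoint θ)).trans Scheme.fromSpecStalk_closedPoint

/-- A finite union of affine opens is the complement of the zero set of an ideal of finite type. -/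
theorem exists_ftIdeal_support_eq_compl {P : Scheme.{u}} [CompactSpace P] [QuasiSeparatedSpace P]
    {ι : Type*} (t : Finset ι) (V : ι → P.Opens) (hV : ∀ i, IsAffineOpen (V i)) :
    ∃ K : P.IdealSheafData, (∀ A : P.affineOpens, (K.ideal A).FG) ∧
      (K.support : Set P) = (⋃ i ∈ t, (V i : Set P))ᶜ := by
  classical
  let W : P.Opens := ⨆ i ∈ t, V i
  have hW : (W : Set P) = ⋃ i ∈ t, (V i : Set P) := by simp [W]
  let Z : Closeds P := ⟨(W : Set P)ᶜ, W.2.isClosed_compl⟩
  let I := Scheme.IdealSheafData.vanishingIdeal Z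
  have h1 : ∀ i ∈ t, (1 : Γ(P, V i)) ∈ I.ideal ⟨V i, hV i⟩ := fun i hi => by
    rw [← Ideal.eq_top_iff_one]
    by_contra hne
    obtain ⟨q, hq, hle⟩ := Ideal.exists_le_maximal _ hne
    haveI := hq.isPrime
    let z : PrimeSpectrum Γ(P, V i) := ⟨q, inferInstance⟩
    have hzV : (hV i).fromSpec z ∈ V i := by
      rw [← SetLike.mem_coe, ← (hV i).range_fromSpec]; exact ⟨z, rfl⟩
    have hzs : (hV i).fromSpec z ∈ (I.support : Set P) := by
      rw [SetLike.mem_coe, Scheme.IdealSheafData.mem_support_iff_of_mem (U := ⟨V i, hV i⟩) hzV,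
        Scheme.mem_zeroLocus_iff]
      intro g hg hmem
      have : z ∈ PrimeSpectrum.basicOpen g := by
        rw [← (hV i).fromSpec_preimage_basicOpen]; exact hmem
      exact this (hle hg)
    rw [Scheme.IdealSheafData.coe_support_vanishingIdeal] at hzs
    exact hzs (hW.ge (Set.mem_iUnion₂.2 ⟨i, hi, hzV⟩))
  choose J hJle hJfg hJ1 using fun i : t => Groth.Agent.H7Lim.exists_finiteType_le I ⟨V i.1, hV i.1⟩ {1}
    (by simpa using h1 i.1 i.2)
  refine ⟨t.attach.sup J, ?_, le_antisymm (fun z hz hzW => ?_) ?_⟩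
  · refine Finset.sup_induction (p := fun K : P.IdealSheafData => ∀ A, (K.ideal A).FG)
      (fun A => by rw [Scheme.IdealSheafData.ideal_bot]; exact Submodule.fg_bot)
      (fun K hK K' hK' A => ?_) fun i _ => hJfg i
    rw [Scheme.IdealSheafData.ideal_sup, Pi.sup_apply]
    exact Submodule.FG.sup (hK A) (hK' A)
  · obtain ⟨i, hi, hzi⟩ := Set.mem_iUnion₂.1 hzW
    have h2 := (Scheme.IdealSheafData.mem_support_iff_of_mem (U := ⟨V i, hV i⟩) hzi).1 hz
    rw [Scheme.mem_zeroLocus_iff] at h2
    exact h2 1 ((Finset.le_sup (f := J) (Finset.mem_attach t ⟨i, hi⟩) ⟨V i, hV i⟩)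
      (hJ1 ⟨i, hi⟩ (by simp))) (by rw [Scheme.basicOpen_of_isUnit _ isUnit_one]; exact hzi)
  · rw [← hW, show ((W : Set P)ᶜ) = (Z : Set P) from rfl,
      ← Scheme.IdealSheafData.coe_support_vanishingIdeal Z]
    exact Scheme.IdealSheafData.support_antitone (Finset.sup_le fun i _ => hJle i)

/-- The local piece of a ph refinement at a point. -/
theorem exists_piece {A : CommRingCat.{u}} {κ : Type} (B : κ → CommRingCat.{u}) (φ : ∀ k, A ⟶ B k)
    (hfp : ∀ k, (φ k).hom.FinitePresentation)
    (hlift : HTop.HasValLift (PreZeroHypercover.mk κ (fun k => Spec (B k)) (fun k => Spec.map (φ k))))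
    (x : Spec A) :
    ∃ (Y : Scheme.{u}) (f : Y ⟶ Spec A), IsProper f ∧ LocallyOfFinitePresentation f ∧
      Topology.IsConstructible (Set.range f) ∧
      x ∈ Set.range f ∧ ∀ y : Y, ∃ (O : Y.Opens) (k : κ) (h : O.toScheme ⟶ Spec (B k)),
        y ∈ O ∧ h ≫ Spec.map (φ k) = O.ι ≫ f := by
  classical
  let L := AlgebraicClosure x.asIdeal.ResidueField
  let σ : A →+* L := algebraMap A L
  obtain ⟨S, hS⟩ := exists_finset_points B φ (fun k => RingHom.FiniteType.of_finitePresentation (hfp k)) hlift σ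
  obtain ⟨P, p, s, hp, hpf, hsp, hgood⟩ := exists_proper B φ σ hfp S.toList
  haveI := hp
  haveI := hpf
  choose O h hh hO using fun a : S => hgood a.1 (Finset.mem_toList.2 a.2)
  let U : P.Opens := ⨆ a : S, O a
  let s₀ : P := s (closedPoint L)
  have hclU : ∀ y, s₀ ⤳ y → y ∈ U := by
    intro y hy
    obtain ⟨W, l, hl, rfl⟩ := exists_valuation_centre s y hy
    have hσW : ∀ a, σ a ∈ W := fun a => by
      have h1 : Spec.preimage (l ≫ p) ≫ CommRingCat.ofHom W.subtype = CommRingCat.ofHom σ :=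
        Spec.map_injective (by rw [Spec.map_comp, Spec.map_preimage, ← Category.assoc, hl, hsp])
      rw [show σ a = (Spec.preimage (l ≫ p) ≫ CommRingCat.ofHom W.subtype).hom a from by rw [h1]; rfl]
      exact ((Spec.preimage (l ≫ p)).hom a).2
    obtain ⟨a, ha, haW⟩ := hS W hσW
    exact Opens.mem_iSup.2 ⟨⟨a, ha⟩, hO ⟨a, ha⟩ W l hl haW⟩
  haveI : CompactSpace P := QuasiCompact.compactSpace_of_compactSpace p
  haveI : QuasiSeparatedSpace P := quasiSeparatedSpace_of_quasiSeparated p
  have hK : IsCompact ((U : Set P)ᶜ) := U.2.isClosed_compl.isCompact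
  have hV : ∀ y : ((U : Set P)ᶜ : Set P), ∃ V : P.Opens, IsAffineOpen V ∧ y.1 ∈ V ∧ s₀ ∉ V := by
    intro y
    have hns : ¬ s₀ ⤳ y.1 := fun h => y.2 (hclU _ h)
    rw [specializes_iff_forall_open] at hns
    push Not at hns
    obtain ⟨V₀, hV₀, hyV, hsV⟩ := hns
    obtain ⟨V, hV, hyV', hVV⟩ := exists_isAffineOpen_mem_and_subset (U := ⟨V₀, hV₀⟩) hyV
    exact ⟨V, hV, hyV', fun h => hsV (hVV h)⟩
  choose V hV hyV hsV using hV
  obtain ⟨t, ht⟩ := hK.elim_finite_subcover (fun y => (V y : Set P)) (fun y => (V y).2)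
    fun y hy => Set.mem_iUnion.2 ⟨⟨y, hy⟩, hyV _⟩
  let Wb : P.Opens := ⨆ y ∈ t, V y
  have hWb : (Wb : Set P) = ⋃ y ∈ t, (V y : Set P) := by simp [Wb]
  have hWbc : IsCompact (Wb : Set P) := by
    rw [hWb]; exact t.isCompact_biUnion fun y _ => (hV y).isCompact
  let Z : Closeds P := ⟨(Wb : Set P)ᶜ, Wb.2.isClosed_compl⟩
  obtain ⟨K, hKfg, hKsupp⟩ := exists_ftIdeal_support_eq_compl t V hV
  haveI : LocallyOfFinitePresentation K.subschemeι :=
    (lfp_iff_ker_fg K.subschemeι).2 fun A => by
      rw [Scheme.IdealSheafData.ker_subschemeι]; exact hKfg A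
  have hrange : Set.range (K.subschemeι ≫ p) = p '' (Wb : Set P)ᶜ := by
    rw [Scheme.Hom.comp_base, TopCat.coe_comp, Set.range_comp, Scheme.IdealSheafData.range_subschemeι,
      hKsupp, hWb]
  refine ⟨K.subscheme, K.subschemeι ≫ p, inferInstance, inferInstance, ?_, ?_, fun y => ?_⟩
  · rw [hrange]
    exact p.isConstructible_image (hWbc.isConstructible Wb.2).compl
  · rw [hrange]
    refine ⟨s₀, ?_, ?_⟩
    · rw [Set.mem_compl_iff, hWb]
      simp only [Set.mem_iUnion, not_exists]
      exact fun y _ => hsV y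
    · change p (s (closedPoint L)) = x
      rw [← Scheme.Hom.comp_apply, hsp]
      apply PrimeSpectrum.ext
      change Ideal.comap σ (closedPoint L).asIdeal = x.asIdeal
      rw [show (closedPoint L).asIdeal = ⊥ from IsLocalRing.maximalIdeal_eq_bot]
      ext a
      rw [Ideal.mem_comap, Ideal.mem_bot]
      simp only [σ, IsScalarTower.algebraMap_apply A x.asIdeal.ResidueField L, map_eq_zero_iff _
        (algebraMap x.asIdeal.ResidueField L).injective, Ideal.algebraMap_residueField_eq_zero]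
  · have hyU : K.subschemeι y ∈ U := by
      have hy : K.subschemeι y ∈ Set.range K.subschemeι := ⟨y, rfl⟩
      rw [Scheme.IdealSheafData.range_subschemeι, hKsupp] at hy
      by_contra hy'
      exact hy (ht hy')
    obtain ⟨a, hay⟩ := Opens.mem_iSup.1 hyU
    refine ⟨K.subschemeι ⁻¹ᵁ O a, a.1.1, (K.subschemeι ∣_ O a) ≫ h a, hay, ?_⟩
    rw [Category.assoc, hh a, ← Category.assoc, morphismRestrict_ι, Category.assoc]

theorem exists_proper_fp_cover {A : CommRingCat.{u}} {κ : Type} (B : κ → CommRingCat.{u}) (φ : ∀ k, A ⟶ B k)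
    (hfp : ∀ k, (φ k).hom.FinitePresentation)
    (hlift : HTop.HasValLift (PreZeroHypercover.mk κ (fun k => Spec (B k)) (fun k => Spec.map (φ k)))) :
    ∃ (Y : Scheme.{u}) (g : Y ⟶ Spec A), IsProper g ∧ Surjective g ∧ LocallyOfFinitePresentation g ∧
      ∀ y : Y, ∃ (V : Scheme.{u}) (v : V ⟶ Y), IsOpenImmersion v ∧ y ∈ Set.range v ∧
        ∃ (k : κ) (h : V ⟶ Spec (B k)), h ≫ Spec.map (φ k) = v ≫ g := by
  classical
  choose Y f hproper hlfp hcons hx hcov using exists_piece B φ hfp hlift
  haveI := hproper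
  have hopen : ∀ x, IsOpen (WithTopology.ofTopology ⁻¹'
      Set.range (f x) : Set (WithConstructibleTopology (Spec A))) := fun x => by
    rw [WithConstructibleTopology.isOpen_iff]
    convert IsCompact.isOpen_constructibleTopology_of_isClosed
      (H24Algz.isCompact_of_isConstructible (hcons x).compl)
      ((f x).isClosedMap.isClosed_range) using 1
    rfl
  obtain ⟨t, ht⟩ := isCompact_univ.elim_finite_subcover _ hopen
    (fun z _ => Set.mem_iUnion.2 ⟨WithTopology.ofTopology z, hx _⟩)
  let q : (∐ fun x : t => Y x.1) ⟶ Spec A := Sigma.desc fun x : t => f x.1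
  haveI : UniversallyClosed q := universallyClosed_sigmaDesc _ 
  haveI : IsSeparated q :=
    Groth.Agent.H12AlgSp.isSeparated_sigmaDesc (fun x : t => f x.1) fun i => inferInstance
  haveI : LocallyOfFiniteType q :=
    (IsZariskiLocalAtSource.iff_of_openCover (P := @LocallyOfFiniteType) (sigmaOpenCover _)).2 fun i => by
      change LocallyOfFiniteType (Sigma.ι _ i ≫ q)
      rw [Sigma.ι_desc]
      infer_instance
  haveI : IsProper q := ⟨⟩
  haveI : Surjective q := ⟨fun x => by
    obtain ⟨z, hz⟩ := WithTopology.ofTopology_surjective (t := constructibleTopology (Spec A)) x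
    obtain ⟨y, hyt, w, hw⟩ := Set.mem_iUnion₂.1 (ht (Set.mem_univ z))
    refine ⟨Sigma.ι (fun x : t => Y x.1) ⟨y, hyt⟩ w, ?_⟩
    rw [← Scheme.Hom.comp_apply, Sigma.ι_desc]
    exact hw.trans hz⟩
  haveI : LocallyOfFinitePresentation q :=
    (IsZariskiLocalAtSource.iff_of_openCover (P := @LocallyOfFinitePresentation) (sigmaOpenCover _)).2
      fun i => by
        change LocallyOfFinitePresentation (Sigma.ι _ i ≫ q)
        rw [Sigma.ι_desc]
        exact hlfp i.1
  refine ⟨_, q, inferInstance, inferInstance, inferInstance, fun z => ?_⟩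
  obtain ⟨x, y, hy⟩ := (sigmaOpenCover (fun x : t => Y x.1)).exists_eq z
  obtain ⟨O, k, h, hyO, hh⟩ := hcov x.1 y
  refine ⟨O.toScheme, O.ι ≫ Sigma.ι (fun x : t => Y x.1) x, inferInstance, ⟨⟨y, hyO⟩, hy⟩, k, h, ?_⟩
  rw [Category.assoc, Sigma.ι_desc]
  exact hh

theorem exists_standardPh {A : CommRingCat.{u}} {κ : Type} (B : κ → CommRingCat.{u}) (φ : ∀ k, A ⟶ B k)
    (hfp : ∀ k, (φ k).hom.FinitePresentation)
    (hlift : HTop.HasValLift (PreZeroHypercover.mk κ (fun k => Spec (B k)) (fun k => Spec.map (φ k)))) :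
    ∃ F : PreZeroHypercover.{0} (Spec A), HTop.IsStandardPh F ∧
      HTop.RefinesOver (𝟙 (Spec A)) F
        (PreZeroHypercover.mk κ (fun k => Spec (B k)) (fun k => Spec.map (φ k))) := by
  obtain ⟨Y, g, hg, hgs, -, hcov⟩ := exists_proper_fp_cover B φ hfp hlift
  refine exists_standardPh_of_proper g (𝟙 _) _ fun z => ?_
  obtain ⟨V, v, hv, hz, k, h, hh⟩ := hcov z
  refine ⟨V, v, hv, hz, k, h, ?_⟩
  rw [Category.comp_id]
  exact hh

end Groth.Agent.H18HTop.PhOfV
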