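import Groth.Agent.H18HTop.VCoverCrit

/-!
# Standard ph coverings and standard V coverings
-/

set_option autoImplicit false

universe w u

open CategoryTheory Limits AlgebraicGeometry IsLocalRing HTop

namespace Groth.Agent.H18HTop

set_option backward.isDefEq.respectTransparency false

variable {T T' : Scheme.{u}}

theorem isStandardV_of_isStandardPh {E : PreZeroHypercover.{w} T} (hE : IsStandardPh E) : IsStandardV E := by
  refine ⟨hE.isAffine, hE.finite_index, hE.isAffine_obj, ?_⟩
  obtain ⟨U, f, ι, hf, hs, ho, hι, hcov⟩ := hE.exists_proper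
  haveI := hf; haveI := hs
  intro V _ _ g
  obtain ⟨W, i1, i2, φ, hφ, k, g', hg'⟩ := hasValLift_singleton_of_universallyClosed.{0} f V g
  let g'' : Spec W ⟶ U := g'
  obtain ⟨j, y, hy⟩ := hcov (g'' (closedPoint W))
  haveI := ho j
  have hr : Set.range g'' ⊆ Set.range (ι j) :=
    range_subset_of_closedPoint_mem g'' (ι j).opensRange ⟨y, hy⟩
  refine ⟨W, i1, i2, φ, hφ, j, IsOpenImmersion.lift (ι j) g'' hr, ?_⟩
  rw [← hι j, ← Category.assoc, IsOpenImmersion.lift_fac]
  exact hg'

theorem isStandardPh_pullback [IsAffine T'] (g : T' ⟶ T) {E : PreZeroHypercover.{w} T} (hE : IsStandardPh E) :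
    IsStandardPh (E.pullback₁ g) := by
  obtain ⟨U, f, ι, hf, hs, ho, hι, hcov⟩ := hE.exists_proper
  haveI := hE.isAffine
  let m (j) : pullback g (E.f j) ⟶ pullback g f := pullback.lift (pullback.fst g (E.f j))
    (pullback.snd g (E.f j) ≫ ι j) (by rw [Category.assoc, hι j, pullback.condition])
  have sq (j) : IsPullback (pullback.snd g (E.f j)) (m j) (ι j) (pullback.snd g f) := by
    refine IsPullback.of_bot ?_ (pullback.lift_snd _ _ _).symm (IsPullback.of_hasPullback g f).flip
    rw [hι j, pullback.lift_fst]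
    exact (IsPullback.of_hasPullback g (E.f j)).flip
  refine ⟨‹_›, hE.finite_index, fun j => ?_, ⟨pullback g f, pullback.fst g f, m,
    MorphismProperty.pullback_fst (P := @IsProper) g f hf, MorphismProperty.pullback_fst (P := @Surjective) g f hs,
    fun j => MorphismProperty.of_isPullback (P := @IsOpenImmersion) (sq j) (ho j),
    fun j => pullback.lift_fst _ _ _, fun z => ?_⟩⟩
  · haveI := hE.isAffine_obj j
    haveI : IsAffineHom g := isAffineHom_of_isAffine g
    haveI : IsAffineHom (pullback.snd g (E.f j)) :=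
      MorphismProperty.pullback_snd (P := @IsAffineHom) _ _ ‹_›
    exact isAffine_of_isAffineHom (pullback.snd g (E.f j))
  · obtain ⟨j, y, hy⟩ := hcov (pullback.snd g f z)
    obtain ⟨o, -, ho⟩ := Scheme.exists_preimage_of_isPullback (sq j) y z hy
    exact ⟨j, o, ho⟩

theorem isStandardV_bind {E : PreZeroHypercover.{w} T} (hE : IsStandardV E) {F : ∀ j, PreZeroHypercover.{w} (E.X j)}
    (hF : ∀ j, IsStandardV (F j)) : IsStandardV (E.bind F) := by
  haveI := hE.finite_index
  haveI := fun j => (hF j).finite_index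
  refine ⟨hE.isAffine, inferInstanceAs (Finite (Σ j, (F j).I₀)), fun jk => (hF jk.1).isAffine_obj jk.2,
    fun V _ _ v => ?_⟩
  obtain ⟨W, i1, i2, φ, hφ, j, v', hv'⟩ := hE.lift V v
  obtain ⟨W', i1', i2', ψ, hψ, k, v'', hv''⟩ := (hF j).lift W v'
  refine ⟨W', i1', i2', φ ≫ ψ, isExtVal_comp hφ hψ, ⟨j, k⟩, v'', ?_⟩
  show v'' ≫ (F j).f k ≫ E.f j = _
  rw [← Category.assoc, hv'', Category.assoc, hv', Spec.map_comp, Category.assoc]

end Groth.Agent.H18HTop
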