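import Groth.Prelude.Def_HTop
import Groth.Agent.H18HTop.PhOfV

/-!
V coverings by morphisms of finite presentation, restricted to an affine open, give finite families
of finitely presented algebras with the valuative lifting property.
-/

set_option autoImplicit false
universe w u

open CategoryTheory CategoryTheory.Limits AlgebraicGeometry HTop

namespace Groth.Agent.H18HTop

theorem exists_fp_family {X : Scheme.{u}} (E : PreZeroHypercover.{w} X)
    (hE : ∀ i, LocallyOfFinitePresentation (E.f i)) (h : HTop.IsVCover E) (U : X.affineOpens) :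
    ∃ (κ : Type) (_ : Finite κ) (B : κ → CommRingCat.{u}) (φ : ∀ k, Γ(((U : X.Opens) : Scheme.{u}), ⊤) ⟶ B k),
      (∀ k, (φ k).hom.FinitePresentation) ∧
      HTop.HasValLift (PreZeroHypercover.mk κ (fun k => Spec (B k)) (fun k => Spec.map (φ k))) ∧
      ∀ k, ∃ (i : E.I₀) (l : Spec (B k) ⟶ E.X i),
        haveI : IsAffine ((U : X.Opens) : Scheme.{u}) := U.2
        l ≫ E.f i = Spec.map (φ k) ≫ ((U : X.Opens) : Scheme.{u}).isoSpec.inv ≫ (U : X.Opens).ι := by
  classical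
  obtain ⟨F, hF, hR⟩ := h U
  haveI := hF.finite_index
  haveI := hF.isAffine_obj
  haveI : IsAffine ((U : X.Opens) : Scheme.{u}) := U.2
  choose ix l hl using hR
  -- finitely many affines through which the refinement factors
  have hC : ∀ j, ∃ (n : ℕ) (C : Fin n → (E.X (ix j)).Opens), (∀ m, IsAffineOpen (C m)) ∧
      (∀ m, C m ≤ E.f (ix j) ⁻¹ᵁ (U : X.Opens)) ∧ ∀ y, ∃ m, l j y ∈ C m := by
    intro j
    have hmem : ∀ y, l j y ∈ E.f (ix j) ⁻¹ᵁ (U : X.Opens) := fun y => by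
      show E.f (ix j) (l j y) ∈ (U : X.Opens)
      rw [← Scheme.Hom.comp_apply, hl j, Scheme.Hom.comp_apply]
      exact (F.f j y).2
    have hex : ∀ y, ∃ C : (E.X (ix j)).Opens, IsAffineOpen C ∧ l j y ∈ C ∧
        C ≤ E.f (ix j) ⁻¹ᵁ (U : X.Opens) := fun y =>
      exists_isAffineOpen_mem_and_subset (hmem y)
    choose C hC hyC hCU using hex
    obtain ⟨t, ht⟩ := isCompact_univ.elim_finite_subcover (fun y => ((l j ⁻¹ᵁ C y : (F.X j).Opens) : Set (F.X j)))
      (fun y => (l j ⁻¹ᵁ C y).2) fun y _ => Set.mem_iUnion.2 ⟨y, hyC y⟩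
    refine ⟨t.card, fun m => C (t.equivFin.symm m).1, fun m => hC _, fun m => hCU _, fun y => ?_⟩
    obtain ⟨z, hz, hyz⟩ := Set.mem_iUnion₂.1 (ht (Set.mem_univ y))
    exact ⟨t.equivFin ⟨z, hz⟩, by simp only [Equiv.symm_apply_apply]; exact hyz⟩
  choose n C hCaff hCU hcov using hC
  haveI : ∀ j m, IsAffine (C j m : Scheme.{u}) := hCaff
  let A := Γ(((U : X.Opens) : Scheme.{u}), ⊤)
  let eU := ((U : X.Opens) : Scheme.{u}).isoSpec
  let κ := Σ j, Fin (n j)
  let q : ∀ k : κ, (C k.1 k.2 : Scheme.{u}) ⟶ ((U : X.Opens) : Scheme.{u}) := fun k =>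
    (E.f (ix k.1)).resLE (U : X.Opens) (C k.1 k.2) (hCU k.1 k.2)
  let B : κ → CommRingCat.{u} := fun k => Γ((C k.1 k.2 : Scheme.{u}), ⊤)
  let φ : ∀ k, A ⟶ B k := fun k => (q k).appTop
  have hφ : ∀ k, (C k.1 k.2 : Scheme.{u}).isoSpec.hom ≫ Spec.map (φ k) = q k ≫ eU.hom := fun k =>
    (Scheme.isoSpec_hom_naturality (q k))
  have hfp : ∀ k, (φ k).hom.FinitePresentation := fun k => by
    haveI := hE (ix k.1)
    exact Scheme.Hom.finitePresentation_appTop (q k)
  have hlift : HTop.HasValLift (PreZeroHypercover.mk κ (fun k => Spec (B k)) (fun k => Spec.map (φ k))) := by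
    intro V _ _ g
    obtain ⟨W, i1, i2, ψ, hψ, j, v, hv⟩ := hF.lift V (g ≫ eU.inv)
    haveI := i1; haveI := i2
    obtain ⟨m, hm⟩ := hcov j (v (IsLocalRing.closedPoint W))
    have hrng : Set.range (v ≫ l j) ⊆ Set.range (C j m).ι := by
      rw [Scheme.Opens.range_ι]
      exact Groth.Agent.H18HTop.range_subset_of_closedPoint_mem _ _ (by rw [Scheme.Hom.comp_apply]; exact hm)
    let w := IsOpenImmersion.lift (C j m).ι (v ≫ l j) hrng
    have hw : w ≫ (C j m).ι = v ≫ l j := IsOpenImmersion.lift_fac _ _ _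
    have hwq : w ≫ q ⟨j, m⟩ = Spec.map ψ ≫ g ≫ eU.inv := by
      rw [← cancel_mono (U : X.Opens).ι, Category.assoc, Scheme.Hom.resLE_comp_ι, ← Category.assoc,
        hw, Category.assoc, hl j, ← Category.assoc, hv]
    refine ⟨W, i1, i2, ψ, hψ, ⟨j, m⟩, w ≫ (C j m : Scheme.{u}).isoSpec.hom, ?_⟩
    change (w ≫ _) ≫ Spec.map (φ ⟨j, m⟩) = _
    rw [Category.assoc, hφ ⟨j, m⟩, ← Category.assoc, hwq, Category.assoc, Category.assoc,
      Iso.inv_hom_id, Category.comp_id]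
  haveI : Finite F.I₀ := hF.finite_index
  let e := (Finite.equivFin κ).symm
  refine ⟨κ, inferInstance, B, φ, hfp, hlift, fun k => ⟨ix k.1,
    (C k.1 k.2 : Scheme.{u}).isoSpec.inv ≫ (C k.1 k.2).ι, ?_⟩⟩
  have h1 : (C k.1 k.2).ι ≫ E.f (ix k.1) = q k ≫ (U : X.Opens).ι :=
    (Scheme.Hom.resLE_comp_ι _ _).symm
  have h2 : (C k.1 k.2 : Scheme.{u}).isoSpec.inv ≫ q k = Spec.map (φ k) ≫ eU.inv := by
    rw [Iso.inv_comp_eq, ← Category.assoc, Iso.eq_comp_inv]
    exact (hφ k).symm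
  simp only [Category.assoc, h1]
  rw [reassoc_of% h2]

end Groth.Agent.H18HTop
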