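import Groth.Agent.H18HTop.Thickening

/-!
# Finite jointly surjective families of proper morphisms are h coverings
-/

set_option autoImplicit false

universe w v u

open CategoryTheory Limits AlgebraicGeometry IsLocalRing HTop Opposite

namespace Groth.Agent.H18HTop

set_option backward.isDefEq.respectTransparency false

theorem quasiCompact_sigmaDesc {T : Scheme.{u}} {I : Type u} [Finite I] {X : I → Scheme.{u}}
    (f : ∀ i, X i ⟶ T) [∀ i, QuasiCompact (f i)] : QuasiCompact (Sigma.desc f) := by
  refine ⟨fun U hU hc => ?_⟩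
  have e : (Sigma.desc f).base ⁻¹' U = ⋃ i, (Sigma.ι X i).base '' ((f i).base ⁻¹' U) := by
    ext z
    simp only [Set.mem_preimage, Set.mem_iUnion, Set.mem_image]
    constructor
    · intro hz
      obtain ⟨i, w, rfl⟩ := (sigmaOpenCover X).exists_eq z
      refine ⟨i, w, ?_, rfl⟩
      rwa [← Scheme.Hom.comp_apply, show (sigmaOpenCover X).f i = Sigma.ι X i from rfl,
        Sigma.ι_desc] at hz
    · rintro ⟨i, w, hw, rfl⟩
      rwa [← Scheme.Hom.comp_apply, Sigma.ι_desc]
  rw [e]
  exact isCompact_iUnion fun i =>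
    ((f i).isCompact_preimage (U := ⟨U, hU⟩) hc).image (Sigma.ι X i).continuous

theorem hasValLift_of_universallyClosed {T : Scheme.{u}} (E : PreZeroHypercover.{w} T)
    [∀ i, UniversallyClosed (E.f i)] (hsurj : ∀ t : T, ∃ i z, E.f i z = t) : HasValLift E := by
  refine hasValLift_of_specializes _ fun V _ _ g => ?_
  obtain ⟨j, z, hz⟩ := hsurj (g (⊥ : PrimeSpectrum V))
  obtain ⟨a, ha, -⟩ := Scheme.Pullback.exists_preimage_pullback (f := g) (g := E.f j)
    (⊥ : PrimeSpectrum V) z hz.symm
  haveI : UniversallyClosed (pullback.fst g (E.f j)) :=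
    MorphismProperty.pullback_fst (P := @UniversallyClosed) _ _ inferInstance
  obtain ⟨b, hab, hb⟩ := (pullback.fst g (E.f j)).isClosedMap.specializingMap
    (show pullback.fst g (E.f j) a ⤳ closedPoint V from ha ▸ specializes_closedPoint _)
  exact ⟨j, a, b, hab, ha, hb⟩

/-- A finite jointly surjective family of universally closed quasi-compact maps is a V covering. -/
theorem isVCover_of_universallyClosed {T : Scheme.{u}} (E : PreZeroHypercover.{u} T) [Finite E.I₀]
    [∀ i, UniversallyClosed (E.f i)] [∀ i, QuasiCompact (E.f i)]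
    (hsurj : ∀ t : T, ∃ i z, E.f i z = t) : IsVCover E := by
  refine (isVCover_singleton_sigmaDesc_iff E).1 ?_
  haveI := quasiCompact_sigmaDesc E.f
  refine isVCover_singleton_of_hasValLift _ fun V _ _ g => ?_
  obtain ⟨W, i1, i2, φ, hφ, j, g', hg⟩ := hasValLift_of_universallyClosed E hsurj V g
  refine ⟨W, i1, i2, φ, hφ, PUnit.unit, g' ≫ Sigma.ι E.X j, ?_⟩
  show (g' ≫ Sigma.ι E.X j) ≫ Sigma.desc E.f = _
  rw [Category.assoc, Sigma.ι_desc, hg]

theorem mem_over_of_family {S : Scheme.{u}} (J : Precoverage Scheme.{u}) {X' : Over S} {I : Type u}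
    {X : I → Over S} (f : ∀ i, X i ⟶ X')
    (hf : Presieve.ofArrows (fun i => (X i).left) (fun i => (f i).left) ∈ J X'.left) :
    Sieve.generate (Presieve.ofArrows X f) ∈ (J.toGrothendieck.over S) X' := by
  rw [GrothendieckTopology.mem_over_iff, Sieve.overEquiv_generate]
  refine J.toGrothendieck.superset_covering ?_ (Precoverage.generate_mem_toGrothendieck hf)
  rw [Sieve.generate_le_iff]
  rintro _ _ ⟨i⟩
  exact ⟨(X i).left, 𝟙 _, (f i).left, ⟨X i, f i, 𝟙 _, Presieve.ofArrows.mk i, (Category.id_comp _).symm⟩,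
    Category.id_comp _⟩

theorem hSheaf_ext_of_proper {S : Scheme.{u}} (F : ShH S) {X' : Over S} {I : Type u} [Finite I]
    {X : I → Over S} (f : ∀ i, X i ⟶ X') [∀ i, UniversallyClosed (f i).left]
    [∀ i, LocallyOfFinitePresentation (f i).left]
    (hsurj : ∀ t : X'.left, ∃ i z, (f i).left z = t) {a b : F.obj.obj (op X')}
    (h : ∀ i, F.obj.map (f i).op a = F.obj.map (f i).op b) : a = b := by
  let E : PreZeroHypercover.{u} X'.left := ⟨I, fun i => (X i).left, fun i => (f i).left⟩
  haveI : Finite E.I₀ := ‹Finite I›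
  haveI : ∀ i, UniversallyClosed (E.f i) := fun i => inferInstanceAs (UniversallyClosed (f i).left)
  haveI : ∀ i, QuasiCompact (E.f i) := fun i => inferInstanceAs (QuasiCompact (f i).left)
  have hc : IsHCover E := ⟨fun i => inferInstanceAs (LocallyOfFinitePresentation (f i).left),
    isVCover_of_universallyClosed E hsurj⟩
  have hmem := mem_over_of_family hPrecoverage f ((presieve₀_mem_hPrecoverage_iff E).2 hc)
  have hsep := ((Presieve.isSheafFor_iff_generate _).2
    (((isSheaf_iff_isSheaf_of_type _ _).1 F.property) _ hmem)).isSeparatedFor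
  exact hsep.ext fun _ _ ⟨i⟩ => h i

end Groth.Agent.H18HTop
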