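import Groth.Prelude.Def_HTop
import Mathlib.CategoryTheory.Sites.Canonical
import Groth.Agent.H18HTop.FpFamily
import Groth.Agent.H18HTop.ProperFamily

/-!
Sheaves on the big h site of `S` from Zariski descent and descent along proper surjections of finite
presentation over affine schemes.
-/

set_option autoImplicit false
set_option backward.isDefEq.respectTransparency false
universe w u

open CategoryTheory CategoryTheory.Limits AlgebraicGeometry Opposite HTop

namespace Groth.Agent.H18HTop.OverTopology

variable {S : Scheme.{u}}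

/-- The arrows into `Y` which are open immersions from affine schemes. -/
def affineArrows (Y : Over S) : Presieve Y :=
  fun Z f => IsAffine Z.left ∧ IsOpenImmersion f.left

theorem affineArrows_mem (Y : Over S) :
    Sieve.generate (affineArrows Y) ∈ Scheme.zariskiTopology.over S Y := by
  rw [GrothendieckTopology.mem_over_iff]
  have h : Sieve.generate (Presieve.ofArrows Y.left.affineCover.X Y.left.affineCover.f) ∈
      Scheme.zariskiTopology Y.left :=
    Precoverage.generate_mem_toGrothendieck Y.left.affineCover.mem₀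
  refine GrothendieckTopology.superset_covering _ ?_ h
  rw [Sieve.generate_le_iff]
  have key : ∀ i, affineArrows Y
      (Over.homMk (Y.left.affineCover.f i) : Over.mk (Y.left.affineCover.f i ≫ Y.hom) ⟶ Y) :=
    fun i => ⟨inferInstanceAs (IsAffine (Y.left.affineCover.X i)),
      inferInstanceAs (IsOpenImmersion (Y.left.affineCover.f i))⟩
  intro Z g hg
  obtain ⟨i⟩ := hg
  rw [Sieve.overEquiv_iff]
  exact Sieve.le_generate _ _ _ (key i)

variable (F : (Over S)ᵒᵖ ⥤ Type w) (hz : Presieve.IsSheaf (Scheme.zariskiTopology.over S) F)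

include hz in
/-- Elements agreeing on all affine objects over `Y` are equal. -/
theorem ext_affine {Y : Over S} {x y : F.obj (op Y)}
    (h : ∀ (W : Over S) [IsAffine W.left] (a : W ⟶ Y), F.map a.op x = F.map a.op y) : x = y := by
  refine (hz _ (affineArrows_mem Y)).isSeparatedFor.ext fun Z f hf => ?_
  obtain ⟨W, k, a, ⟨hW, -⟩, rfl⟩ := hf
  haveI := hW
  rw [op_comp, Functor.map_comp, types_comp_apply, types_comp_apply, h W a]

include hz in
/-- The sheaf condition for a sieve may be checked after pulling back to affine objects. -/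
theorem isSheafFor_of_affine {Y : Over S} (R : Sieve Y)
    (h : ∀ (W : Over S) [IsAffine W.left] (a : W ⟶ Y), Presieve.IsSheafFor F (R.pullback a).arrows) :
    Presieve.IsSheafFor F R.arrows := by
  intro x hx
  -- the amalgamation over each affine object
  have hy : ∀ (W : Over S) [IsAffine W.left] (a : W ⟶ Y),
      ∃! t : F.obj (op W), ∀ ⦃Z : Over S⦄ (k : Z ⟶ W) (hk : R (k ≫ a)), F.map k.op t = x (k ≫ a) hk := by
    intro W _ a
    exact h W a (fun Z k hk => x (k ≫ a) hk) (fun Z₁ Z₂ Z g₁ g₂ f₁ f₂ h₁ h₂ hc =>
      hx g₁ g₂ h₁ h₂ (by rw [← Category.assoc, hc, Category.assoc]))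
  choose y hy huniq using hy
  have hnat : ∀ (W W' : Over S) [IsAffine W.left] [IsAffine W'.left] (k : W' ⟶ W) (a : W ⟶ Y),
      F.map k.op (y W a) = y W' (k ≫ a) := by
    intro W W' _ _ k a
    refine huniq W' (k ≫ a) _ fun Z l hl => ?_
    rw [← types_comp_apply (F.map k.op) (F.map l.op), ← Functor.map_comp, ← op_comp,
      hy W a (l ≫ k) (by rw [Category.assoc]; exact hl)]
    congr 1
  -- the family on the sieve of affine opens
  let A := Sieve.generate (affineArrows Y)
  have hex : ∀ {Z : Over S} (f : Z ⟶ Y), A f → ∃ t : F.obj (op Z),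
      ∀ (W : Over S) [IsAffine W.left] (k : W ⟶ Z), F.map k.op t = y W (k ≫ f) := by
    intro Z f hf
    obtain ⟨W₀, l, a, ⟨hW₀, -⟩, rfl⟩ := hf
    haveI := hW₀
    refine ⟨F.map l.op (y W₀ a), fun W _ k => ?_⟩
    rw [← types_comp_apply (F.map l.op) (F.map k.op), ← Functor.map_comp, ← op_comp, hnat,
      Category.assoc]
  choose z hzf using @hex
  have hcompat : Presieve.FamilyOfElements.Compatible (fun Z f (hf : A f) => z f hf) := by
    intro Z₁ Z₂ Z g₁ g₂ f₁ f₂ h₁ h₂ hc
    refine ext_affine F hz fun W _ k => ?_
    rw [← types_comp_apply (F.map g₁.op) (F.map k.op), ← Functor.map_comp, ← op_comp,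
      ← types_comp_apply (F.map g₂.op) (F.map k.op), ← Functor.map_comp, ← op_comp, hzf, hzf,
      Category.assoc, Category.assoc, hc]
  obtain ⟨t, ht, -⟩ := hz _ (affineArrows_mem Y) _ hcompat
  have hty : ∀ (W : Over S) [IsAffine W.left] (a : W ⟶ Y), F.map a.op t = y W a := by
    intro W _ a
    refine (hz _ (Scheme.zariskiTopology.over S |>.pullback_stable a (affineArrows_mem Y))).isSeparatedFor.ext
      fun Z l hl => ?_
    rw [← types_comp_apply (F.map a.op) (F.map l.op), ← Functor.map_comp, ← op_comp, ht _ hl]
    refine ext_affine F hz fun W' _ k => ?_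
    rw [hzf, ← types_comp_apply (F.map l.op) (F.map k.op), ← Functor.map_comp, ← op_comp, hnat,
      Category.assoc]
  refine ⟨t, fun Z f hf => ?_, fun t' ht' => ?_⟩
  · refine ext_affine F hz fun W _ k => ?_
    rw [← types_comp_apply (F.map f.op) (F.map k.op), ← Functor.map_comp, ← op_comp, hty]
    have h1 := hy W (k ≫ f) (𝟙 W) (by rw [Category.id_comp]; exact R.downward_closed hf k)
    rw [op_id, F.map_id, types_id_apply] at h1
    rw [h1]
    have h2 := hx k (𝟙 W) hf (R.downward_closed hf k) (by rw [Category.id_comp])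
    rw [op_id, F.map_id, types_id_apply] at h2
    rw [h2]
    congr 1
  · refine ext_affine F hz fun W _ a => ?_
    rw [hty]
    refine huniq W a _ fun Z k hk => ?_
    rw [← types_comp_apply (F.map a.op) (F.map k.op), ← Functor.map_comp, ← op_comp]
    exact ht' _ hk

/-- A single arrow whose base changes over affines all have descent gives a covering sieve of the
finest topology for `F`. -/
theorem singleton_mem {P : MorphismProperty Scheme.{u}} [P.IsStableUnderBaseChange]
    (hz : Presieve.IsSheaf (Scheme.zariskiTopology.over S) F)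
    (hP : ∀ (U V : Over S) (f : V ⟶ U), IsAffine U.left → P f.left →
      Presieve.IsSheafFor F (Presieve.singleton f))
    {U V : Over S} (f : V ⟶ U) (hf : P f.left) :
    Sieve.generate (Presieve.singleton f) ∈ Sheaf.finestTopologySingle F U := by
  intro Z g
  refine isSheafFor_of_affine F hz _ fun W hW a => ?_
  rw [← Sieve.pullback_comp]
  let b := a ≫ g
  let V' : Over S := Over.mk (pullback.fst b.left f.left ≫ W.hom)
  let f' : V' ⟶ W := Over.homMk (pullback.fst b.left f.left) rfl
  let π : V' ⟶ V := Over.homMk (pullback.snd b.left f.left) (by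
    change _ ≫ V.hom = pullback.fst b.left f.left ≫ W.hom
    rw [← Over.w f, ← pullback.condition_assoc, Over.w b])
  have hsq : f' ≫ b = π ≫ f := Over.OverMorphism.ext pullback.condition
  have heq : (Sieve.generate (Presieve.singleton f)).pullback b =
      Sieve.generate (Presieve.singleton f') := by
    refine le_antisymm (fun T l hl => ?_) ?_
    · obtain ⟨_, r, _, ⟨⟩, hr⟩ := hl
      refine ⟨V', Over.homMk (pullback.lift l.left r.left
        (by simpa using (congrArg CommaMorphism.left hr).symm)) ?_, f', ⟨⟩, ?_⟩
      · change pullback.lift _ _ _ ≫ pullback.fst b.left f.left ≫ W.hom = T.hom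
        rw [pullback.lift_fst_assoc, Over.w l]
      · exact Over.OverMorphism.ext (pullback.lift_fst _ _ _)
    · rw [Sieve.generate_le_iff]
      rintro _ _ ⟨⟩
      exact ⟨V, π, f, ⟨⟩, hsq.symm⟩
  rw [heq, ← Presieve.isSheafFor_iff_generate]
  exact hP W V' f' hW (P.pullback_fst b.left f.left hf)

end Groth.Agent.H18HTop.OverTopology
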