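import Mathlib

/-!
# Ultraproducts of fields with valuation subrings

The ultraproduct of algebraically closed fields is algebraically closed and the ultraproduct of
valuation subrings is a valuation subring.
-/

set_option autoImplicit false
universe u v

open Filter

noncomputable section

namespace Groth.Agent.H18HTop.Ultra

variable {ι : Type v} (F : Ultrafilter ι) (L : ι → Type u) [∀ a, Field (L a)]

/-- Families vanishing almost everywhere. -/
def nullIdeal : Ideal (∀ a, L a) where
  carrier := {x | ∀ᶠ a in (F : Filter ι), x a = 0}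
  zero_mem' := Eventually.of_forall fun _ => rfl
  add_mem' := fun {x y} hx hy => by
    filter_upwards [hx, hy] with a ha hb
    rw [Pi.add_apply, ha, hb, add_zero]
  smul_mem' := fun c x hx => by
    filter_upwards [hx] with a ha
    rw [smul_eq_mul, Pi.mul_apply, ha, mul_zero]

theorem mem_nullIdeal {x : ∀ a, L a} : x ∈ nullIdeal F L ↔ ∀ᶠ a in (F : Filter ι), x a = 0 := Iff.rfl

instance : (nullIdeal F L).IsMaximal := by
  classical
  rw [Ideal.isMaximal_iff]
  refine ⟨fun h => ?_, fun J x hJ hx hxJ => ?_⟩
  · obtain ⟨a, ha⟩ := (mem_nullIdeal F L).1 h |>.exists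
    exact one_ne_zero ha
  · have h0 : ∀ᶠ a in (F : Filter ι), x a ≠ 0 := Ultrafilter.eventually_not.2 hx
    have h1 : (1 : ∀ a, L a) - (fun a => (x a)⁻¹) * x ∈ nullIdeal F L := by
      rw [mem_nullIdeal]
      filter_upwards [h0] with a ha
      rw [Pi.sub_apply, Pi.one_apply, Pi.mul_apply, inv_mul_cancel₀ ha, sub_self]
    simpa using J.add_mem (hJ h1) (J.mul_mem_left (fun a => (x a)⁻¹) hxJ)

/-- The ultraproduct of a family of fields. -/
abbrev UProd : Type (max u v) := (∀ a, L a) ⧸ nullIdeal F L

noncomputable instance instFieldUProd : Field (UProd F L) := Ideal.Quotient.field _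

theorem mk_eq_mk {x y : ∀ a, L a} :
    (Ideal.Quotient.mk (nullIdeal F L) x : UProd F L) = Ideal.Quotient.mk _ y ↔
      ∀ᶠ a in (F : Filter ι), x a = y a := by
  rw [Ideal.Quotient.eq, mem_nullIdeal]
  simp [sub_eq_zero]

theorem eval₂_pi {R : Type*} [CommSemiring R] (φ : ∀ a, R →+* L a) (x : ∀ a, L a) (p : Polynomial R) (a : ι) :
    Polynomial.eval₂ (Pi.ringHom φ) x p a = Polynomial.eval₂ (φ a) (x a) p := by
  have := Polynomial.hom_eval₂ p (Pi.ringHom φ) (Pi.evalRingHom L a) x
  exact this

instance isAlgClosed [∀ a, IsAlgClosed (L a)] : IsAlgClosed (UProd F L) := by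
  classical
  refine IsAlgClosed.of_exists_root _ fun p hp hirr => ?_
  have hd : p.natDegree ≠ 0 := (hirr.natDegree_pos).ne'
  let π := Ideal.Quotient.mk (nullIdeal F L)
  obtain ⟨q, hq, hqd, hqm⟩ :=
    Polynomial.lifts_and_degree_eq_and_monic (f := π)
      (Polynomial.map_surjective π Ideal.Quotient.mk_surjective p : p ∈ Polynomial.lifts π) hp
  have hroot : ∀ a, ∃ c : L a, Polynomial.IsRoot (q.map (Pi.evalRingHom L a)) c := fun a => by
    refine IsAlgClosed.exists_root _ ?_
    haveI : Nontrivial (L a) := inferInstance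
    rw [hqm.degree_map, hqd, Polynomial.degree_eq_natDegree hp.ne_zero]
    exact_mod_cast hd
  choose c hc using hroot
  refine ⟨π c, ?_⟩
  have hqc : Polynomial.eval c q = 0 := funext fun a => by
    have h1 := hc a
    rw [Polynomial.IsRoot.def, Polynomial.eval_map] at h1
    have h2 := Polynomial.hom_eval₂ q (RingHom.id _) (Pi.evalRingHom L a) c
    rw [RingHom.comp_id] at h2
    exact h2.trans h1
  rw [← hq, Polynomial.eval_map, Polynomial.eval₂_at_apply, hqc, map_zero]

variable (W : ∀ a, ValuationSubring (L a))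

/-- The ultraproduct of valuation subrings. -/
def valSubring : ValuationSubring (UProd F L) where
  carrier := {z | ∃ x : ∀ a, L a, (∀ a, x a ∈ W a) ∧ Ideal.Quotient.mk _ x = z}
  zero_mem' := ⟨0, fun a => zero_mem _, rfl⟩
  one_mem' := ⟨1, fun a => one_mem _, rfl⟩
  add_mem' := by
    rintro _ _ ⟨x, hx, rfl⟩ ⟨y, hy, rfl⟩
    exact ⟨x + y, fun a => (W a).add_mem _ _ (hx a) (hy a), map_add _ _ _⟩
  mul_mem' := by
    rintro _ _ ⟨x, hx, rfl⟩ ⟨y, hy, rfl⟩
    exact ⟨x * y, fun a => (W a).mul_mem _ _ (hx a) (hy a), map_mul _ _ _⟩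
  neg_mem' := by
    rintro _ ⟨x, hx, rfl⟩
    exact ⟨-x, fun a => (W a).neg_mem _ (hx a), map_neg _ _⟩
  mem_or_inv_mem' := by
    classical
    intro z
    obtain ⟨x, rfl⟩ := Ideal.Quotient.mk_surjective z
    rcases F.em (fun a => x a ∈ W a) with h | h
    · refine Or.inl ⟨fun a => if x a ∈ W a then x a else 0, fun a => ?_, ?_⟩
      · dsimp only; split
        · assumption
        · exact zero_mem _
      · refine (mk_eq_mk F L).2 ?_
        filter_upwards [h] with a ha
        rw [if_pos ha]
    · refine Or.inr ⟨fun a => if x a ∈ W a then 0 else (x a)⁻¹, fun a => ?_, ?_⟩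
      · dsimp only; split
        · exact zero_mem _
        · rename_i hn
          exact ((W a).mem_or_inv_mem (x a)).resolve_left hn
      · refine eq_inv_of_mul_eq_one_left ?_
        rw [← map_mul, ← map_one (Ideal.Quotient.mk (nullIdeal F L))]
        refine (mk_eq_mk F L).2 ?_
        filter_upwards [h] with a ha
        have h0 : x a ≠ 0 := fun h0 => ha (h0 ▸ zero_mem _)
        rw [Pi.mul_apply, if_neg ha, inv_mul_cancel₀ h0, Pi.one_apply]

/-- The class of a family of integral elements. -/
def mk (x : ∀ a, W a) : valSubring F L W :=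
  ⟨Ideal.Quotient.mk _ fun a => (x a : L a), _, fun a => (x a).2, rfl⟩

theorem mk_surjective : Function.Surjective (mk F L W) := by
  rintro ⟨_, x, hx, rfl⟩
  exact ⟨fun a => ⟨x a, hx a⟩, rfl⟩

theorem mk_eq {x y : ∀ a, W a} : mk F L W x = mk F L W y ↔ ∀ᶠ a in (F : Filter ι), x a = y a := by
  rw [Subtype.ext_iff]
  refine (mk_eq_mk F L).trans ?_
  simp only [Subtype.ext_iff]

/-- The diagonal of a family of homomorphisms into the valuation subrings. -/
def diag {R : Type*} [Semiring R] (φ : ∀ a, R →+* W a) : R →+* valSubring F L W where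
  toFun r := mk F L W fun a => φ a r
  map_one' := Subtype.ext (by simp [mk]; exact (map_one (Ideal.Quotient.mk _)))
  map_mul' r s := Subtype.ext (by simp [mk]; exact (map_mul (Ideal.Quotient.mk _) (fun a => (φ a r : L a)) _))
  map_zero' := Subtype.ext (by simp [mk]; exact (map_zero (Ideal.Quotient.mk _)))
  map_add' r s := Subtype.ext (by simp [mk]; exact (map_add (Ideal.Quotient.mk _) (fun a => (φ a r : L a)) _))

/-- Functions which are eventually additive and multiplicative give a homomorphism to the
ultraproduct. -/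
def ofEventually {R : Type*} [Semiring R] (v : ∀ a, R → W a)
    (h1 : ∀ᶠ a in (F : Filter ι), v a 1 = 1)
    (hadd : ∀ r s, ∀ᶠ a in (F : Filter ι), v a (r + s) = v a r + v a s)
    (hmul : ∀ r s, ∀ᶠ a in (F : Filter ι), v a (r * s) = v a r * v a s) : R →+* valSubring F L W :=
  RingHom.mk' ⟨⟨fun r => mk F L W fun a => v a r,
    Subtype.ext ((mk_eq_mk F L).2 (by filter_upwards [h1] with a ha; simp [ha]))⟩,
    fun r s => Subtype.ext (((mk_eq_mk F L).2 (by filter_upwards [hmul r s] with a ha; simp [ha])).trans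
      (map_mul (Ideal.Quotient.mk _) (fun a => (v a r : L a)) (fun a => (v a s : L a))))⟩
    fun r s => Subtype.ext (((mk_eq_mk F L).2 (by filter_upwards [hadd r s] with a ha; simp [ha])).trans
      (map_add (Ideal.Quotient.mk _) (fun a => (v a r : L a)) (fun a => (v a s : L a))))

/-- A point with values in the ultraproduct of an algebra of finite presentation gives points with
values in almost all factors. -/
theorem eventually_exists_hom {A B : Type*} [CommRing A] [CommRing B] (φ : A →+* B)
    (hφ : φ.FinitePresentation) (ρ : ∀ a, A →+* W a) (f : B →+* valSubring F L W)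
    (hf : f.comp φ = diag F L W ρ) :
    ∀ᶠ a in (F : Filter ι), ∃ g : B →+* W a, g.comp φ = ρ a := by
  classical
  algebraize [φ]
  obtain ⟨n, π, hπ, G, hG⟩ := Algebra.FinitePresentation.out (R := A) (A := B)
  choose x hx using fun i => mk_surjective F L W (f (π (MvPolynomial.X i)))
  let P : MvPolynomial (Fin n) A →+* valSubring F L W :=
    diag F L W fun a => MvPolynomial.eval₂Hom (ρ a) fun i => x i a
  have hP : P = f.comp π.toRingHom := by
    refine MvPolynomial.ringHom_ext (fun r => ?_) fun i => ?_
    · change mk F L W _ = f (π (MvPolynomial.C r))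
      rw [show π (MvPolynomial.C r) = φ r from π.commutes r, ← RingHom.comp_apply, hf]
      simp only [MvPolynomial.eval₂Hom_C]
      rfl
    · change mk F L W _ = f (π (MvPolynomial.X i))
      simp only [MvPolynomial.eval₂Hom_X']
      exact hx i
  have hev : ∀ p ∈ G, ∀ᶠ a in (F : Filter ι), MvPolynomial.eval₂Hom (ρ a) (fun i => x i a) p = 0 := by
    intro p hp
    have h0 : P p = 0 := by
      rw [hP, RingHom.comp_apply]
      have : π p = 0 := RingHom.mem_ker.1 (hG ▸ Ideal.subset_span hp : p ∈ RingHom.ker π.toRingHom)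
      change f (π p) = 0
      rw [this, map_zero]
    exact (mk_eq F L W (y := fun _ => 0)).1 (h0.trans (Subtype.ext (map_zero (Ideal.Quotient.mk _)).symm))
  filter_upwards [(eventually_all_finset G).2 hev] with a ha
  let E := MvPolynomial.eval₂Hom (ρ a) fun i => x i a
  have hker : RingHom.ker π.toRingHom ≤ RingHom.ker E := hG ▸ Ideal.span_le.2 ha
  refine ⟨RingHom.liftOfSurjective π.toRingHom hπ ⟨E, hker⟩, RingHom.ext fun r => ?_⟩
  have : φ r = π (MvPolynomial.C r) := (π.commutes r).symm
  rw [RingHom.comp_apply, this]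
  exact (RingHom.liftOfRightInverse_comp_apply _ _ _ ⟨E, hker⟩ _).trans (MvPolynomial.eval₂Hom_C _ _ _)

end Groth.Agent.H18HTop.Ultra
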