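import Mathlib
import Groth.Prelude.Def_HTop
import Groth.Agent.H18HTop.UltraProduct
import Groth.Agent.H18HTop.PhOfV

/-!
# Points of a filtered colimit of rings from points of the stages, with values in ultraproducts
-/

set_option autoImplicit false
set_option backward.isDefEq.respectTransparency false
universe u

open CategoryTheory CategoryTheory.Limits Filter

noncomputable section

namespace Groth.Agent.H18HTop.UltraPoint

variable {J : Type u} [SmallCategory J] [IsFiltered J] (E : J ⥤ CommRingCat.{u}) (c : Cocone E)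
  (hc : IsColimit c) (j₀ : J)

include hc in
theorem exists_reps (T : Finset c.pt) :
    ∃ (j : J) (_ : j₀ ⟶ j) (ℓ : c.pt → E.obj j), ∀ x ∈ T, (c.ι.app j).hom (ℓ x) = x := by
  classical
  induction T using Finset.induction with
  | empty => exact ⟨j₀, 𝟙 _, fun _ => 0, fun x hx => absurd hx (Finset.notMem_empty x)⟩
  | @insert x T hx ih =>
    obtain ⟨j, f, ℓ, hℓ⟩ := ih
    obtain ⟨j', y, hy⟩ := Concrete.isColimit_exists_rep E hc x
    let a := IsFiltered.leftToMax j j'
    let b := IsFiltered.rightToMax j j'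
    refine ⟨IsFiltered.max j j', f ≫ a,
      fun z => if z = x then (E.map b).hom y else (E.map a).hom (ℓ z), fun z hz => ?_⟩
    dsimp only
    split_ifs with h
    · subst h
      rw [← CommRingCat.comp_apply, c.w]
      exact hy
    · rw [← CommRingCat.comp_apply, c.w]
      exact hℓ z ((Finset.mem_insert.1 hz).resolve_left h)

include hc in
theorem exists_equalize {j : J} (P : Finset (E.obj j × E.obj j))
    (hP : ∀ p ∈ P, (c.ι.app j).hom p.1 = (c.ι.app j).hom p.2) :
    ∃ (k : J) (h : j ⟶ k), ∀ p ∈ P, (E.map h).hom p.1 = (E.map h).hom p.2 := by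
  classical
  induction P using Finset.induction with
  | empty => exact ⟨j, 𝟙 j, fun p hp => absurd hp (Finset.notMem_empty p)⟩
  | @insert q P hq ih =>
    obtain ⟨k, h, hk⟩ := ih fun p hp => hP p (Finset.mem_insert_of_mem hp)
    have hq' : (c.ι.app k).hom ((E.map h).hom q.1) = (c.ι.app k).hom ((E.map h).hom q.2) := by
      rw [← CommRingCat.comp_apply, ← CommRingCat.comp_apply, c.w]
      exact hP q (Finset.mem_insert_self _ _)
    obtain ⟨m, g, g', hm⟩ := Concrete.isColimit_exists_of_rep_eq E hc _ _ hq'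
    obtain ⟨n, e, he⟩ : ∃ (n : J) (e : m ⟶ n), g ≫ e = g' ≫ e :=
      ⟨IsFiltered.coeq g g', IsFiltered.coeqHom g g', IsFiltered.coeq_condition g g'⟩
    refine ⟨n, h ≫ g ≫ e, fun p hp => ?_⟩
    rcases Finset.mem_insert.1 hp with rfl | hp
    · simp only [Functor.map_comp, CommRingCat.comp_apply]
      refine (congrArg (fun z => (E.map e).hom z) hm).trans ?_
      change (E.map g' ≫ E.map e).hom ((E.map h).hom p.2) = (E.map g ≫ E.map e).hom ((E.map h).hom p.2)
      rw [← Functor.map_comp, ← Functor.map_comp, he]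
    · simp only [Functor.map_comp, CommRingCat.comp_apply, hk p hp]

include hc in
/-- A stage at which finitely many relations of the colimit hold. -/
theorem exists_stage (R : Finset (MvPolynomial c.pt ℤ))
    (hR : ∀ p ∈ R, MvPolynomial.aeval (id : c.pt → c.pt) p = 0) (G : Finset (E.obj j₀)) :
    ∃ (j : J) (f : j₀ ⟶ j) (ℓ : c.pt → E.obj j),
      (∀ p ∈ R, MvPolynomial.aeval ℓ p = 0) ∧
      ∀ a ∈ G, ℓ ((c.ι.app j₀).hom a) = (E.map f).hom a := by
  classical
  let T : Finset c.pt := R.biUnion MvPolynomial.vars ∪ G.image (fun a => (c.ι.app j₀).hom a)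
  obtain ⟨j, f, ℓ, hℓ⟩ := exists_reps E c hc j₀ T
  let P : Finset (E.obj j × E.obj j) :=
    R.image (fun p => (MvPolynomial.aeval ℓ p, 0)) ∪
      G.image (fun a => (ℓ ((c.ι.app j₀).hom a), (E.map f).hom a))
  obtain ⟨k, h, hk⟩ := exists_equalize E c hc P (by
    intro q hq
    rcases Finset.mem_union.1 hq with hq | hq
    · obtain ⟨p, hp, rfl⟩ := Finset.mem_image.1 hq
      dsimp only
      rw [map_zero, MvPolynomial.map_aeval, ← hR p hp, MvPolynomial.aeval_def]
      exact MvPolynomial.eval₂Hom_congr' (RingHom.ext_int _ _)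
        (fun x hx _ => hℓ x (Finset.mem_union_left _ (Finset.mem_biUnion.2 ⟨p, hp, hx⟩))) rfl
    · obtain ⟨a, ha, rfl⟩ := Finset.mem_image.1 hq
      dsimp only
      rw [hℓ _ (Finset.mem_union_right _ (Finset.mem_image_of_mem _ ha)), ← CommRingCat.comp_apply, c.w]
      rfl)
  refine ⟨k, f ≫ h, fun x => (E.map h).hom (ℓ x), fun p hp => ?_, fun a ha => ?_⟩
  · have := hk _ (Finset.mem_union_left _ (Finset.mem_image_of_mem _ hp))
    rw [map_zero, MvPolynomial.map_aeval] at this
    rw [← this, MvPolynomial.aeval_def]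
    exact MvPolynomial.eval₂Hom_congr' (RingHom.ext_int _ _) (fun _ _ _ => rfl) rfl
  · rw [Functor.map_comp, CommRingCat.comp_apply]
    exact hk _ (Finset.mem_union_right _ (Finset.mem_image_of_mem _ ha))

include hc in
/-- Points of all stages with values in valuation rings give a point of the colimit with values in an
ultraproduct of these valuation rings. -/
theorem exists_ultra_point (L : (Σ j, j₀ ⟶ j) → Type u) [∀ s, Field (L s)]
    (W : ∀ s, ValuationSubring (L s)) (g : ∀ s : Σ j, j₀ ⟶ j, E.obj s.1 →+* W s) :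
    ∃ (ι : Type u) (F : Ultrafilter ι) (k : ι → Σ j, j₀ ⟶ j)
      (h : c.pt →+* Ultra.valSubring F (fun a => L (k a)) (fun a => W (k a))),
      h.comp (c.ι.app j₀).hom =
        Ultra.diag F (fun a => L (k a)) (fun a => W (k a))
          (fun a => (g (k a)).comp (E.map (k a).2).hom) := by
  classical
  let ι : Type u := Finset {p : MvPolynomial c.pt ℤ // MvPolynomial.aeval (id : c.pt → c.pt) p = 0} ×
    Finset (E.obj j₀)
  choose jst f ℓ hℓR hℓG using fun a : ι => exists_stage E c hc j₀ (a.1.image Subtype.val)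
    (fun p hp => by
      obtain ⟨q, -, rfl⟩ := Finset.mem_image.1 hp
      exact q.2) a.2
  haveI : (Filter.atTop : Filter ι).NeBot := Filter.atTop_neBot
  let F : Ultrafilter ι := Ultrafilter.of Filter.atTop
  have hev : ∀ a₀ : ι, ∀ᶠ a in (F : Filter ι), a₀ ≤ a := fun a₀ =>
    Ultrafilter.of_le Filter.atTop (Filter.eventually_ge_atTop a₀)
  have hrel : ∀ p, MvPolynomial.aeval (id : c.pt → c.pt) p = 0 →
      ∀ᶠ a in (F : Filter ι), MvPolynomial.aeval (ℓ a) p = 0 := fun p hp =>
    (hev ({⟨p, hp⟩}, ∅)).mono fun a ha =>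
      hℓR a p (Finset.mem_image.2 ⟨⟨p, hp⟩, ha.1 (Finset.mem_singleton_self _), rfl⟩)
  let k : ι → Σ j, j₀ ⟶ j := fun a => ⟨jst a, f a⟩
  let v : ∀ a, c.pt → W (k a) := fun a x => g (k a) (ℓ a x)
  let h := Ultra.ofEventually F (fun a => L (k a)) (fun a => W (k a)) v
    ((hrel (MvPolynomial.X 1 - 1) (by simp)).mono fun a ha => by
      simp only [map_sub, MvPolynomial.aeval_X, map_one, sub_eq_zero] at ha
      change g (k a) (ℓ a 1) = 1
      rw [ha, map_one])
    (fun r s => (hrel (MvPolynomial.X (r + s) - (MvPolynomial.X r + MvPolynomial.X s)) (by simp)).mono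
      fun a ha => by
        simp only [map_sub, map_add, MvPolynomial.aeval_X, sub_eq_zero] at ha
        change g (k a) (ℓ a (r + s)) = g (k a) (ℓ a r) + g (k a) (ℓ a s)
        rw [ha, map_add])
    (fun r s => (hrel (MvPolynomial.X (r * s) - (MvPolynomial.X r * MvPolynomial.X s)) (by simp)).mono
      fun a ha => by
        simp only [map_sub, map_mul, MvPolynomial.aeval_X, sub_eq_zero] at ha
        change g (k a) (ℓ a (r * s)) = g (k a) (ℓ a r) * g (k a) (ℓ a s)
        rw [ha, map_mul])
  refine ⟨ι, F, k, h, RingHom.ext fun x => ?_⟩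
  change Ultra.mk F _ _ (fun a => v a ((c.ι.app j₀).hom x)) = Ultra.mk F _ _ _
  refine (Ultra.mk_eq F _ _).2 ((hev (∅, {x})).mono fun a ha => ?_)
  change g (k a) (ℓ a _) = g (k a) ((E.map (f a)).hom x)
  rw [hℓG a x (ha.2 (Finset.mem_singleton_self x))]

omit [IsFiltered J] in
/-- The constant ultraproduct extends the valuation ring. -/
theorem isExtVal_diag {ι : Type u} (F : Ultrafilter ι) {L : Type u} [Field L] (W : ValuationSubring L) :
    Function.Injective (Ultra.diag F (fun _ => L) (fun _ => W) fun _ => RingHom.id W) ∧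
      IsLocalHom (Ultra.diag F (fun _ => L) (fun _ => W) fun _ => RingHom.id W) := by
  refine ⟨fun x y hxy => ?_, ⟨fun x hx => ?_⟩⟩
  · obtain ⟨a, ha⟩ := ((Ultra.mk_eq F _ _).1 hxy).exists
    exact ha
  · obtain ⟨y, hy⟩ := hx.exists_right_inv
    obtain ⟨z, rfl⟩ := Ultra.mk_surjective F _ _ y
    have h1 : Ultra.mk F (fun _ => L) (fun _ => W) (fun a => x * z a) =
        Ultra.mk F _ _ fun _ => 1 := by
      refine Eq.trans ?_ (hy.trans ?_)
      · exact Subtype.ext (map_mul (Ideal.Quotient.mk _) (fun _ => (x : L)) (fun a => (z a : L)))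
      · exact Subtype.ext (map_one (Ideal.Quotient.mk (Ultra.nullIdeal F fun _ => L))).symm
    obtain ⟨a, ha⟩ := ((Ultra.mk_eq F _ _).1 h1).exists
    exact IsUnit.of_mul_eq_one _ ha

/-- The valuative lifting property may be tested on valuation rings of algebraically closed fields. -/
theorem hasValLift_of_algClosed {A : CommRingCat.{u}} {κ : Type} (B : κ → CommRingCat.{u})
    (φ : ∀ k, A ⟶ B k)
    (h : ∀ (L : Type u) [Field L] [IsAlgClosed L] (W : ValuationSubring L) (ρ : A →+* W),
      ∃ (k : κ) (f : B k →+* W), f.comp (φ k).hom = ρ) :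
    HTop.HasValLift (PreZeroHypercover.mk κ (fun k => AlgebraicGeometry.Spec (B k))
      (fun k => AlgebraicGeometry.Spec.map (φ k))) := by
  intro V _ _ gV
  let L := AlgebraicClosure (FractionRing V)
  let e : V →+* L := (algebraMap (FractionRing V) L).comp (algebraMap V (FractionRing V))
  have he : Function.Injective e :=
    (algebraMap (FractionRing V) L).injective.comp (IsFractionRing.injective V (FractionRing V))
  obtain ⟨W, hW⟩ := (LocalSubring.range e).exists_le_valuationSubring
  obtain ⟨hsub, hloc⟩ := LocalSubring.le_def.1 hW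
  let θ : V →+* W := (Subring.inclusion hsub).comp e.rangeRestrict
  have hθinj : Function.Injective θ := fun x y hxy => he (congrArg Subtype.val hxy)
  haveI : IsLocalHom θ := by
    haveI : IsLocalHom e.rangeRestrict :=
      IsLocalHom.of_surjective e.rangeRestrict e.rangeRestrict_surjective
    exact RingHom.isLocalHom_comp _ _
  let gV' : AlgebraicGeometry.Spec V ⟶ AlgebraicGeometry.Spec A := gV
  obtain ⟨k, f, hf⟩ := h L W (θ.comp (AlgebraicGeometry.Spec.preimage gV').hom)
  refine ⟨CommRingCat.of W, inferInstanceAs (IsDomain W), inferInstanceAs (ValuationRing W),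
    CommRingCat.ofHom θ, ⟨hθinj, inferInstanceAs (IsLocalHom θ)⟩, k,
    AlgebraicGeometry.Spec.map (CommRingCat.ofHom f), ?_⟩
  have : φ k ≫ CommRingCat.ofHom f = AlgebraicGeometry.Spec.preimage gV' ≫ CommRingCat.ofHom θ :=
    CommRingCat.hom_ext hf
  change AlgebraicGeometry.Spec.map (CommRingCat.ofHom f) ≫ AlgebraicGeometry.Spec.map (φ k) = _
  rw [← AlgebraicGeometry.Spec.map_comp, this, AlgebraicGeometry.Spec.map_comp,
    AlgebraicGeometry.Spec.map_preimage]

end Groth.Agent.H18HTop.UltraPoint
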