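import Groth.Agent.H18HTop.AlmostBlowUpExists
import Groth.Agent.H7Flat.Flatten.Strict
import Groth.Agent.H7Flat.Flatten.Modif
import Groth.Agent.H7Lim.IdealSystem
import Groth.Agent.H7Lim.IdealDescent
import Groth.Agent.H7Lim.DescendFlat
import Mathlib

/-!
# Flattening by almost blow ups
-/

set_option autoImplicit false
set_option linter.style.haveILetI false
set_option backward.isDefEq.respectTransparency false

universe u

open CategoryTheory CategoryTheory.Limits AlgebraicGeometry HTop Opposite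

namespace Groth.Agent.H18HTop

/-- A closed subscheme which agrees away from the centre and is the blow up gives an almost blow up square. -/
theorem isAlmostBlowUpSquare_of_closed {Z X X' B : Scheme.{u}} (i : Z ⟶ X) [IsClosedImmersion i]
    [LocallyOfFinitePresentation i] (b : X' ⟶ X) [IsProper b] [LocallyOfFinitePresentation b]
    (hl : IsLocPrincipal (i.ker.comap b)) (e : B ⟶ X') [IsClosedImmersion e]
    (hB : BlowUp.IsBlowUp (e ≫ b) i.ker) (hiso : IsIso (e ∣_ awayFrom (i.ker.comap b))) :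
    IsAlmostBlowUpSquare (pullback.fst b i) (pullback.snd b i) b i := by
  haveI := hiso
  let A := awayFrom (i.ker.comap b)
  have hle1 : supportedOn (i.ker.comap b) ≤ e.ker := supportedOn_le_ker e _ (by
    rw [← Scheme.IdealSheafData.comap_comp]; exact hB.1)
  have hle2 : e.ker ≤ supportedOn (i.ker.comap b) := by
    have h1 : (inv (e ∣_ A) ≫ (e ⁻¹ᵁ A).ι) ≫ e = A.ι := by
      rw [Category.assoc, ← morphismRestrict_ι, IsIso.inv_hom_id_assoc]
    change e.ker ≤ A.ι.ker
    rw [← h1]
    exact Scheme.Hom.le_ker_comp _ _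
  have hkeq : e.ker = (supportedOn (i.ker.comap b)).subschemeι.ker := by
    rw [Scheme.IdealSheafData.ker_subschemeι]; exact le_antisymm hle2 hle1
  haveI := IsClosedImmersion.isIso_lift e (supportedOn (i.ker.comap b)).subschemeι hkeq
  refine ⟨inferInstance, inferInstance, IsPullback.of_hasPullback b i, hl, inferInstance, inferInstance, ?_⟩
  have := isBlowUp_comp_iso hB
    (IsClosedImmersion.lift e (supportedOn (i.ker.comap b)).subschemeι hkeq.le)
  rwa [IsClosedImmersion.lift_fac_assoc] at this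

/-- The strict transform is the blow up in the inverse image of the centre. -/
theorem isBlowUp_strict {X S X' S' : Scheme.{u}} {f : X ⟶ S} {b : S' ⟶ S} {p₁ : X' ⟶ X} {p₂ : X' ⟶ S'}
    (hc : IsPullback p₁ p₂ f b) {𝓘 : S.IdealSheafData} (hb : BlowUp.IsBlowUp b 𝓘) :
    BlowUp.IsBlowUp ((supportedOn ((𝓘.comap f).comap p₁)).subschemeι ≫ p₁) (𝓘.comap f) := by
  have hl := H7Flat.Flatten.isEffCartier_strict hc hb
  refine ⟨?_, fun W g hg => ?_⟩
  · rw [Scheme.IdealSheafData.comap_comp]
    exact isEffCartierIdeal_comap_supportedOn hl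
  obtain ⟨h, hh, huniq⟩ := hb.2 W (g ≫ f) (by rwa [Scheme.IdealSheafData.comap_comp])
  let l := hc.lift g h hh.symm
  have hle : (supportedOn ((𝓘.comap f).comap p₁)).subschemeι.ker ≤ l.ker := by
    rw [Scheme.IdealSheafData.ker_subschemeι]
    refine supportedOn_le_ker l _ ?_
    rwa [← Scheme.IdealSheafData.comap_comp, hc.lift_fst]
  refine ⟨IsClosedImmersion.lift _ l hle, ?_, fun k hk => ?_⟩
  · dsimp only
    rw [IsClosedImmersion.lift_fac_assoc, hc.lift_fst]
  rw [← cancel_mono (supportedOn ((𝓘.comap f).comap p₁)).subschemeι, IsClosedImmersion.lift_fac]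
  refine hc.hom_ext ?_ ?_
  · rw [hc.lift_fst, Category.assoc]; exact hk
  · rw [hc.lift_snd]
    refine huniq _ ?_
    dsimp only
    rw [Category.assoc, ← hc.w, ← hk]
    simp only [Category.assoc]

/-- A morphism of finite presentation flat over a quasi-compact open becomes flat after compatible almost
blow ups. -/
theorem exists_almostBlowUp_flattening {X Y : Scheme.{u}} [CompactSpace Y] [QuasiSeparatedSpace Y] (f : X ⟶ Y)
    [LocallyOfFinitePresentation f] [QuasiCompact f] [QuasiSeparated f] (V : Y.Opens)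
    (hV : IsCompact (V : Set Y)) (hf : Flat (f ∣_ V)) :
    ∃ (Z Y' E T X' D : Scheme.{u}) (iZ : Z ⟶ Y) (bY : Y' ⟶ Y) (eE : E ⟶ Y') (πE : E ⟶ Z) (iT : T ⟶ X)
      (bX : X' ⟶ X) (eD : D ⟶ X') (πD : D ⟶ T) (fZ : T ⟶ Z) (f' : X' ⟶ Y') (fE : D ⟶ E),
      HTop.IsAlmostBlowUpSquare eE πE bY iZ ∧ HTop.IsAlmostBlowUpSquare eD πD bX iT ∧
        IsPullback fZ iT iZ f ∧ IsPullback fE eD eE f' ∧ f' ≫ bY = bX ≫ f ∧ πD ≫ fZ = fE ≫ πE ∧
        iZ ⁻¹ᵁ V = ⊥ ∧ Flat f' ∧ LocallyOfFinitePresentation f' := by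
  haveI := hf
  haveI : LocallyOfFinitePresentation (f ∣_ V) :=
    IsZariskiLocalAtTarget.restrict (P := @LocallyOfFinitePresentation) inferInstance _
  obtain ⟨𝓘, B, b, hb, hadm, hU', hflat⟩ := H7Flat.Flatten.exists_strict_flattening f V hV
  -- the centre
  let iZ : 𝓘.subscheme ⟶ Y := 𝓘.subschemeι
  have hk : iZ.ker = 𝓘 := 𝓘.ker_subschemeι
  haveI : LocallyOfFinitePresentation iZ := (lfp_iff_ker_fg iZ).2 (by rw [hk]; exact hadm.1)
  have hZV : iZ ⁻¹ᵁ V = ⊥ := by
    refine TopologicalSpace.Opens.ext (Set.eq_empty_iff_forall_notMem.2 fun z hz => ?_)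
    refine Set.disjoint_left.1 hadm.2 ?_ (show iZ z ∈ V from hz)
    rw [← Scheme.IdealSheafData.range_subschemeι]
    exact ⟨z, rfl⟩
  -- a first almost blow up
  obtain ⟨E₀, Y₀, e₀, π₀, b₀, hsq⟩ := exists_isAlmostBlowUpSquare iZ
  haveI := hsq.isProper
  haveI := hsq.finitePresentation
  haveI : CompactSpace Y₀ := QuasiCompact.compactSpace_of_compactSpace b₀
  haveI : QuasiSeparatedSpace Y₀ := quasiSeparatedSpace_of_quasiSeparated b₀
  have hl₀ : IsLocPrincipal (𝓘.comap b₀) := hk ▸ hsq.locPrincipal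
  let K := supportedOn (𝓘.comap b₀)
  have hB : BlowUp.IsBlowUp (K.subschemeι ≫ b₀) 𝓘 := by
    have := hsq.isBlowUp; rwa [hk] at this
  obtain ⟨φ, hφ, -⟩ := hb.2 _ (K.subschemeι ≫ b₀) hB.1
  haveI := isIso_of_isBlowUp hB hb φ hφ
  -- the inverse system of closed subschemes with limit the blow up
  let S := H7Lim.ftSystem K
  let c := H7Lim.ftCone K
  have hc : IsLimit c := H7Lim.isLimitFtCone K
  haveI : ∀ J, LocallyOfFinitePresentation (J : (H7Lim.FTIdeal K)ᵒᵖ).unop.1.subschemeι := fun J =>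
    (lfp_iff_ker_fg _).2 (by rw [Scheme.IdealSheafData.ker_subschemeι]; exact J.unop.2.2)
  haveI : ∀ J, CompactSpace (S.obj J) := fun J =>
    QuasiCompact.compactSpace_of_compactSpace J.unop.1.subschemeι
  haveI : ∀ J, QuasiSeparatedSpace (S.obj J) := fun J =>
    quasiSeparatedSpace_of_quasiSeparated J.unop.1.subschemeι
  haveI : ∀ (J J' : (H7Lim.FTIdeal K)ᵒᵖ) (ψ : J ⟶ J'), IsClosedImmersion (S.map ψ) := fun _ _ ψ =>
    H7Lim.isClosedImmersion_ftSystem_map K ψ
  haveI : ∀ (J J' : (H7Lim.FTIdeal K)ᵒᵖ) (ψ : J ⟶ J'), IsAffineHom (S.map ψ) := fun _ _ ψ => inferInstance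
  haveI : ∀ (J J' : (H7Lim.FTIdeal K)ᵒᵖ) (ψ : J ⟶ J'), LocallyOfFinitePresentation (S.map ψ) := fun J J' ψ => by
    haveI : LocallyOfFinitePresentation (S.map ψ ≫ J'.unop.1.subschemeι) := by
      rw [show S.map ψ ≫ J'.unop.1.subschemeι = J.unop.1.subschemeι from
        Scheme.IdealSheafData.inclusion_subschemeι _]
      infer_instance
    exact H7Lim.locallyOfFinitePresentation_of_comp (S.map ψ) J'.unop.1.subschemeι
  let r : ∀ J, S.obj J ⟶ Y := fun J => J.unop.1.subschemeι ≫ b₀
  have hr : ∀ {J J'} (ψ : J ⟶ J'), S.map ψ ≫ r J' = r J := fun ψ => by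
    show S.map ψ ≫ _ ≫ b₀ = _
    rw [← Category.assoc]
    exact congrArg (· ≫ b₀) (Scheme.IdealSheafData.inclusion_subschemeι _)
  have hcr : ∀ J, c.π.app J ≫ r J = K.subschemeι ≫ b₀ := fun J => by
    show c.π.app J ≫ _ ≫ b₀ = _
    rw [← Category.assoc]
    exact congrArg (· ≫ b₀) (Scheme.IdealSheafData.inclusion_subschemeι _)
  haveI : ∀ J, IsProper (r J) := fun J => inferInstanceAs (IsProper (J.unop.1.subschemeι ≫ b₀))
  haveI : ∀ J, LocallyOfFinitePresentation (r J) := fun J =>
    inferInstanceAs (LocallyOfFinitePresentation (J.unop.1.subschemeι ≫ b₀))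
  let i₀ : (H7Lim.FTIdeal K)ᵒᵖ := op ⟨⊥, bot_le, fun _ => Submodule.fg_bot⟩
  let g₀ : pullback f (r i₀) ⟶ S.obj i₀ := pullback.snd f (r i₀)
  -- the base change to the blow up and the strict transform
  let P := pullback g₀ (c.π.app i₀)
  let p₁ : P ⟶ X := pullback.fst g₀ (c.π.app i₀) ≫ pullback.fst f (r i₀)
  let p₂ : P ⟶ K.subscheme := pullback.snd g₀ (c.π.app i₀)
  have hP : IsPullback p₁ p₂ f (K.subschemeι ≫ b₀) := by
    have h := (IsPullback.of_hasPullback g₀ (c.π.app i₀)).paste_horiz (IsPullback.of_hasPullback f (r i₀))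
    rw [hcr] at h
    exact h
  have hP' : IsPullback p₁ (p₂ ≫ φ) f b :=
    IsPullback.of_iso hP (Iso.refl _) (Iso.refl _) (asIso φ) (Iso.refl _) (by simp) (by simp) (by simp)
      (by simp [hφ])
  let 𝒥 := supportedOn ((𝓘.comap f).comap p₁)
  let g := 𝒥.subschemeι ≫ p₂
  obtain ⟨hfl, hfp, -, -⟩ := hflat _ _ _ hP'
  rw [← Category.assoc] at hfl hfp
  replace hfl : Flat g := (MorphismProperty.cancel_right_of_respectsIso @Flat g φ).1 hfl
  replace hfp : LocallyOfFinitePresentation g :=
    (MorphismProperty.cancel_right_of_respectsIso @LocallyOfFinitePresentation g φ).1 hfp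
  haveI : LocallyOfFiniteType p₂ := inferInstanceAs (LocallyOfFiniteType (pullback.snd g₀ (c.π.app i₀)))
  haveI : LocallyOfFinitePresentation (𝒥.subschemeι ≫ p₂) := hfp
  haveI : LocallyOfFinitePresentation 𝒥.subschemeι :=
    H7Lim.locallyOfFinitePresentation_of_comp 𝒥.subschemeι p₂
  have hfg : ∀ U : P.affineOpens, (𝒥.ideal U).FG := fun U => by
    simpa only [Scheme.IdealSheafData.ker_subschemeι] using
      H7Lim.ker_fg_of_locallyOfFinitePresentation 𝒥.subschemeι U
  -- descent of the strict transform to a stage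
  let PD := H7Lim.pbDiagram S i₀ g₀
  let d := H7Lim.pbCone S c i₀ g₀
  haveI : ∀ k, CompactSpace (PD.obj k) := fun k =>
    QuasiCompact.compactSpace_of_compactSpace (pullback.snd g₀ (S.map k.hom))
  haveI : ∀ k, QuasiSeparatedSpace (PD.obj k) := fun k =>
    quasiSeparatedSpace_of_quasiSeparated (pullback.snd g₀ (S.map k.hom))
  obtain ⟨k, Jk, hJk, hcomap⟩ := H7Lim.exists_idealSheaf_comap (H7Lim.isLimitPbCone S i₀ g₀ hc)
    (show d.pt.IdealSheafData from 𝒥) hfg
  haveI : LocallyOfFinitePresentation Jk.subschemeι :=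
    (lfp_iff_ker_fg _).2 (by rw [Scheme.IdealSheafData.ker_subschemeι]; exact hJk)
  let fk : Jk.subscheme ⟶ S.obj k.left := Jk.subschemeι ≫ pullback.snd g₀ (S.map k.hom)
  haveI : LocallyOfFinitePresentation fk :=
    inferInstanceAs (LocallyOfFinitePresentation (Jk.subschemeι ≫ pullback.snd g₀ (S.map k.hom)))
  haveI : CompactSpace Jk.subscheme := QuasiCompact.compactSpace_of_compactSpace Jk.subschemeι
  haveI : QuasiSeparatedSpace Jk.subscheme := quasiSeparatedSpace_of_quasiSeparated Jk.subschemeι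
  let dk : P ⟶ PD.obj k := d.π.app k
  have hdk : IsPullback dk p₂ (pullback.snd g₀ (S.map k.hom)) (c.π.app k.left) :=
    IsPullback.of_right (h₁₂ := pullback.fst g₀ (S.map k.hom)) (h₂₂ := S.map k.hom) (v₁₃ := g₀)
      (by
        rw [show dk ≫ pullback.fst g₀ (S.map k.hom) = pullback.fst g₀ (c.π.app i₀) from
            (pullback.lift_fst _ _ _).trans (Category.comp_id _),
          show c.π.app k.left ≫ S.map k.hom = c.π.app i₀ from c.w k.hom]
        exact IsPullback.of_hasPullback g₀ (c.π.app i₀))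
      (by simp [dk, d, p₂])
      (IsPullback.of_hasPullback g₀ (S.map k.hom))
  let Q := pullback.fst dk Jk.subschemeι
  haveI : IsClosedImmersion Q := MorphismProperty.pullback_fst _ _ inferInstance
  have hQ : Q.ker = 𝒥.subschemeι.ker := by
    rw [Scheme.IdealSheafData.ker_fst_of_isClosedImmersion, Scheme.IdealSheafData.ker_subschemeι,
      Scheme.IdealSheafData.ker_subschemeι]
    exact hcomap
  let u := IsClosedImmersion.lift Q 𝒥.subschemeι hQ.le
  haveI : IsIso u := IsClosedImmersion.isIso_lift Q 𝒥.subschemeι hQ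
  have hu : u ≫ Q = 𝒥.subschemeι := IsClosedImmersion.lift_fac _ _ _
  let ek : 𝒥.subscheme ⟶ Jk.subscheme := u ≫ pullback.snd dk Jk.subschemeι
  have hC : IsPullback ek 𝒥.subschemeι Jk.subschemeι dk :=
    IsPullback.of_iso (IsPullback.of_hasPullback dk Jk.subschemeι).flip (asIso u).symm (Iso.refl _)
      (Iso.refl _) (Iso.refl _) (by simp [ek]) (by simp [← hu, Q]) (by simp) (by simp)
  have hCk : IsPullback ek g fk (c.π.app k.left) := hC.paste_vert hdk
  obtain ⟨j, φj, hflj⟩ := H7Lim.exists_descend (P := @Flat) (Q := @LocallyOfFinitePresentation) hc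
    H7Lim.descendsAffine_flat k.left fk inferInstance ((H7Lim.prop_iff_of_isPullback (P := @Flat) hCk).1 hfl)
  -- the two almost blow ups
  let bY : S.obj j ⟶ Y := r j
  let X' := pullback fk (S.map φj)
  let f' : X' ⟶ S.obj j := pullback.snd fk (S.map φj)
  let bX : X' ⟶ X := pullback.fst fk (S.map φj) ≫ Jk.subschemeι ≫ pullback.fst g₀ (S.map k.hom) ≫
    pullback.fst f (r i₀)
  haveI : IsProper (pullback.fst f (r i₀)) := MorphismProperty.pullback_fst _ _ inferInstance
  haveI : LocallyOfFinitePresentation (pullback.fst f (r i₀)) := MorphismProperty.pullback_fst _ _ inferInstance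
  haveI : IsClosedImmersion (pullback.fst g₀ (S.map k.hom)) := MorphismProperty.pullback_fst _ _ inferInstance
  haveI : LocallyOfFinitePresentation (pullback.fst g₀ (S.map k.hom)) :=
    MorphismProperty.pullback_fst _ _ inferInstance
  haveI : IsClosedImmersion (pullback.fst fk (S.map φj)) := MorphismProperty.pullback_fst _ _ inferInstance
  haveI : LocallyOfFinitePresentation (pullback.fst fk (S.map φj)) :=
    MorphismProperty.pullback_fst _ _ inferInstance
  haveI : IsProper bX := inferInstanceAs (IsProper (pullback.fst fk (S.map φj) ≫ Jk.subschemeι ≫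
    pullback.fst g₀ (S.map k.hom) ≫ pullback.fst f (r i₀)))
  haveI : LocallyOfFinitePresentation bX := inferInstanceAs (LocallyOfFinitePresentation
    (pullback.fst fk (S.map φj) ≫ Jk.subschemeι ≫ pullback.fst g₀ (S.map k.hom) ≫ pullback.fst f (r i₀)))
  have hcomm : f' ≫ bY = bX ≫ f := by
    show f' ≫ r j = _
    rw [← hr φj, ← hr k.hom]
    simp only [bX, Category.assoc, f']
    rw [← pullback.condition_assoc]
    simp only [fk, Category.assoc]
    rw [← pullback.condition_assoc, pullback.condition]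
  let cj : K.subscheme ⟶ j.unop.1.subscheme := c.π.app j
  have hcj : cj ≫ j.unop.1.subschemeι = K.subschemeι := Scheme.IdealSheafData.inclusion_subschemeι _
  haveI : IsClosedImmersion (cj ≫ j.unop.1.subschemeι) := by rw [hcj]; infer_instance
  haveI : IsClosedImmersion cj := IsClosedImmersion.of_comp cj j.unop.1.subschemeι
  have hlY : IsLocPrincipal (𝓘.comap bY) := by
    show IsLocPrincipal (𝓘.comap (j.unop.1.subschemeι ≫ b₀))
    rw [Scheme.IdealSheafData.comap_comp]
    exact isLocPrincipal_comap hl₀ _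
  have hKj : IsPullback (𝟙 _) cj K.subschemeι j.unop.1.subschemeι := by
    have := (IsPullback.of_horiz_isIso (fst := 𝟙 K.subscheme) (snd := cj) (f := cj) (g := 𝟙 j.unop.1.subscheme)
      ⟨by simp⟩).paste_vert (IsKernelPair.id_of_mono j.unop.1.subschemeι)
    rw [Category.comp_id, hcj] at this
    exact this
  have hisoY : IsIso (cj ∣_ awayFrom (𝓘.comap bY)) := by
    show IsIso (cj ∣_ awayFrom (𝓘.comap (j.unop.1.subschemeι ≫ b₀)))
    rw [Scheme.IdealSheafData.comap_comp, awayFrom_comap]
    exact H7Flat.Flatten.property_restrict_of_isPullback (P := MorphismProperty.isomorphisms Scheme) hKj _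
      (H7Flat.Flatten.isIso_subschemeι_restrict _)
  have hsqY : IsAlmostBlowUpSquare (pullback.fst bY iZ) (pullback.snd bY iZ) bY iZ := by
    refine isAlmostBlowUpSquare_of_closed iZ bY (by rwa [hk]) cj ?_ (by rw [hk]; exact hisoY)
    rw [hk, hcr]; exact hB
  -- upstairs
  let iT : pullback f iZ ⟶ X := pullback.fst f iZ
  haveI : IsClosedImmersion iT := MorphismProperty.pullback_fst _ _ inferInstance
  haveI : LocallyOfFinitePresentation iT := MorphismProperty.pullback_fst _ _ inferInstance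
  have hkT : iT.ker = 𝓘.comap f := by rw [Scheme.IdealSheafData.ker_fst_of_isClosedImmersion, hk]
  have hIX : iT.ker.comap bX = (𝓘.comap bY).comap f' := by
    rw [hkT, ← Scheme.IdealSheafData.comap_comp, ← Scheme.IdealSheafData.comap_comp, hcomm]
  have hφc : g ≫ c.π.app k.left = (g ≫ cj) ≫ S.map φj :=
    (congrArg (g ≫ ·) (c.w φj).symm).trans (Category.assoc _ _ _).symm
  let eX : 𝒥.subscheme ⟶ X' := pullback.lift ek (g ≫ cj) (hCk.w.trans hφc)
  have hCX : IsPullback eX g f' cj := IsPullback.of_right (h₁₂ := pullback.fst fk (S.map φj))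
    (h₂₂ := S.map φj) (v₁₃ := fk) (by rw [pullback.lift_fst, c.w]; exact hCk) (pullback.lift_snd _ _ _)
    (IsPullback.of_hasPullback _ _)
  haveI : IsClosedImmersion eX := MorphismProperty.of_isPullback hCX.flip (inferInstance : IsClosedImmersion cj)
  have heX : eX ≫ bX = 𝒥.subschemeι ≫ p₁ := by
    simp only [bX, ← Category.assoc, eX, pullback.lift_fst]
    simp only [Category.assoc]
    rw [hC.w_assoc]
    simp [dk, d, p₁]
  have hsqX : IsAlmostBlowUpSquare (pullback.fst bX iT) (pullback.snd bX iT) bX iT := by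
    refine isAlmostBlowUpSquare_of_closed iT bX (hIX ▸ isLocPrincipal_comap hlY f') eX ?_ ?_
    · rw [heX, hkT]; exact isBlowUp_strict hP hB
    · rw [hIX, awayFrom_comap]
      exact H7Flat.Flatten.property_restrict_of_isPullback (P := MorphismProperty.isomorphisms Scheme)
        hCX.flip _ hisoY
  let fE : pullback bX iT ⟶ pullback bY iZ := pullback.lift (pullback.fst bX iT ≫ f')
    (pullback.snd bX iT ≫ pullback.snd f iZ) ((Category.assoc _ _ _).trans <|
      (congrArg (pullback.fst bX iT ≫ ·) hcomm).trans <| (pullback.condition_assoc f).trans <|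
        (congrArg (pullback.snd bX iT ≫ ·) (pullback.condition (f := f) (g := iZ))).trans
          (Category.assoc _ _ _).symm)
  have hfE : IsPullback fE (pullback.fst bX iT) (pullback.fst bY iZ) f' := by
    have h := (IsPullback.of_hasPullback bX iT).flip.paste_horiz (IsPullback.of_hasPullback f iZ).flip
    rw [← hcomm] at h
    exact IsPullback.of_right (h₁₂ := pullback.snd bY iZ) (h₂₂ := bY) (v₁₃ := iZ)
      (by rw [pullback.lift_snd]; exact h) (pullback.lift_fst _ _ _) (IsPullback.of_hasPullback bY iZ).flip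
  exact ⟨_, _, _, _, _, _, iZ, bY, pullback.fst bY iZ, pullback.snd bY iZ, iT, bX, pullback.fst bX iT,
    pullback.snd bX iT, pullback.snd f iZ, f', fE, hsqY, hsqX, (IsPullback.of_hasPullback f iZ).flip, hfE,
    hcomm, (pullback.lift_snd _ _ _).symm, hZV, hflj, MorphismProperty.pullback_snd _ _ inferInstance⟩

end Groth.Agent.H18HTop
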