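import Mathlib.AlgebraicGeometry.Sites.Fpqc
import Mathlib.AlgebraicGeometry.Morphisms.Flat
import Groth.Prelude.Def_HTop

/-!
# fpqc coverings: refinement and coproducts
-/

set_option autoImplicit false

universe w w' u

open CategoryTheory Limits AlgebraicGeometry TopologicalSpace

namespace Groth.Agent.H18HTop

set_option backward.isDefEq.respectTransparency false

variable {T : Scheme.{u}}

theorem mem_fpqc_iff (E : PreZeroHypercover.{w} T) : E.presieve₀ ∈ Scheme.fpqcPrecoverage T ↔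
    QuasiCompactCover E ∧ (∀ x : T, ∃ i, x ∈ Set.range (E.f i)) ∧ ∀ i, Flat (E.f i) := by
  refine ⟨fun h => ⟨Scheme.presieve₀_mem_qcPrecoverage_iff.mp h.1, ?_⟩,
    fun h => ⟨Scheme.presieve₀_mem_qcPrecoverage_iff.mpr h.1, ?_⟩⟩
  · exact (Scheme.ofArrows_mem_precoverage_iff (P := @Flat) (X := E.X) (f := E.f)).mp h.2
  · exact (Scheme.ofArrows_mem_precoverage_iff (P := @Flat) (X := E.X) (f := E.f)).mpr h.2

theorem mem_fpqc_of_hom {E : PreZeroHypercover.{w} T} {W : PreZeroHypercover.{w'} T}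
    (hW : W.presieve₀ ∈ Scheme.fpqcPrecoverage T) (φ : W.Hom E) (hE : ∀ i, Flat (E.f i)) :
    E.presieve₀ ∈ Scheme.fpqcPrecoverage T := by
  obtain ⟨h1, h2, -⟩ := (mem_fpqc_iff W).1 hW
  refine (mem_fpqc_iff E).2 ⟨.of_hom φ, fun x => ?_, hE⟩
  obtain ⟨i, y, rfl⟩ := h2 x
  exact ⟨φ.s₀ i, φ.h₀ i y, by rw [← Scheme.Hom.comp_apply, φ.w₀]⟩

theorem mem_fpqc_of_local (E : PreZeroHypercover.{u} T) (hflat : ∀ i, Flat (E.f i))
    (V : PreZeroHypercover.{w} T) (hV : V.presieve₀ ∈ Scheme.fpqcPrecoverage T)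
    (hloc : ∀ j, (E.pullback₁ (V.f j)).presieve₀ ∈ Scheme.fpqcPrecoverage (V.X j)) :
    E.presieve₀ ∈ Scheme.fpqcPrecoverage T :=
  mem_fpqc_of_hom (W := V.bind fun j => E.pullback₁ (V.f j))
    (Precoverage.comp_mem_coverings (J := Scheme.fpqcPrecoverage) V.f hV (fun j i => (E.pullback₁ (V.f j)).f i) hloc)
    { s₀ := fun p => p.2
      h₀ := fun p => pullback.snd (V.f p.1) (E.f p.2)
      w₀ := fun _ => pullback.condition.symm } hflat

theorem isCompactOpenCovered_of_finite_affine {Z : Scheme.{u}} (U : T.Opens) (F : PreZeroHypercover.{w'} Z)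
    [Finite F.I₀] [∀ j, IsAffine (F.X j)] (g : Z ⟶ T) (hg : Set.range g = U)
    (hs : ∀ z : Z, ∃ (j : F.I₀) (x : F.X j), F.f j x = z) :
    IsCompactOpenCovered (fun j => ⇑(F.f j ≫ g)) (U : Set T) := by
  refine IsCompactOpenCovered.of_finite (κ := F.I₀) id (fun _ => ⊤) (fun j => isCompact_univ) ?_
  refine Set.Subset.antisymm ?_ fun x hx => ?_
  · rintro _ ⟨_, ⟨j, rfl⟩, y, -, rfl⟩
    rw [← hg]
    exact ⟨_, rfl⟩
  · rw [← hg] at hx
    obtain ⟨z, rfl⟩ := hx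
    obtain ⟨j, y, rfl⟩ := hs z
    exact Set.mem_iUnion.2 ⟨j, y, trivial, rfl⟩

theorem mem_fpqc_of_refining_affines (E : PreZeroHypercover.{w} T) (hflat : ∀ i, Flat (E.f i))
    (href : ∀ (Z : Scheme.{u}) [IsAffine Z] (h : Z ⟶ T), ∃ F : PreZeroHypercover.{0} Z, Finite F.I₀ ∧
      (∀ j, IsAffine (F.X j)) ∧ (∀ j, Flat (F.f j)) ∧ (∀ z : Z, ∃ (j : F.I₀) (x : F.X j), F.f j x = z) ∧
      HTop.RefinesOver h F E) :
    E.presieve₀ ∈ Scheme.fpqcPrecoverage T := by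
  have key : ∀ U : T.affineOpens, ∃ F : PreZeroHypercover.{0} ((U : T.Opens) : Scheme.{u}),
      IsCompactOpenCovered (fun j => ⇑(F.f j ≫ (U : T.Opens).ι)) ((U : T.Opens) : Set T) ∧
      HTop.RefinesOver (U : T.Opens).ι F E := fun U => by
    haveI : IsAffine ((U : T.Opens) : Scheme.{u}) := U.2
    obtain ⟨F, h1, h2, -, h4, h5⟩ := href _ (U : T.Opens).ι
    exact ⟨F, isCompactOpenCovered_of_finite_affine _ F _ (Scheme.Opens.range_ι _) h4, h5⟩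
  choose F hF hR using key
  choose s₀ h₀ w₀ using hR
  refine (mem_fpqc_iff E).2 ⟨⟨fun {U} hU => ?_⟩, fun x => ?_, hflat⟩
  · exact IsCompactOpenCovered.of_comp (a := s₀ ⟨U, hU⟩) (fun j => ⇑((F ⟨U, hU⟩).f j ≫ U.ι)) (h₀ ⟨U, hU⟩ ·)
      (fun _ => Scheme.Hom.continuous _)
      (fun j => funext fun y => by
        show _ = E.f _ (h₀ ⟨U, hU⟩ j y)
        rw [← Scheme.Hom.comp_apply, w₀])
      (fun _ => Scheme.Hom.continuous _) U.2 (hF ⟨U, hU⟩)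
  · obtain ⟨U, hU, hxU, -⟩ := exists_isAffineOpen_mem_and_subset (x := x) (U := ⊤) trivial
    obtain ⟨s, -, V, -, hV⟩ := hF ⟨U, hU⟩
    obtain ⟨j, -, y, -, hy⟩ := by simpa only [Set.mem_iUnion, Set.mem_image] using hV.ge hxU
    exact ⟨s₀ ⟨U, hU⟩ j, h₀ ⟨U, hU⟩ j y, by rw [← Scheme.Hom.comp_apply, w₀]; exact hy⟩

theorem mem_fpqc_iff_sigmaDesc (E : PreZeroHypercover.{u} T) :
    E.presieve₀ ∈ Scheme.fpqcPrecoverage T ↔ Presieve.singleton (Sigma.desc E.f) ∈ Scheme.fpqcPrecoverage T := by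
  rw [← PreZeroHypercover.presieve₀_singleton.{u}]
  refine ⟨fun h => mem_fpqc_of_hom h
    { s₀ := fun _ => PUnit.unit
      h₀ := fun i => Sigma.ι E.X i
      w₀ := fun i => Sigma.ι_desc _ _ } fun _ => IsZariskiLocalAtSource.sigmaDesc ((mem_fpqc_iff E).1 h).2.2,
    fun h => ?_⟩
  obtain ⟨h1, h2, h3⟩ := (mem_fpqc_iff _).1 h
  have hι : ∀ i, Flat (E.f i) := fun i => by
    haveI : Flat (Sigma.desc E.f) := h3 PUnit.unit
    rw [← Sigma.ι_desc E.f i]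
    infer_instance
  refine (mem_fpqc_iff E).2 ⟨⟨fun {U} hU => ?_⟩, fun x => ?_, hι⟩
  · obtain ⟨n, a, V, hV, hVU⟩ := QuasiCompactCover.exists_isAffineOpen_of_isCompact
      (PreZeroHypercover.singleton.{u} (Sigma.desc E.f)) hU.isCompact
    let V' : Fin n → (∐ E.X).Opens := V
    have : ∀ (k : Fin n) (z : V' k), ∃ (i : E.I₀) (W : (E.X i).Opens), IsAffineOpen W ∧
        z.1 ∈ Sigma.ι E.X i '' W ∧ Sigma.ι E.X i '' W ⊆ V' k := fun k z => by
      obtain ⟨i, y, hy⟩ := (sigmaOpenCover E.X).exists_eq z.1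
      obtain ⟨W, hW, hyW, hWV⟩ := exists_isAffineOpen_mem_and_subset (x := y) (U := Sigma.ι E.X i ⁻¹ᵁ V' k)
        (show Sigma.ι E.X i y ∈ V' k from hy ▸ z.2)
      exact ⟨i, W, hW, ⟨y, hyW, hy⟩, Set.image_subset_iff.2 hWV⟩
    choose i W hW hzW hWV using this
    have hfin : ∀ k, ∃ t : Finset (V' k), (V' k : Set _) ⊆ ⋃ z ∈ t, Sigma.ι E.X (i k z) '' W k z := fun k =>
      (hV k).isCompact.elim_finite_subcover _
        (fun z => (Sigma.ι E.X (i k z)).isOpenEmbedding.isOpenMap _ (W k z).2)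
        (fun z hz => Set.mem_iUnion.2 ⟨⟨z, hz⟩, hzW k ⟨z, hz⟩⟩)
    choose t ht using hfin
    refine IsCompactOpenCovered.of_finite (κ := Σ k, t k) (fun p => i p.1 p.2.1) (fun p => W p.1 p.2.1)
      (fun p => (hW _ _).isCompact) ?_
    have hcomp : ∀ (j : E.I₀) (y : E.X j), Sigma.desc E.f (Sigma.ι E.X j y) = E.f j y := fun j y => by
      rw [← Scheme.Hom.comp_apply, Sigma.ι_desc]
    rw [← hVU]
    refine Set.Subset.antisymm ?_ ?_
    · rintro _ ⟨_, ⟨p, rfl⟩, y, hy, rfl⟩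
      exact Set.mem_iUnion.2 ⟨p.1, Sigma.ι E.X _ y, hWV _ _ ⟨y, hy, rfl⟩, hcomp _ y⟩
    · rintro _ ⟨_, ⟨k, rfl⟩, z, hz, rfl⟩
      obtain ⟨z', hz', y, hy, rfl⟩ := Set.mem_iUnion₂.1 (ht k hz)
      exact Set.mem_iUnion.2 ⟨⟨k, z', hz'⟩, y, hy, (hcomp _ y).symm⟩
  · obtain ⟨j, z, hz⟩ := h2 x
    obtain ⟨i, y, rfl⟩ := (sigmaOpenCover E.X).exists_eq z
    exact ⟨i, y, by rw [← Sigma.ι_desc E.f i, Scheme.Hom.comp_apply]; exact hz⟩

end Groth.Agent.H18HTop
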