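import Groth.Agent.H18HTop.AlmostFlatten
import Groth.Agent.H18HTop.OverTopology
import Groth.Agent.H18HTop.ProperSquare
import Groth.Agent.H05EGA4.GenFlat
import Groth.Agent.H06EGA9.StructureStalk
import Groth.Agent.H06EGA8.Descend
import Groth.Agent.H7Lim.Proper.Descend
import Groth.Agent.H7Lim.FPDescent.Noetherian
import Groth.Agent.S8981
import Groth.Agent.S8982
import Groth.Agent.S4599
import Groth.Agent.H17.Reduced

/-!
# h sheaves from flat descent and almost blow up squares
-/

set_option autoImplicit false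
set_option linter.style.haveILetI false
set_option backward.isDefEq.respectTransparency false

universe w u

open CategoryTheory CategoryTheory.Limits AlgebraicGeometry Opposite HTop TopologicalSpace

namespace Groth.Agent.H18HTop.JhAlmost

variable {S : Scheme.{u}} (F : (Over S)ᵒᵖ ⥤ Type w)

theorem restrict_coe {X Y : Scheme.{u}} (f : X ⟶ Y) (U : Y.Opens) (x : (f ⁻¹ᵁ U : Scheme.{u})) :
    ((f ∣_ U) x).1 = f x.1 := by
  show U.ι ((f ∣_ U) x) = f ((f ⁻¹ᵁ U).ι x)
  rw [← Scheme.Hom.comp_apply, morphismRestrict_ι, Scheme.Hom.comp_apply]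

/-- The descent condition for flat proper surjections onto affine schemes. -/
def FlatDescent : Prop :=
  ∀ (X Y : Over S) (f : X ⟶ Y), IsAffine Y.left → Surjective f.left → Flat f.left → IsProper f.left →
    LocallyOfFinitePresentation f.left → Presieve.IsSheafFor F (Presieve.singleton f)

/-- Almost blow up squares over affine schemes go to cartesian squares, for centres with the property `P`. -/
def SquareCondition (P : ∀ {Z X : Scheme.{u}}, (Z ⟶ X) → Prop) : Prop :=
  ∀ (E Z X' X : Over S) (e : E ⟶ X') (π : E ⟶ Z) (b : X' ⟶ X) (i : Z ⟶ X), IsAffine X.left →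
    HTop.IsAlmostBlowUpSquare e.left π.left b.left i.left → P i.left →
    ∀ (t : F.obj (op Z)) (s' : F.obj (op X')), F.map π.op t = F.map e.op s' →
      ∃! s : F.obj (op X), F.map i.op s = t ∧ F.map b.op s = s'

variable {F}

local notation "τ" => Sheaf.finestTopologySingle F

theorem zariski_le (hz : Presieve.IsSheaf (Scheme.zariskiTopology.over S) F) {U : Over S} (R : Sieve U)
    (hR : R ∈ Scheme.zariskiTopology.over S U) : R ∈ τ U :=
  fun _ g => hz _ (GrothendieckTopology.pullback_stable _ g hR)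

/-- The sieve of arrows through one of two arrows. -/
def pairSieve {U A B : Over S} (a : A ⟶ U) (b : B ⟶ U) : Sieve U where
  arrows _ f := (∃ l, l ≫ a = f) ∨ ∃ l, l ≫ b = f
  downward_closed {Y Z f} hf g := by
    rcases hf with ⟨l, rfl⟩ | ⟨l, rfl⟩
    · exact Or.inl ⟨g ≫ l, Category.assoc _ _ _⟩
    · exact Or.inr ⟨g ≫ l, Category.assoc _ _ _⟩

theorem mem_of_pair {U A B : Over S} {a : A ⟶ U} {b : B ⟶ U} (h : pairSieve a b ∈ τ U) {R : Sieve U}
    (ha : R.pullback a ∈ τ A) (hb : R.pullback b ∈ τ B) : R ∈ τ U := by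
  refine GrothendieckTopology.transitive _ h _ fun T f hf => ?_
  rcases hf with ⟨l, rfl⟩ | ⟨l, rfl⟩
  · rw [Sieve.pullback_comp]; exact GrothendieckTopology.pullback_stable _ l ha
  · rw [Sieve.pullback_comp]; exact GrothendieckTopology.pullback_stable _ l hb

/-- Two opens covering a scheme. -/
theorem openPair_mem (hz : Presieve.IsSheaf (Scheme.zariskiTopology.over S) F) {U A B : Over S} (a : A ⟶ U)
    (b : B ⟶ U) [IsOpenImmersion a.left] [IsOpenImmersion b.left]
    (h : ∀ x : U.left, x ∈ Set.range a.left ∨ x ∈ Set.range b.left) : pairSieve a b ∈ τ U := by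
  refine zariski_le hz _ ?_
  rw [GrothendieckTopology.mem_over_iff]
  let Xc : ULift.{u} Bool → Scheme.{u} := fun c => bif c.down then A.left else B.left
  let fc : ∀ c, Xc c ⟶ U.left := fun c => match c with
    | ⟨true⟩ => a.left
    | ⟨false⟩ => b.left
  have hc : Sieve.generate (Presieve.ofArrows Xc fc) ∈ Scheme.zariskiTopology U.left := by
    refine Precoverage.generate_mem_toGrothendieck ?_
    show _ ∈ Scheme.precoverage @IsOpenImmersion U.left
    rw [Scheme.ofArrows_mem_precoverage_iff]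
    refine ⟨fun x => ?_, fun c => match c with
      | ⟨true⟩ => ‹IsOpenImmersion a.left›
      | ⟨false⟩ => ‹IsOpenImmersion b.left›⟩
    rcases h x with ⟨y, hy⟩ | ⟨y, hy⟩
    · exact ⟨⟨true⟩, y, hy⟩
    · exact ⟨⟨false⟩, y, hy⟩
  refine GrothendieckTopology.superset_covering _ ?_ hc
  rw [Sieve.generate_le_iff]
  intro T g hg
  obtain ⟨c⟩ := hg
  rw [Sieve.overEquiv_iff]
  match c with
  | ⟨true⟩ => exact Or.inl ⟨Over.homMk (𝟙 A.left) (by simp [fc, Xc]), Over.OverMorphism.ext (Category.id_comp _)⟩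
  | ⟨false⟩ => exact Or.inr ⟨Over.homMk (𝟙 B.left) (by simp [fc, Xc]), Over.OverMorphism.ext (Category.id_comp _)⟩

/-- Over an empty scheme every sieve covers. -/
theorem mem_of_isEmpty (hz : Presieve.IsSheaf (Scheme.zariskiTopology.over S) F) {U : Over S} [IsEmpty U.left]
    (R : Sieve U) : R ∈ τ U := by
  refine zariski_le hz _ ?_
  rw [GrothendieckTopology.mem_over_iff]
  have hc : Sieve.generate (Presieve.ofArrows (fun c : PEmpty.{u + 1} => (c.elim : Scheme.{u}))
      (fun c => c.elim)) ∈ Scheme.zariskiTopology U.left := by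
    refine Precoverage.generate_mem_toGrothendieck ?_
    show _ ∈ Scheme.precoverage @IsOpenImmersion U.left
    rw [Scheme.ofArrows_mem_precoverage_iff]
    exact ⟨fun x => isEmptyElim x, fun c => c.elim⟩
  refine GrothendieckTopology.superset_covering _ ?_ hc
  rw [Sieve.generate_le_iff]
  intro T g hg
  obtain ⟨c⟩ := hg
  exact c.elim

/-- Almost blow up squares cover. -/
theorem square_mem {P : ∀ {Z X : Scheme.{u}}, (Z ⟶ X) → Prop}
    (hP : ∀ {Z X W : Scheme.{u}} (i : Z ⟶ X) [IsClosedImmersion i] (c : W ⟶ X), IsAffine W → P i →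
      P (pullback.fst c i))
    (hz : Presieve.IsSheaf (Scheme.zariskiTopology.over S) F) (hsq : SquareCondition F P)
    {E Z X' U : Over S} (e : E ⟶ X') (π : E ⟶ Z) (b : X' ⟶ U) (i : Z ⟶ U)
    (h : HTop.IsAlmostBlowUpSquare e.left π.left b.left i.left) (hi : P i.left) : pairSieve i b ∈ τ U := by
  haveI := h.isClosedImmersion
  intro T g
  refine OverTopology.isSheafFor_of_affine F hz _ fun W hW a => ?_
  rw [← Sieve.pullback_comp]
  let c : W.left ⟶ U.left := (a ≫ g).left
  let gX : pullback c b.left ⟶ X'.left := pullback.snd c b.left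
  let XW : Over S := Over.mk (pullback.fst c b.left ≫ W.hom)
  let bW : XW ⟶ W := Over.homMk (pullback.fst c b.left) rfl
  let ZW : Over S := Over.mk (pullback.fst c i.left ≫ W.hom)
  let iW : ZW ⟶ W := Over.homMk (pullback.fst c i.left) rfl
  have hX : IsPullback gX bW.left b.left c := (IsPullback.of_hasPullback c b.left).flip
  have hZ : IsPullback (pullback.snd c i.left) iW.left i.left c := (IsPullback.of_hasPullback c i.left).flip
  have hE : IsPullback (pullback.fst e.left gX) (pullback.snd e.left gX) e.left gX := IsPullback.of_hasPullback _ _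
  let πl : pullback e.left gX ⟶ ZW.left := hZ.lift (pullback.fst e.left gX ≫ π.left)
    (pullback.snd e.left gX ≫ bW.left) (by
      rw [Category.assoc, ← h.isPullback.w, pullback.condition_assoc, hX.w, Category.assoc])
  have hπ : πl ≫ iW.left = pullback.snd e.left gX ≫ bW.left := hZ.lift_snd _ _ _
  have hsqW := S8982.result h c hX hZ hE hπ
  let EW : Over S := Over.mk (pullback.snd e.left gX ≫ XW.hom)
  let eW : EW ⟶ XW := Over.homMk (pullback.snd e.left gX) rfl
  let πW : EW ⟶ ZW := Over.homMk πl (by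
    show πl ≫ pullback.fst c i.left ≫ W.hom = pullback.snd e.left gX ≫ pullback.fst c b.left ≫ W.hom
    rw [← Category.assoc, ← Category.assoc]
    exact congrArg (· ≫ W.hom) hπ)
  have heq : (pairSieve i b).pullback (a ≫ g) = pairSieve iW bW := by
    let pi : ZW ⟶ Z := Over.homMk (pullback.snd c i.left) (by
      show _ ≫ Z.hom = pullback.fst c i.left ≫ W.hom
      rw [← Over.w i, ← pullback.condition_assoc, Over.w (a ≫ g)])
    let pb : XW ⟶ X' := Over.homMk (pullback.snd c b.left) (by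
      show _ ≫ X'.hom = pullback.fst c b.left ≫ W.hom
      rw [← Over.w b, ← pullback.condition_assoc, Over.w (a ≫ g)])
    have hpi : iW ≫ a ≫ g = pi ≫ i := Over.OverMorphism.ext pullback.condition
    have hpb : bW ≫ a ≫ g = pb ≫ b := Over.OverMorphism.ext pullback.condition
    refine le_antisymm (fun T' l hl => ?_) fun T' l hl => ?_
    · rcases hl with ⟨r, hr⟩ | ⟨r, hr⟩
      · refine Or.inl ⟨Over.homMk (pullback.lift l.left r.left (congrArg CommaMorphism.left hr).symm) ?_,
          Over.OverMorphism.ext (pullback.lift_fst _ _ _)⟩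
        show pullback.lift _ _ _ ≫ pullback.fst c i.left ≫ W.hom = T'.hom
        rw [pullback.lift_fst_assoc, Over.w l]
      · refine Or.inr ⟨Over.homMk (pullback.lift l.left r.left (congrArg CommaMorphism.left hr).symm) ?_,
          Over.OverMorphism.ext (pullback.lift_fst _ _ _)⟩
        show pullback.lift _ _ _ ≫ pullback.fst c b.left ≫ W.hom = T'.hom
        rw [pullback.lift_fst_assoc, Over.w l]
    · rcases hl with ⟨r, rfl⟩ | ⟨r, rfl⟩
      · exact Or.inl ⟨r ≫ pi, by rw [Category.assoc, Category.assoc, hpi]⟩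
      · exact Or.inr ⟨r ≫ pb, by rw [Category.assoc, Category.assoc, hpb]⟩
  rw [heq]
  intro x hx
  have key : ∀ {T' : Over S} (f : T' ⟶ W) (hf : (pairSieve iW bW).arrows f) {A : Over S} (m : A ⟶ W)
      (hm : (pairSieve iW bW).arrows m) (l : T' ⟶ A), l ≫ m = f → x f hf = F.map l.op (x m hm) := by
    intro T' f hf A m hm l hl
    have := hx l (𝟙 T') hm hf (by rw [Category.id_comp]; exact hl)
    simpa using this.symm
  have hiW : (pairSieve iW bW).arrows iW := Or.inl ⟨𝟙 _, Category.id_comp _⟩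
  have hbW : (pairSieve iW bW).arrows bW := Or.inr ⟨𝟙 _, Category.id_comp _⟩
  obtain ⟨s, ⟨hs₁, hs₂⟩, hu⟩ := hsq EW ZW XW W eW πW bW iW hW hsqW (hP i.left c hW hi) (x iW hiW) (x bW hbW)
    (hx πW eW hiW hbW (Over.OverMorphism.ext hπ))
  refine ⟨s, ?_, fun s₂ hs => hu s₂ ⟨hs iW hiW, hs bW hbW⟩⟩
  intro T' f hf
  rcases hf with ⟨l, rfl⟩ | ⟨l, rfl⟩
  · rw [key (l ≫ iW) _ iW hiW l rfl, ← hs₁, op_comp, FunctorToTypes.map_comp_apply]
  · rw [key (l ≫ bW) _ bW hbW l rfl, ← hs₂, op_comp, FunctorToTypes.map_comp_apply]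

section Closed

variable {P : ∀ {Z X : Scheme.{u}}, (Z ⟶ X) → Prop}

/-- Surjective closed immersions of finite presentation cover. -/
theorem thickening_mem (hz : Presieve.IsSheaf (Scheme.zariskiTopology.over S) F)
    (hsq : SquareCondition F (fun _ => True))
    {U U₀ : Over S} (i : U₀ ⟶ U) [IsClosedImmersion i.left] [LocallyOfFinitePresentation i.left]
    [Surjective i.left] {R : Sieve U} (hR : R.pullback i ∈ τ U₀) : R ∈ τ U := by
  let N : Scheme.{u} := ((⊥ : U.left.Opens) : Scheme.{u})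
  let b₀ : N ⟶ U.left := (⊥ : U.left.Opens).ι
  haveI : IsEmpty N := ⟨fun x => x.2⟩
  haveI : IsClosedImmersion b₀ := inferInstance
  let X' : Over S := Over.mk (b₀ ≫ U.hom)
  haveI : IsEmpty X'.left := ‹IsEmpty N›
  let b : X' ⟶ U := Over.homMk b₀ rfl
  let E : Over S := Over.mk (pullback.fst b₀ i.left ≫ X'.hom)
  let e : E ⟶ X' := Over.homMk (pullback.fst b₀ i.left) rfl
  let π : E ⟶ U₀ := Over.homMk (pullback.snd b₀ i.left) (by
    show pullback.snd b₀ i.left ≫ U₀.hom = pullback.fst b₀ i.left ≫ b₀ ≫ U.hom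
    rw [pullback.condition_assoc, Over.w i])
  have hc : ∀ I : N.IdealSheafData, BlowUp.IsEffCartierIdeal I := fun I x => isEmptyElim x
  have h : HTop.IsAlmostBlowUpSquare e.left π.left b.left i.left := by
    refine ⟨inferInstance, inferInstance, IsPullback.of_hasPullback b₀ i.left, fun x => isEmptyElim x,
      inferInstanceAs (IsProper b₀), inferInstanceAs (LocallyOfFinitePresentation b₀), fun x => ?_, fun T g hg => ?_⟩
    · exact isEmptyElim ((supportedOn (i.left.ker.comap b₀)).subschemeι x)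
    · haveI : IsEmpty T := ⟨fun t => by
        haveI := H7Flat.Flatten.isDominant_awayFrom hg
        obtain ⟨_, -, ⟨z, -⟩⟩ := mem_closure_iff.1 ((awayFrom (i.left.ker.comap g)).ι.denseRange t) _
          isOpen_univ trivial
        refine z.2 ?_
        show z.1 ∈ ((i.left.ker.comap g).support : Set T)
        rw [Scheme.IdealSheafData.support_comap]
        show g z.1 ∈ (i.left.ker.support : Set U.left)
        rw [Scheme.Hom.support_ker, i.left.surjective.range_eq, closure_univ]
        trivial⟩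
      exact ⟨(isInitialOfIsEmpty (X := T)).to _, (isInitialOfIsEmpty (X := T)).hom_ext _ _,
        fun _ _ => (isInitialOfIsEmpty (X := T)).hom_ext _ _⟩
  exact mem_of_pair (square_mem (P := fun _ => True) (fun _ _ _ _ _ => trivial) hz hsq e π b i h trivial) hR
    (mem_of_isEmpty hz _)

/-- A flat proper morphism and a closed immersion, jointly surjective, cover. -/
theorem family_mem (hz : Presieve.IsSheaf (Scheme.zariskiTopology.over S) F) (hfl : FlatDescent F)
    (hsq : SquareCondition F (fun _ => True))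
    {U A C : Over S} (a : A ⟶ U) (e : C ⟶ U) [Flat a.left] [IsProper a.left]
    [LocallyOfFinitePresentation a.left] [IsClosedImmersion e.left] [LocallyOfFinitePresentation e.left]
    (h : ∀ x : U.left, x ∈ Set.range a.left ∨ x ∈ Set.range e.left) {R : Sieve U}
    (ha : R.pullback a ∈ τ A) (he : R.pullback e ∈ τ C) : R ∈ τ U := by
  let O : U.left.Opens := ⟨Set.range a.left, a.left.isOpenMap.isOpen_range⟩
  let O' : U.left.Opens := ⟨(Set.range a.left)ᶜ, a.left.isClosedMap.isClosed_range.isOpen_compl⟩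
  let UO : Over S := Over.mk (O.ι ≫ U.hom)
  let UO' : Over S := Over.mk (O'.ι ≫ U.hom)
  let jO : UO ⟶ U := Over.homMk O.ι rfl
  let jO' : UO' ⟶ U := Over.homMk O'.ι rfl
  haveI : IsOpenImmersion jO.left := inferInstanceAs (IsOpenImmersion O.ι)
  haveI : IsOpenImmersion jO'.left := inferInstanceAs (IsOpenImmersion O'.ι)
  refine mem_of_pair (openPair_mem hz jO jO' fun x => ?_) ?_ ?_
  · by_cases hx : x ∈ Set.range a.left
    · exact Or.inl ⟨⟨x, hx⟩, rfl⟩
    · exact Or.inr ⟨⟨x, hx⟩, rfl⟩
  · let AO : Over S := Over.mk ((a.left ∣_ O) ≫ UO.hom)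
    let aO : AO ⟶ UO := Over.homMk (a.left ∣_ O) rfl
    let k : AO ⟶ A := Over.homMk (a.left ⁻¹ᵁ O).ι (by
      show (a.left ⁻¹ᵁ O).ι ≫ A.hom = (a.left ∣_ O) ≫ O.ι ≫ U.hom
      rw [morphismRestrict_ι_assoc, Over.w a])
    have hs : Surjective aO.left := ⟨by
      rintro ⟨x, y, rfl⟩
      exact ⟨⟨y, ⟨y, rfl⟩⟩, Subtype.ext (restrict_coe a.left O _)⟩⟩
    haveI : IsProper aO.left := IsZariskiLocalAtTarget.restrict (P := @IsProper) ‹_› O
    haveI : LocallyOfFinitePresentation aO.left :=
      IsZariskiLocalAtTarget.restrict (P := @LocallyOfFinitePresentation) ‹_› O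
    have hm : Sieve.generate (Presieve.singleton aO) ∈ τ UO :=
      OverTopology.singleton_mem F (P := @IsProper ⊓ @Surjective ⊓ @Flat ⊓ @LocallyOfFinitePresentation) hz
        (fun U' V' f hU hf => hfl V' U' f hU hf.1.1.2 hf.1.2 hf.1.1.1 hf.2) aO
        ⟨⟨⟨inferInstance, hs⟩, inferInstanceAs (Flat (a.left ∣_ O))⟩, inferInstance⟩
    refine GrothendieckTopology.transitive _ hm _ fun T f hf => ?_
    obtain ⟨_, r, _, ⟨⟩, rfl⟩ := hf
    rw [Sieve.pullback_comp]
    refine GrothendieckTopology.pullback_stable _ r ?_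
    rw [← Sieve.pullback_comp, show aO ≫ jO = k ≫ a from Over.OverMorphism.ext (morphismRestrict_ι a.left O),
      Sieve.pullback_comp]
    exact GrothendieckTopology.pullback_stable _ k ha
  · let CO : Over S := Over.mk ((e.left ∣_ O') ≫ UO'.hom)
    let eO : CO ⟶ UO' := Over.homMk (e.left ∣_ O') rfl
    let k : CO ⟶ C := Over.homMk (e.left ⁻¹ᵁ O').ι (by
      show (e.left ⁻¹ᵁ O').ι ≫ C.hom = (e.left ∣_ O') ≫ O'.ι ≫ U.hom
      rw [morphismRestrict_ι_assoc, Over.w e])
    haveI : IsClosedImmersion eO.left := IsZariskiLocalAtTarget.restrict (P := @IsClosedImmersion) ‹_› O'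
    haveI : LocallyOfFinitePresentation eO.left :=
      IsZariskiLocalAtTarget.restrict (P := @LocallyOfFinitePresentation) ‹_› O'
    haveI : Surjective eO.left := ⟨by
      rintro ⟨x, hx⟩
      obtain ⟨y, rfl⟩ := (h x).resolve_left hx
      exact ⟨⟨y, hx⟩, Subtype.ext (restrict_coe e.left O' _)⟩⟩
    refine thickening_mem hz hsq eO ?_
    rw [← Sieve.pullback_comp, show eO ≫ jO' = k ≫ e from Over.OverMorphism.ext (morphismRestrict_ι e.left O'),
      Sieve.pullback_comp]
    exact GrothendieckTopology.pullback_stable _ k he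

end Closed

/-- The sieve of arrows whose composite with `g` lifts along `f`. -/
def sieveVia {X₀ Y₀ : Scheme.{u}} (f : X₀ ⟶ Y₀) (W : Over S) (g : W.left ⟶ Y₀) : Sieve W where
  arrows T h := ∃ l : T.left ⟶ X₀, l ≫ f = h.left ≫ g
  downward_closed {Y Z h} hh m := by
    obtain ⟨l, hl⟩ := hh
    exact ⟨m.left ≫ l, by rw [Category.assoc, hl]; exact (Category.assoc _ _ _).symm⟩

theorem sieveVia_pullback {X₀ Y₀ : Scheme.{u}} (f : X₀ ⟶ Y₀) {W W' : Over S} (g : W.left ⟶ Y₀) (a : W' ⟶ W) :
    (sieveVia f W g).pullback a = sieveVia f W' (a.left ≫ g) := by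
  ext T h
  show (∃ l : T.left ⟶ X₀, l ≫ f = (h ≫ a).left ≫ g) ↔ ∃ l : T.left ⟶ X₀, l ≫ f = h.left ≫ a.left ≫ g
  rw [Over.comp_left, Category.assoc]

/-- Generic flatness over a reduced Noetherian scheme. -/
theorem exists_open_flat {X Y : Scheme.{u}} [IsNoetherian Y] [IsReduced Y] [Nonempty Y] (f : X ⟶ Y)
    [LocallyOfFiniteType f] [QuasiCompact f] :
    ∃ V : Y.Opens, IsCompact (V : Set Y) ∧ (V : Set Y).Nonempty ∧ Flat (f ∣_ V) := by
  obtain ⟨y⟩ := ‹Nonempty Y›
  let Z := irreducibleComponent y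
  have hZ : Z ∈ irreducibleComponents Y := irreducibleComponent_mem_irreducibleComponents y
  let O : Set Y := (⋃₀ (irreducibleComponents Y \ {Z}))ᶜ
  have hfin : (irreducibleComponents Y \ {Z}).Finite := NoetherianSpace.finite_irreducibleComponents.subset Set.sdiff_subset
  have hOo : IsOpen O := by
    rw [isOpen_compl_iff, Set.sUnion_eq_biUnion]
    exact hfin.isClosed_biUnion fun C hC => isClosed_of_mem_irreducibleComponents C hC.1
  have hOZ : O ⊆ Z := fun x hx => by
    by_contra hxZ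
    exact hx ⟨irreducibleComponent x, ⟨irreducibleComponent_mem_irreducibleComponents x, fun h => hxZ
      ((h : irreducibleComponent x = Z) ▸ mem_irreducibleComponent)⟩, mem_irreducibleComponent⟩
  have hOne : O.Nonempty := by
    by_contra hne
    have hsub : Z ⊆ ⋃₀ (irreducibleComponents Y \ {Z}) := fun x _ => by
      by_contra hx
      exact hne ⟨x, hx⟩
    obtain ⟨C, hC, hZC⟩ := (isIrreducible_iff_sUnion_isClosed.1 hZ.1) hfin.toFinset (fun C hC => by
      rw [Set.Finite.mem_toFinset] at hC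
      exact isClosed_of_mem_irreducibleComponents C hC.1) (by rwa [Set.Finite.coe_toFinset])
    rw [Set.Finite.mem_toFinset] at hC
    exact hC.2 (le_antisymm (hZ.2 hC.1.1 hZC) hZC)
  let U₀ : Y.Opens := ⟨O, hOo⟩
  haveI : IrreducibleSpace (U₀ : Scheme.{u}) := by
    haveI : Nonempty (U₀ : Scheme.{u}) := ⟨⟨hOne.some, hOne.some_mem⟩⟩
    haveI : PreirreducibleSpace (U₀ : Scheme.{u}) := by
      have hp : IsPreirreducible O := IsPreirreducible.open_subset hZ.1.2 hOo hOZ
      exact Subtype.preirreducibleSpace hp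
    exact ⟨‹_›⟩
  haveI : IsIntegral (U₀ : Scheme.{u}) := isIntegral_of_irreducibleSpace_of_isReduced _
  obtain ⟨V, hηV, hV⟩ := H05EGA4.GenFlat.exists_open_isFlatOverAt (f ∣_ U₀)
    (H06EGA9.isFP_structureModule (X := (f ⁻¹ᵁ U₀ : Scheme.{u})))
  refine ⟨U₀.ι ''ᵁ V, NoetherianSpace.isCompact _, ⟨U₀.ι _, _, hηV, rfl⟩, ?_⟩
  rw [← MorphismProperty.arrow_mk_iso_iff @Flat (morphismRestrictRestrict f U₀ V)]
  refine (Flat.iff_flat_stalkMap _).2 fun x => ?_
  have h := (H06EGA9.isFlatOverAt_structureModule_iff (f ∣_ U₀) _).1 (hV _ x.2)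
  haveI := RingHom.toMorphismProperty_respectsIso_iff.1 RingHom.Flat.respectsIso
  exact (MorphismProperty.arrow_mk_iso_iff (RingHom.toMorphismProperty RingHom.Flat)
    (morphismRestrictStalkMap (f ∣_ U₀) V x)).2 h

/-- Pullbacks of a proper surjection over a Noetherian scheme cover. -/
theorem sieveVia_mem (hz : Presieve.IsSheaf (Scheme.zariskiTopology.over S) F) (hfl : FlatDescent F)
    (hsq : SquareCondition F (fun _ => True)) {X₀ Y₀ : Scheme.{u}} [IsNoetherian Y₀] (f₀ : X₀ ⟶ Y₀)
    [IsProper f₀] [Surjective f₀] [LocallyOfFinitePresentation f₀] (W : Over S) (g : W.left ⟶ Y₀) :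
    sieveVia f₀ W g ∈ τ W := by
  suffices key : ∀ (C : Closeds Y₀) (Y₁ : Scheme.{u}) (k : Y₁ ⟶ Y₀) [IsClosedImmersion k],
      Set.range k ⊆ (C : Set Y₀) → ∀ (W : Over S) (g₁ : W.left ⟶ Y₁), sieveVia f₀ W (g₁ ≫ k) ∈ τ W by
    have := key ⊤ Y₀ (𝟙 _) (Set.subset_univ _) W g
    rwa [Category.comp_id] at this
  intro C
  induction C using WellFoundedLT.induction with
  | ind C ih =>
  suffices key : ∀ (Y₁ : Scheme.{u}) (k : Y₁ ⟶ Y₀) [IsClosedImmersion k] [IsReduced Y₁],
      Set.range k ⊆ (C : Set Y₀) → ∀ (W : Over S) (g₁ : W.left ⟶ Y₁), sieveVia f₀ W (g₁ ≫ k) ∈ τ W by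
    intro Y₁ k _ hk W g₁
    haveI : IsLocallyNoetherian Y₁ := LocallyOfFiniteType.isLocallyNoetherian k
    let J := Scheme.IdealSheafData.vanishingIdeal (X := Y₁) ⊤
    let r : J.subscheme ⟶ Y₁ := J.subschemeι
    haveI : Surjective r := ⟨fun y => by
      have : y ∈ Set.range J.subschemeι := by
        rw [Scheme.IdealSheafData.range_subschemeι, Scheme.IdealSheafData.coe_support_vanishingIdeal]
        trivial
      exact this⟩
    haveI : LocallyOfFinitePresentation r := H18HTop.locallyOfFinitePresentation_of_noetherian r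
    let W' : Over S := Over.mk (pullback.fst g₁ r ≫ W.hom)
    let iW : W' ⟶ W := Over.homMk (pullback.fst g₁ r) rfl
    haveI : IsClosedImmersion iW.left := MorphismProperty.pullback_fst _ _ inferInstance
    haveI : LocallyOfFinitePresentation iW.left := MorphismProperty.pullback_fst _ _ inferInstance
    haveI : Surjective iW.left := MorphismProperty.pullback_fst (P := @Surjective) _ _ inferInstance
    refine thickening_mem hz hsq iW ?_
    rw [sieveVia_pullback, show iW.left ≫ g₁ ≫ k = pullback.snd g₁ r ≫ r ≫ k from pullback.condition_assoc k]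
    haveI : AlgebraicGeometry.IsReduced J.subscheme := H17.isReduced_vanishingIdeal_subscheme _
    refine key J.subscheme (r ≫ k) ?_ W' _
    rintro _ ⟨z, rfl⟩
    exact hk ⟨r z, rfl⟩
  intro Y₁ k _ _ hk W g₁
  haveI : IsLocallyNoetherian Y₁ := LocallyOfFiniteType.isLocallyNoetherian k
  haveI : CompactSpace Y₁ := QuasiCompact.compactSpace_of_compactSpace k
  haveI : IsNoetherian Y₁ := {}
  rcases isEmpty_or_nonempty Y₁ with hY | hY
  · haveI : IsEmpty W.left := Function.isEmpty g₁.base
    exact mem_of_isEmpty hz _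
  let X₁ := pullback f₀ k
  let f₁ : X₁ ⟶ Y₁ := pullback.snd f₀ k
  haveI : IsProper f₁ := MorphismProperty.pullback_snd _ _ inferInstance
  haveI : Surjective f₁ := MorphismProperty.pullback_snd (P := @Surjective) _ _ inferInstance
  haveI : LocallyOfFinitePresentation f₁ := MorphismProperty.pullback_snd _ _ inferInstance
  obtain ⟨V, hVc, hVne, hVf⟩ := exists_open_flat f₁
  obtain ⟨Z, Y', Et, T, X', D, iZ, bY, eE, πE, iT, bX, eD, πD, fZ, f', fE, hsY, hsX, hT, -, hc, -, hZV, hfl', hfp'⟩ :=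
    exists_almostBlowUp_flattening f₁ V hVc hVf
  haveI := hsY.isClosedImmersion
  haveI := hsY.isProper
  haveI := hsY.finitePresentation_base
  haveI := hsX.isProper
  haveI := hsX.isClosedImmersion
  haveI := hfl'
  haveI := hfp'
  haveI : IsProper (f' ≫ bY) := by rw [hc]; infer_instance
  haveI : IsProper f' := IsProper.of_comp f' bY
  haveI : IsClosedImmersion eE := MorphismProperty.of_isPullback hsY.isPullback.flip hsY.isClosedImmersion
  haveI : LocallyOfFinitePresentation eE :=
    MorphismProperty.of_isPullback hsY.isPullback.flip hsY.finitePresentation_base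
  -- pull back to `W`
  let XW : Over S := Over.mk (pullback.fst g₁ bY ≫ W.hom)
  let bW : XW ⟶ W := Over.homMk (pullback.fst g₁ bY) rfl
  let ZW : Over S := Over.mk (pullback.fst g₁ iZ ≫ W.hom)
  let iW : ZW ⟶ W := Over.homMk (pullback.fst g₁ iZ) rfl
  let gX : XW.left ⟶ Y' := pullback.snd g₁ bY
  have hX : IsPullback gX bW.left bY g₁ := (IsPullback.of_hasPullback g₁ bY).flip
  have hZ : IsPullback (pullback.snd g₁ iZ) iW.left iZ g₁ := (IsPullback.of_hasPullback g₁ iZ).flip
  have hE : IsPullback (pullback.fst eE gX) (pullback.snd eE gX) eE gX := IsPullback.of_hasPullback _ _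
  let πl : pullback eE gX ⟶ ZW.left := hZ.lift (pullback.fst eE gX ≫ πE) (pullback.snd eE gX ≫ bW.left) (by
    rw [Category.assoc, ← hsY.isPullback.w, pullback.condition_assoc, hX.w, Category.assoc])
  have hπ : πl ≫ iW.left = pullback.snd eE gX ≫ bW.left := hZ.lift_snd _ _ _
  have hsW := S8982.result hsY g₁ hX hZ hE hπ
  let EW : Over S := Over.mk (pullback.snd eE gX ≫ XW.hom)
  let eW : EW ⟶ XW := Over.homMk (pullback.snd eE gX) rfl
  let πW : EW ⟶ ZW := Over.homMk πl (by
    show πl ≫ pullback.fst g₁ iZ ≫ W.hom = pullback.snd eE gX ≫ pullback.fst g₁ bY ≫ W.hom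
    rw [← Category.assoc, ← Category.assoc]
    exact congrArg (· ≫ W.hom) hπ)
  have hZmem : (sieveVia f₀ W (g₁ ≫ k)).pullback iW ∈ τ ZW := by
    rw [sieveVia_pullback, show iW.left ≫ g₁ ≫ k = pullback.snd g₁ iZ ≫ iZ ≫ k from pullback.condition_assoc k]
    let C' : Closeds Y₀ := ⟨Set.range (iZ ≫ k), (iZ ≫ k).isClosedEmbedding.isClosed_range⟩
    refine ih C' ⟨?_, fun hle => ?_⟩ Z (iZ ≫ k) subset_rfl ZW _
    · rintro _ ⟨z, rfl⟩
      exact hk ⟨iZ z, rfl⟩
    · obtain ⟨y, hy⟩ := hVne
      obtain ⟨z, hz'⟩ := hle (hk ⟨y, rfl⟩)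
      have hyz : iZ z = y := k.isClosedEmbedding.injective hz'
      have : z ∈ iZ ⁻¹ᵁ V := by show iZ z ∈ V; rw [hyz]; exact hy
      rw [hZV] at this
      exact this
  refine mem_of_pair (square_mem (P := fun _ => True) (fun _ _ _ _ _ => trivial) hz hsq eW πW bW iW hsW trivial)
    hZmem ?_
  -- the almost blow up: flat part and exceptional part
  let AW : Over S := Over.mk (pullback.snd f' gX ≫ XW.hom)
  let aW : AW ⟶ XW := Over.homMk (pullback.snd f' gX) rfl
  haveI : Flat aW.left := inferInstanceAs (Flat (pullback.snd f' gX))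
  haveI : IsProper aW.left := MorphismProperty.pullback_snd (P := @IsProper) f' gX inferInstance
  haveI : LocallyOfFinitePresentation aW.left :=
    MorphismProperty.pullback_snd (P := @LocallyOfFinitePresentation) f' gX inferInstance
  haveI : IsClosedImmersion eW.left := MorphismProperty.pullback_snd (P := @IsClosedImmersion) eE gX inferInstance
  haveI : LocallyOfFinitePresentation eW.left :=
    MorphismProperty.pullback_snd (P := @LocallyOfFinitePresentation) eE gX inferInstance
  refine family_mem hz hfl hsq aW eW (fun x => ?_) ?_ ?_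
  · by_cases hx : gX x ∈ Set.range eE
    · obtain ⟨z, hz'⟩ := hx
      obtain ⟨w, -, hw⟩ := Scheme.Pullback.exists_preimage_pullback (f := eE) (g := gX) z x hz'
      exact Or.inr ⟨w, hw⟩
    · suffices hr : gX x ∈ Set.range f' by
        obtain ⟨z, hz'⟩ := hr
        obtain ⟨w, -, hw⟩ := Scheme.Pullback.exists_preimage_pullback (f := f') (g := gX) z x hz'
        exact Or.inl ⟨w, hw⟩
      let U : Y₁.Opens := ⟨(Set.range iZ)ᶜ, iZ.isClosedEmbedding.isClosed_range.isOpen_compl⟩
      have hyU : bY (gX x) ∈ U := fun ⟨z, hz'⟩ => hx (by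
        obtain ⟨w, hw, -⟩ := Scheme.Pullback.exists_preimage_pullback (f := bY) (g := iZ) (gX x) z hz'.symm
        refine ⟨hsY.isPullback.isoPullback.inv w, ?_⟩
        rw [← Scheme.Hom.comp_apply, hsY.isPullback.isoPullback_inv_fst]
        exact hw)
      obtain ⟨x₁, hx₁⟩ := f₁.surjective (bY (gX x))
      let UT : X₁.Opens := ⟨(Set.range iT)ᶜ, iT.isClosedEmbedding.isClosed_range.isOpen_compl⟩
      haveI := isIso_of_supportedOn bX iT hsX.isBlowUp UT rfl
      have hx₁' : x₁ ∈ UT := fun ⟨t, ht⟩ => hyU ⟨fZ t, by rw [← Scheme.Hom.comp_apply, hT.w, Scheme.Hom.comp_apply, ht, hx₁]⟩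
      obtain ⟨w, hw⟩ := (bX ∣_ UT).surjective ⟨x₁, hx₁'⟩
      have hwx : bX w.1 = x₁ := (restrict_coe bX UT w).symm.trans (congrArg Subtype.val hw)
      haveI := isIso_of_supportedOn bY iZ hsY.isBlowUp U rfl
      refine ⟨w.1, ?_⟩
      have h1 : bY (f' w.1) = bY (gX x) := by rw [← Scheme.Hom.comp_apply, hc, Scheme.Hom.comp_apply, hwx, hx₁]
      let p₁ : (bY ⁻¹ᵁ U : Scheme.{u}) := ⟨f' w.1, show bY (f' w.1) ∈ U from h1 ▸ hyU⟩
      let p₂ : (bY ⁻¹ᵁ U : Scheme.{u}) := ⟨gX x, hyU⟩
      have : p₁ = p₂ := (bY ∣_ U).isOpenEmbedding.injective (Subtype.ext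
        ((restrict_coe bY U p₁).trans (h1.trans (restrict_coe bY U p₂).symm)))
      exact congrArg Subtype.val this
  · rw [← Sieve.pullback_comp]
    refine GrothendieckTopology.covering_of_eq_top _ (Sieve.pullback_eq_top_of_mem _ ?_)
    refine ⟨pullback.fst f' gX ≫ bX ≫ pullback.fst f₀ k, ?_⟩
    show _ = (pullback.snd f' gX ≫ pullback.fst g₁ bY) ≫ g₁ ≫ k
    calc (pullback.fst f' gX ≫ bX ≫ pullback.fst f₀ k) ≫ f₀
        = pullback.fst f' gX ≫ bX ≫ f₁ ≫ k := by simp only [Category.assoc, pullback.condition, f₁]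
      _ = pullback.fst f' gX ≫ (f' ≫ bY) ≫ k := by rw [hc, Category.assoc]
      _ = (pullback.snd f' gX ≫ gX) ≫ bY ≫ k := by
        rw [← pullback.condition, Category.assoc, Category.assoc]
      _ = pullback.snd f' gX ≫ (gX ≫ bY) ≫ k := by simp only [Category.assoc]
      _ = pullback.snd f' gX ≫ (bW.left ≫ g₁) ≫ k := by rw [hX.w]
      _ = _ := by simp only [Category.assoc]; rfl
  · rw [← Sieve.pullback_comp, show eW ≫ bW = πW ≫ iW from Over.OverMorphism.ext hπ.symm, Sieve.pullback_comp]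
    exact GrothendieckTopology.pullback_stable _ πW hZmem

/-- A proper surjection of finite presentation over an affine scheme is pulled back from a Noetherian one. -/
theorem exists_model {X Y : Scheme.{u}} [IsAffine Y] (f : X ⟶ Y) [IsProper f] [Surjective f]
    [LocallyOfFinitePresentation f] :
    ∃ (X₀ Y₀ : Scheme.{u}) (f₀ : X₀ ⟶ Y₀) (g : Y ⟶ Y₀) (g' : X ⟶ X₀), IsNoetherian Y₀ ∧ IsProper f₀ ∧
      Surjective f₀ ∧ LocallyOfFinitePresentation f₀ ∧ IsPullback g' f f₀ g := by
  let R := Γ(Y, ⊤)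
  let f' := f ≫ Y.isoSpec.hom
  let c : Cone ((H7Lim.FPDescent.subringFunctor R).op ⋙ Scheme.Spec) :=
    Scheme.Spec.mapCone (H7Lim.FPDescent.subringCocone R).op
  have hc : IsLimit c := isLimitOfPreserves Scheme.Spec (H7Lim.FPDescent.subringIsColimit R).op
  let D := (H7Lim.FPDescent.subringFunctor R).op ⋙ Scheme.Spec
  haveI : ∀ (i j : (Finset R)ᵒᵖ) (φ : i ⟶ j), IsAffineHom (D.map φ) := fun i j φ =>
    inferInstanceAs (IsAffineHom (Spec.map _))
  haveI : ∀ i, CompactSpace (D.obj i) := fun i => inferInstanceAs (CompactSpace ↥(Spec _))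
  haveI : ∀ i, QuasiSeparatedSpace (D.obj i) := fun i => inferInstanceAs (QuasiSeparatedSpace ↥(Spec _))
  haveI : Nonempty (Finset R) := ⟨∅⟩
  obtain ⟨i, ⟨M⟩⟩ := H7Lim.FPDescent.exists_model hc (X := X) f'
  haveI := M.lfp
  haveI := M.qc
  haveI := M.qs
  haveI : CompactSpace M.P := QuasiCompact.compactSpace_of_compactSpace M.p
  haveI : QuasiSeparatedSpace M.P := quasiSeparatedSpace_of_quasiSeparated M.p
  obtain ⟨j, φ, hj⟩ := H7Lim.descends_isProper _ D c hc i M.p inferInstance
    ((H7Lim.prop_iff_of_isPullback (P := @IsProper) M.hpb).1 inferInstance)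
  let pj := pullback.snd M.p (D.map φ)
  haveI : IsProper pj := hj
  let gj : X ⟶ pullback M.p (D.map φ) :=
    pullback.lift M.g (f' ≫ c.π.app j) (by rw [Category.assoc, c.w φ]; exact M.hpb.w)
  have hjp : IsPullback gj f' pj (c.π.app j) :=
    IsPullback.of_right (h₁₂ := pullback.fst M.p (D.map φ)) (h₂₂ := D.map φ) (v₁₃ := M.p)
      (by rw [pullback.lift_fst, c.w φ]; exact M.hpb) (pullback.lift_snd _ _ _) (IsPullback.of_hasPullback _ _)
  haveI : CompactSpace (pullback M.p (D.map φ) : Scheme.{u}) := QuasiCompact.compactSpace_of_compactSpace pj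
  haveI : QuasiSeparatedSpace (pullback M.p (D.map φ) : Scheme.{u}) := quasiSeparatedSpace_of_quasiSeparated pj
  haveI : LocallyOfFinitePresentation pj := MorphismProperty.pullback_snd _ _ inferInstance
  obtain ⟨l, ψ, hl⟩ := H7Lim.exists_descend (P := @Surjective) (Q := @LocallyOfFinitePresentation) hc
    H06EGA8.descendsAffine_surjective j pj inferInstance
    ((H7Lim.prop_iff_of_isPullback (P := @Surjective) hjp).1 inferInstance)
  let pl := pullback.snd pj (D.map ψ)
  let gl : X ⟶ pullback pj (D.map ψ) :=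
    pullback.lift gj (f' ≫ c.π.app l) (by rw [Category.assoc, c.w ψ]; exact hjp.w)
  have hlp : IsPullback gl f' pl (c.π.app l) :=
    IsPullback.of_right (h₁₂ := pullback.fst pj (D.map ψ)) (h₂₂ := D.map ψ) (v₁₃ := pj)
      (by rw [pullback.lift_fst, c.w ψ]; exact hjp) (pullback.lift_snd _ _ _) (IsPullback.of_hasPullback _ _)
  haveI : IsNoetherianRing (Algebra.adjoin ℤ ((unop l : Finset R) : Set R)) :=
    isNoetherianRing_of_fg ⟨unop l, rfl⟩
  refine ⟨_, D.obj l, pl, Y.isoSpec.hom ≫ c.π.app l, gl, ?_, MorphismProperty.pullback_snd _ _ hj, hl,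
    MorphismProperty.pullback_snd _ _ inferInstance, ?_⟩
  · exact inferInstanceAs (IsNoetherian (Spec (CommRingCat.of (Algebra.adjoin ℤ ((unop l : Finset R) : Set R)))))
  · exact IsPullback.of_iso hlp (Iso.refl _) (Iso.refl _) Y.isoSpec.symm (Iso.refl _) (by simp)
      (by simp [f']) (by simp) (by simp)

/-- **Criterion for h sheaves.** -/
theorem isSheaf_Jh (hz : Presieve.IsSheaf (Scheme.zariskiTopology.over S) F) (hfl : FlatDescent F)
    (hsq : SquareCondition F (fun _ => True)) : Presieve.IsSheaf (HTop.Jh S) F := by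
  refine (S8981.result S F).2 ⟨hz, fun U V f hU hp hs hl => ?_⟩
  haveI := hU; haveI := hp; haveI := hs; haveI := hl
  obtain ⟨X₀, Y₀, f₀, g, g', hN, hp₀, hs₀, hl₀, hsq₀⟩ := exists_model f.left
  haveI := hN; haveI := hp₀; haveI := hs₀; haveI := hl₀
  have h := sieveVia_mem hz hfl hsq f₀ U g
  have heq : sieveVia f₀ U g = Sieve.generate (Presieve.singleton f) := by
    ext T a
    constructor
    · rintro ⟨l, hla⟩
      refine ⟨V, Over.homMk (hsq₀.lift l a.left hla) ?_, f, ⟨⟩, Over.OverMorphism.ext (hsq₀.lift_snd _ _ _)⟩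
      rw [← Over.w f, ← Category.assoc, hsq₀.lift_snd, Over.w a]
    · rintro ⟨_, r, _, ⟨⟩, rfl⟩
      exact ⟨r.left ≫ g', by rw [Category.assoc, hsq₀.w]; exact (Category.assoc _ _ _).symm⟩
  rw [heq] at h
  have h' := h U (𝟙 U)
  rw [Sieve.pullback_id] at h'
  exact (Presieve.isSheafFor_iff_generate _).2 h'

/-- h sheaves turn almost blow up squares into cartesian squares. -/
theorem squareCondition_of_isSheaf (hF : Presieve.IsSheaf (HTop.Jh S) F) : SquareCondition F (fun _ => True) := by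
  intro E Z X' X e π b i _ h _ t s' hts
  haveI := h.isClosedImmersion
  haveI := h.isProper
  haveI := h.finitePresentation
  let U : X.left.Opens := ⟨(Set.range i.left.base)ᶜ, i.left.isClosedEmbedding.isClosed_range.isOpen_compl⟩
  exact cartesian_of_properCovers (F := ⟨F, (isSheaf_iff_isSheaf_of_type _ _).2 hF⟩) (properCovers_Jh S) e π b i
    h.finitePresentation h.finitePresentation_base (S4599.result b.left) h.isPullback U rfl
    (isIso_of_supportedOn b.left i.left h.isBlowUp U rfl) t s' hts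

end Groth.Agent.H18HTop.JhAlmost
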