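import Groth.Agent.H18HTop.JhAlmost
import Groth.Agent.H18HTop.AlmostBlowUpExists

/-!
# Squares with centre generated by two sections suffice for the h topology
-/

set_option autoImplicit false
set_option linter.style.haveILetI false
set_option backward.isDefEq.respectTransparency false

universe w u

open CategoryTheory CategoryTheory.Limits AlgebraicGeometry Opposite HTop TopologicalSpace

namespace Groth.Agent.H18HTop.JhTwo

open JhAlmost

/-- The ideal sheaf is generated by `n` global sections. -/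
def GenBy (n : ℕ) {X : Scheme.{u}} (I : X.IdealSheafData) : Prop :=
  ∃ f : Fin n → Γ(X, ⊤), I = Scheme.IdealSheafData.ofIdealTop (Ideal.span (Set.range f))

theorem comap_ofIdealTop {X Y : Scheme.{u}} (g : X ⟶ Y) (I : Ideal Γ(Y, ⊤)) :
    (Scheme.IdealSheafData.ofIdealTop I).comap g = Scheme.IdealSheafData.ofIdealTop (I.map g.appTop.hom) := by
  refine H29Blow.ext_of_forall_exists fun x => ?_
  obtain ⟨U, V, hx, e⟩ := H29Blow.exists_affine_le g x
  refine ⟨V, hx, ?_⟩
  rw [H29Blow.ideal_comap _ g U V e, Scheme.IdealSheafData.ofIdealTop_ideal,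
    Scheme.IdealSheafData.ofIdealTop_ideal, Ideal.map_map, Ideal.map_map, ← CommRingCat.hom_comp,
    ← CommRingCat.hom_comp, Scheme.Hom.map_appLE]
  congr 2

theorem ofIdealTop_injective {X : Scheme.{u}} [IsAffine X] {I J : Ideal Γ(X, ⊤)}
    (h : Scheme.IdealSheafData.ofIdealTop I = Scheme.IdealSheafData.ofIdealTop J) : I = J := by
  simpa using congrArg (fun K : X.IdealSheafData => K.ideal ⟨⊤, isAffineOpen_top X⟩) h

theorem eq_ofIdealTop {X : Scheme.{u}} [IsAffine X] (I : X.IdealSheafData) :
    I = Scheme.IdealSheafData.ofIdealTop (I.ideal ⟨⊤, isAffineOpen_top X⟩) :=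
  Scheme.IdealSheafData.ext_of_isAffine (by simp)

theorem genBy_comap {n : ℕ} {X Y : Scheme.{u}} {I : Y.IdealSheafData} (h : GenBy n I) (g : X ⟶ Y) :
    GenBy n (I.comap g) := by
  obtain ⟨f, rfl⟩ := h
  exact ⟨fun k => g.appTop.hom (f k), by rw [comap_ofIdealTop, Ideal.map_span, ← Set.range_comp]; rfl⟩

/-- Generators of the ideal of a closed immersion of finite presentation into an affine scheme. -/
theorem exists_genBy {Z X : Scheme.{u}} [IsAffine X] (i : Z ⟶ X) [IsClosedImmersion i]
    [LocallyOfFinitePresentation i] : ∃ n, GenBy (n + 2) i.ker := by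
  obtain ⟨n, f, hf⟩ := Submodule.fg_iff_exists_fin_generating_family.1
    ((lfp_iff_ker_fg i).1 inferInstance ⟨⊤, isAffineOpen_top X⟩)
  refine ⟨n, Fin.cons 0 (Fin.cons 0 f), (eq_ofIdealTop i.ker).trans (congrArg _ ?_)⟩
  rw [Fin.range_cons, Fin.range_cons, Ideal.span_insert, Ideal.span_insert, Ideal.span_singleton_eq_bot.2 rfl,
    bot_sup_eq, bot_sup_eq]
  exact hf.symm

variable {S : Scheme.{u}} {F : (Over S)ᵒᵖ ⥤ Type w}

local notation "τ" => Sheaf.finestTopologySingle F

/-- An open covering covers. -/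
theorem opens_mem (hz : Presieve.IsSheaf (Scheme.zariskiTopology.over S) F) {U : Over S} {ι : Type u}
    (W : ι → U.left.Opens) (hW : ∀ x : U.left, ∃ c, x ∈ W c) {R : Sieve U}
    (h : ∀ c, R.pullback (Over.homMk (W c).ι : Over.mk ((W c).ι ≫ U.hom) ⟶ U) ∈ τ (Over.mk ((W c).ι ≫ U.hom))) :
    R ∈ τ U := by
  let j : ∀ c, Over.mk ((W c).ι ≫ U.hom) ⟶ U := fun c => Over.homMk (W c).ι
  have hm : Sieve.generate (Presieve.ofArrows _ j) ∈ τ U := by
    refine zariski_le hz _ ?_
    rw [GrothendieckTopology.mem_over_iff]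
    have hc : Sieve.generate (Presieve.ofArrows (fun c => (W c : Scheme.{u})) fun c => (W c).ι) ∈
        Scheme.zariskiTopology U.left := by
      refine Precoverage.generate_mem_toGrothendieck ?_
      show _ ∈ Scheme.precoverage @IsOpenImmersion U.left
      rw [Scheme.ofArrows_mem_precoverage_iff]
      exact ⟨fun x => ⟨(hW x).choose, ⟨x, (hW x).choose_spec⟩, rfl⟩, fun c => inferInstance⟩
    refine GrothendieckTopology.superset_covering _ ?_ hc
    rw [Sieve.generate_le_iff]
    intro T g hg
    obtain ⟨c⟩ := hg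
    rw [Sieve.overEquiv_iff]
    exact Sieve.le_generate _ _ _ (Presieve.ofArrows.mk (f := j) c)
  refine GrothendieckTopology.transitive _ hm _ fun T f hf => ?_
  obtain ⟨_, r, _, ⟨c⟩, rfl⟩ := hf
  rw [Sieve.pullback_comp]
  exact GrothendieckTopology.pullback_stable _ r (h c)

variable (F) in
/-- Squares with centre generated by two global sections cover. -/
def TwoMem : Prop :=
  ∀ {E Z X' U : Over S} (e : E ⟶ X') (π : E ⟶ Z) (b : X' ⟶ U) (i : Z ⟶ U),
    HTop.IsAlmostBlowUpSquare e.left π.left b.left i.left → GenBy 2 i.left.ker → pairSieve i b ∈ τ U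

theorem twoMem_of_squareCondition (hz : Presieve.IsSheaf (Scheme.zariskiTopology.over S) F)
    (hsq : SquareCondition F (fun i => GenBy 2 i.ker)) : TwoMem F := fun e π b i h hg =>
  square_mem (P := fun j => GenBy 2 j.ker) (fun j _ c _ hj => by
    rw [Scheme.IdealSheafData.ker_fst_of_isClosedImmersion]; exact genBy_comap hj c) hz hsq e π b i h hg

/-- The sieve of a square pulls back to the sieve of the pulled back square. -/
theorem pullback_square {E Z X' U W : Over S} (e : E ⟶ X') (π : E ⟶ Z) (b : X' ⟶ U) (i : Z ⟶ U)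
    (h : HTop.IsAlmostBlowUpSquare e.left π.left b.left i.left) (g : W ⟶ U) :
    ∃ (EW ZW XW : Over S) (eW : EW ⟶ XW) (πW : EW ⟶ ZW) (bW : XW ⟶ W) (iW : ZW ⟶ W),
      HTop.IsAlmostBlowUpSquare eW.left πW.left bW.left iW.left ∧
      (pairSieve i b).pullback g = pairSieve iW bW ∧ iW.left.ker = i.left.ker.comap g.left := by
  haveI := h.isClosedImmersion
  let c := g.left
  let gX : pullback c b.left ⟶ X'.left := pullback.snd c b.left
  let XW : Over S := Over.mk (pullback.fst c b.left ≫ W.hom)
  let bW : XW ⟶ W := Over.homMk (pullback.fst c b.left) rfl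
  let ZW : Over S := Over.mk (pullback.fst c i.left ≫ W.hom)
  let iW : ZW ⟶ W := Over.homMk (pullback.fst c i.left) rfl
  have hX : IsPullback gX bW.left b.left c := (IsPullback.of_hasPullback c b.left).flip
  have hZ : IsPullback (pullback.snd c i.left) iW.left i.left c := (IsPullback.of_hasPullback c i.left).flip
  have hE : IsPullback (pullback.fst e.left gX) (pullback.snd e.left gX) e.left gX := IsPullback.of_hasPullback _ _
  let πl : pullback e.left gX ⟶ ZW.left := hZ.lift (pullback.fst e.left gX ≫ π.left)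
    (pullback.snd e.left gX ≫ bW.left) (by
      rw [Category.assoc, ← h.isPullback.w, pullback.condition_assoc, hX.w, Category.assoc])
  have hπ : πl ≫ iW.left = pullback.snd e.left gX ≫ bW.left := hZ.lift_snd _ _ _
  let EW : Over S := Over.mk (pullback.snd e.left gX ≫ XW.hom)
  let eW : EW ⟶ XW := Over.homMk (pullback.snd e.left gX) rfl
  let πW : EW ⟶ ZW := Over.homMk πl (by
    show πl ≫ pullback.fst c i.left ≫ W.hom = pullback.snd e.left gX ≫ pullback.fst c b.left ≫ W.hom
    rw [← Category.assoc, ← Category.assoc]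
    exact congrArg (· ≫ W.hom) hπ)
  refine ⟨EW, ZW, XW, eW, πW, bW, iW, S8982.result h c hX hZ hE hπ, ?_,
    Scheme.IdealSheafData.ker_fst_of_isClosedImmersion _ _⟩
  let pi : ZW ⟶ Z := Over.homMk (pullback.snd c i.left) (by
    show _ ≫ Z.hom = pullback.fst c i.left ≫ W.hom
    rw [← Over.w i, ← pullback.condition_assoc, Over.w g])
  let pb : XW ⟶ X' := Over.homMk (pullback.snd c b.left) (by
    show _ ≫ X'.hom = pullback.fst c b.left ≫ W.hom
    rw [← Over.w b, ← pullback.condition_assoc, Over.w g])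
  have hpi : iW ≫ g = pi ≫ i := Over.OverMorphism.ext pullback.condition
  have hpb : bW ≫ g = pb ≫ b := Over.OverMorphism.ext pullback.condition
  refine le_antisymm (fun T' l hl => ?_) fun T' l hl => ?_
  · rcases hl with ⟨r, hr⟩ | ⟨r, hr⟩
    · refine Or.inl ⟨Over.homMk (pullback.lift l.left r.left (congrArg CommaMorphism.left hr).symm) ?_,
        Over.OverMorphism.ext (pullback.lift_fst _ _ _)⟩
      show pullback.lift _ _ _ ≫ pullback.fst c i.left ≫ W.hom = T'.hom
      rw [pullback.lift_fst_assoc, Over.w l]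
    · refine Or.inr ⟨Over.homMk (pullback.lift l.left r.left (congrArg CommaMorphism.left hr).symm) ?_,
        Over.OverMorphism.ext (pullback.lift_fst _ _ _)⟩
      show pullback.lift _ _ _ ≫ pullback.fst c b.left ≫ W.hom = T'.hom
      rw [pullback.lift_fst_assoc, Over.w l]
  · rcases hl with ⟨r, rfl⟩ | ⟨r, rfl⟩
    · exact Or.inl ⟨r ≫ pi, by rw [Category.assoc, Category.assoc, hpi]⟩
    · exact Or.inr ⟨r ≫ pb, by rw [Category.assoc, Category.assoc, hpb]⟩

/-- Squares with centre generated by finitely many global sections cover. -/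
theorem pairSieve_mem (hz : Presieve.IsSheaf (Scheme.zariskiTopology.over S) F)
    (h₂ : TwoMem F) :
    ∀ (n : ℕ) {E Z X' U : Over S} (e : E ⟶ X') (π : E ⟶ Z) (b : X' ⟶ U) (i : Z ⟶ U),
      HTop.IsAlmostBlowUpSquare e.left π.left b.left i.left → GenBy (n + 2) i.left.ker → pairSieve i b ∈ τ U := by
  intro n
  induction n with
  | zero =>
    intro E Z X' U e π b i h hg
    exact h₂ e π b i h hg
  | succ n ih =>
    intro E Z X' U e π b i h hg
    refine GrothendieckTopology.transitive _ (zariski_le hz _ (OverTopology.affineArrows_mem U)) _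
      fun T g hg' => ?_
    obtain ⟨A, r, a, ⟨hA, -⟩, rfl⟩ := hg'
    rw [Sieve.pullback_comp]
    refine GrothendieckTopology.pullback_stable _ r ?_
    obtain ⟨EA, ZA, XA, eA, πA, bA, iA, hA', heqA, hkA⟩ := pullback_square e π b i h a
    rw [heqA]
    obtain ⟨f, hf⟩ : GenBy (n + 1 + 2) iA.left.ker := hkA ▸ genBy_comap hg a.left
    haveI := hA
    -- blow up the locus of the first two generators
    let I₁ := Scheme.IdealSheafData.ofIdealTop (Ideal.span (Set.range ![f 0, f 1]))
    let i₁ : I₁.subscheme ⟶ A.left := I₁.subschemeι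
    haveI : LocallyOfFinitePresentation i₁ := (lfp_iff_ker_fg i₁).2 fun V => by
      rw [Scheme.IdealSheafData.ker_subschemeι, Scheme.IdealSheafData.ofIdealTop_ideal]
      exact Ideal.FG.map ((Submodule.fg_span (Set.finite_range _))) _
    obtain ⟨E₁, X₁, e₁, π₁, b₁, h₁⟩ := exists_isAlmostBlowUpSquare i₁
    let ZO : Over S := Over.mk (i₁ ≫ A.hom)
    let XO : Over S := Over.mk (b₁ ≫ A.hom)
    let EO : Over S := Over.mk (e₁ ≫ XO.hom)
    let iO : ZO ⟶ A := Over.homMk i₁ rfl
    let bO : XO ⟶ A := Over.homMk b₁ rfl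
    let eO : EO ⟶ XO := Over.homMk e₁ rfl
    let πO : EO ⟶ ZO := Over.homMk π₁ (by
      show π₁ ≫ i₁ ≫ A.hom = e₁ ≫ b₁ ≫ A.hom
      rw [← Category.assoc, ← h₁.isPullback.w, Category.assoc])
    refine mem_of_pair (h₂ eO πO bO iO h₁ ⟨![f 0, f 1], Scheme.IdealSheafData.ker_subschemeι _⟩) ?_ ?_
    · -- on the centre the first generator vanishes
      obtain ⟨E₂, Z₂, X₂, e₂, π₂, b₂, i₂, h₂, heq₂, hk₂⟩ := pullback_square eA πA bA iA hA' iO
      rw [heq₂]
      refine ih e₂ π₂ b₂ i₂ h₂ ⟨fun k => i₁.appTop.hom (f k.succ), ?_⟩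
      have h0 : i₁.appTop.hom (f 0) = 0 := by
        have hm : f 0 ∈ RingHom.ker (i₁.app (⟨⊤, isAffineOpen_top A.left⟩ : A.left.affineOpens).1).hom := by
          rw [Scheme.IdealSheafData.ker_subschemeι_app, Scheme.IdealSheafData.ofIdealTop_ideal]
          simp only [homOfLE_refl, op_id, CategoryTheory.Functor.map_id, CommRingCat.hom_id, Ideal.map_id]
          exact Ideal.subset_span ⟨0, rfl⟩
        exact hm
      rw [hk₂, hf]
      show (Scheme.IdealSheafData.ofIdealTop _).comap i₁ = _
      rw [comap_ofIdealTop, Ideal.map_span, ← Set.range_comp]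
      refine congrArg _ ?_
      rw [← Fin.cons_self_tail (i₁.appTop.hom ∘ f), Fin.range_cons, Function.comp_apply, h0, Ideal.span_insert,
        Ideal.span_singleton_eq_bot.2 rfl, bot_sup_eq]
      rfl
    · -- on the blow up the first two generators become locally one
      obtain ⟨E₂, Z₂, X₂, e₂, π₂, b₂, i₂, h₂, heq₂, hk₂⟩ := pullback_square eA πA bA iA hA' bO
      rw [heq₂]
      have hpr : ∀ x : X₁, ∃ V : X₁.affineOpens, x ∈ V.1 ∧ ∃ a, (i₁.ker.comap b₁).ideal V = Ideal.span {a} :=
        h₁.locPrincipal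
      choose V hxV ga hga using hpr
      refine opens_mem hz (U := XO) (fun x : X₁ => (V x).1) (fun x => ⟨x, hxV x⟩) fun x => ?_
      obtain ⟨E₃, Z₃, X₃, e₃, π₃, b₃, i₃, h₃, heq₃, hk₃⟩ :=
        pullback_square e₂ π₂ b₂ i₂ h₂ (Over.homMk (V x).1.ι : Over.mk ((V x).1.ι ≫ XO.hom) ⟶ XO)
      rw [heq₃]
      let φ := ((V x).1.ι ≫ b₁).appTop
      let g' := (V x).1.topIso.inv.hom (ga x)
      refine ih e₃ π₃ b₃ i₃ h₃ ⟨Fin.cons g' fun k : Fin (n + 1) => φ.hom (f k.succ.succ), ?_⟩
      haveI : IsAffine ((V x).1 : Scheme.{u}) := (V x).2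
      have hg1 : Ideal.span ({φ.hom (f 0), φ.hom (f 1)} : Set Γ((V x).1, ⊤)) = Ideal.span {g'} := by
        refine ofIdealTop_injective ?_
        have e1 : (i₁.ker.comap b₁).comap (V x).1.ι = Scheme.IdealSheafData.ofIdealTop (Ideal.span {g'}) := by
          rw [eq_ofIdealTop ((i₁.ker.comap b₁).comap (V x).1.ι), H29Blow.ideal_comap_ι, hga x, Ideal.map_span,
            Set.image_singleton]
        rw [← e1, Scheme.IdealSheafData.ker_subschemeι, ← Scheme.IdealSheafData.comap_comp, comap_ofIdealTop,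
          Ideal.map_span, Matrix.range_cons, Matrix.range_cons, Matrix.range_empty, Set.union_empty,
          Set.singleton_union, Set.image_pair]
      rw [hk₃, hk₂, hf, ← Scheme.IdealSheafData.comap_comp]
      show (Scheme.IdealSheafData.ofIdealTop _).comap ((V x).1.ι ≫ b₁) = _
      rw [comap_ofIdealTop, Ideal.map_span, ← Set.range_comp]
      refine congrArg _ ?_
      rw [Fin.range_cons, ← Fin.cons_self_tail (φ.hom ∘ f), Fin.range_cons,
        ← Fin.cons_self_tail (Fin.tail (φ.hom ∘ f)), Fin.range_cons, Ideal.span_insert, Ideal.span_insert,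
        ← sup_assoc, ← Ideal.span_insert, Ideal.span_insert (g'), ← hg1]
      rfl

theorem isIso_supportedOn_restrict {X : Scheme.{u}} (I : X.IdealSheafData) :
    IsIso ((supportedOn I).subschemeι ∣_ awayFrom I) := by
  let A := awayFrom I
  let s := (supportedOn I).subschemeι
  let t : A.toScheme ⟶ (supportedOn I).subscheme := A.ι.toImage
  have ht : t ≫ s = A.ι := A.ι.toImage_imageι
  have hr : Set.range t ⊆ Set.range (s ⁻¹ᵁ A).ι := by
    rintro _ ⟨z, rfl⟩
    rw [Scheme.Opens.range_ι]
    change s (t z) ∈ A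
    rw [← Scheme.Hom.comp_apply, ht]
    exact z.2
  have hid : IsOpenImmersion.lift (s ⁻¹ᵁ A).ι t hr ≫ (s ∣_ A) = 𝟙 _ := by
    rw [← cancel_mono A.ι, Category.assoc, morphismRestrict_ι, IsOpenImmersion.lift_fac_assoc, ht,
      Category.id_comp]
  haveI : IsClosedImmersion (s ∣_ A) := IsZariskiLocalAtTarget.restrict (P := @IsClosedImmersion) inferInstance _
  haveI : IsSplitEpi (s ∣_ A) := IsSplitEpi.mk' ⟨_, hid⟩
  exact isIso_of_mono_of_isSplitEpi _

/-- The square condition follows from the one for two generators. -/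
theorem squareCondition (hz : Presieve.IsSheaf (Scheme.zariskiTopology.over S) F)
    (h₂ : TwoMem F) : SquareCondition F (fun _ => True) := by
  intro E Z X' X e π b i hX h _ t s' hts
  haveI := h.isClosedImmersion
  haveI := h.isProper
  haveI := h.finitePresentation
  haveI := h.finitePresentation_base
  haveI : Mono i := Over.mono_of_mono_left i
  obtain ⟨n, hn⟩ := exists_genBy i.left
  have hsh : Presieve.IsSheafFor F (pairSieve i b).arrows := by
    have := pairSieve_mem hz h₂ n e π b i h hn X (𝟙 X)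
    rwa [Sieve.pullback_id] at this
  let ρ : pullback b.left b.left ⟶ X.left := pullback.fst _ _ ≫ b.left
  let P : Over S := Over.mk (ρ ≫ X.hom)
  let q₁ : P ⟶ X' := Over.homMk (pullback.fst _ _) (by
    change pullback.fst _ _ ≫ X'.hom = ρ ≫ X.hom
    simp [ρ])
  let q₂ : P ⟶ X' := Over.homMk (pullback.snd _ _) (by
    change pullback.snd _ _ ≫ X'.hom = ρ ≫ X.hom
    rw [show ρ = pullback.snd _ _ ≫ b.left from pullback.condition, Category.assoc, Over.w b])
  have hlift : ∀ {T : Over S} (g₁ : T ⟶ X') (g₂ : T ⟶ Z), g₁ ≫ b = g₂ ≫ i →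
      F.map g₁.op s' = F.map g₂.op t := by
    intro T g₁ g₂ hw'
    have hw : g₁.left ≫ b.left = g₂.left ≫ i.left := congrArg (fun m => Over.Hom.left m) hw'
    let l : T ⟶ E := Over.homMk (h.isPullback.lift g₁.left g₂.left hw) (by
      rw [← Over.w π, ← Category.assoc, h.isPullback.lift_snd, Over.w g₂])
    rw [show g₁ = l ≫ e from Over.OverMorphism.ext (h.isPullback.lift_fst _ _ hw).symm,
      show g₂ = l ≫ π from Over.OverMorphism.ext (h.isPullback.lift_snd _ _ hw).symm,
      op_comp, op_comp, FunctorToTypes.map_comp_apply, FunctorToTypes.map_comp_apply, hts]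
  have hkey : F.map q₁.op s' = F.map q₂.op s' := by
    let Δ : X' ⟶ P := Over.homMk (pullback.diagonal b.left) (by
      change pullback.diagonal b.left ≫ ρ ≫ X.hom = X'.hom
      simp [ρ])
    let R : Over S := Over.mk (pullback.fst ρ i.left ≫ P.hom)
    let k : R ⟶ P := Over.homMk (pullback.fst ρ i.left) rfl
    let π' : R ⟶ Z := Over.homMk (pullback.snd ρ i.left) (by
      change pullback.snd ρ i.left ≫ Z.hom = pullback.fst ρ i.left ≫ ρ ≫ X.hom
      rw [pullback.condition_assoc, Over.w i])
    haveI : IsClosedImmersion k.left := MorphismProperty.pullback_fst (P := @IsClosedImmersion) ρ i.left inferInstance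
    haveI : LocallyOfFinitePresentation k.left :=
      MorphismProperty.pullback_fst (P := @LocallyOfFinitePresentation) ρ i.left inferInstance
    haveI : IsProper Δ.left := inferInstanceAs (IsProper (pullback.diagonal b.left))
    haveI : LocallyOfFinitePresentation Δ.left := S4599.result b.left
    have hkk : k.left.ker = i.left.ker.comap ρ := Scheme.IdealSheafData.ker_fst_of_isClosedImmersion _ _
    have hΔρ : Δ.left ≫ ρ = b.left := by
      show pullback.diagonal b.left ≫ pullback.fst _ _ ≫ b.left = b.left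
      simp
    have hcm : k.left.ker.comap Δ.left = i.left.ker.comap b.left := by
      rw [hkk, ← Scheme.IdealSheafData.comap_comp, hΔρ]
    let s := (supportedOn (i.left.ker.comap b.left)).subschemeι
    have hB : BlowUp.IsBlowUp (s ≫ Δ.left) k.left.ker := by
      refine ⟨?_, fun W g hg => ?_⟩
      · rw [Scheme.IdealSheafData.comap_comp, hcm, ← Scheme.IdealSheafData.comap_comp]
        exact h.isBlowUp.1
      have hg' : BlowUp.IsEffCartierIdeal (i.left.ker.comap (g ≫ ρ)) := by
        rw [Scheme.IdealSheafData.comap_comp, ← hkk]; exact hg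
      obtain ⟨l, hl, hu⟩ := h.isBlowUp.2 W (g ≫ ρ) hg'
      have key : ∀ q : pullback b.left b.left ⟶ X'.left, q ≫ b.left = ρ → l ≫ s = g ≫ q := by
        intro q hq
        have hle : s.ker ≤ (g ≫ q).ker := by
          rw [Scheme.IdealSheafData.ker_subschemeι]
          refine supportedOn_le_ker (g ≫ q) _ ?_
          rwa [← Scheme.IdealSheafData.comap_comp, Category.assoc, hq]
        rw [← IsClosedImmersion.lift_fac s (g ≫ q) hle]
        refine congrArg (· ≫ s) (hu _ ?_).symm
        show _ ≫ s ≫ b.left = g ≫ ρ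
        rw [IsClosedImmersion.lift_fac_assoc, Category.assoc, hq]
      refine ⟨l, ?_, fun l' hl' => hu l' ?_⟩
      · show l ≫ s ≫ pullback.diagonal b.left = g
        refine pullback.hom_ext ?_ ?_
        · simp only [Category.assoc, pullback.diagonal_fst, Category.comp_id]
          exact key _ rfl
        · simp only [Category.assoc, pullback.diagonal_snd, Category.comp_id]
          exact key _ pullback.condition.symm
      · show l' ≫ s ≫ b.left = g ≫ ρ
        rw [← hl', Category.assoc, Category.assoc, hΔρ]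
    haveI : IsIso (s ∣_ awayFrom (k.left.ker.comap Δ.left)) := by
      rw [hcm]; exact isIso_supportedOn_restrict _
    have hsq' := isAlmostBlowUpSquare_of_closed k.left Δ.left (hcm ▸ h.locPrincipal) s hB inferInstance
    let E' : Over S := Over.mk (pullback.fst Δ.left k.left ≫ X'.hom)
    let e' : E' ⟶ X' := Over.homMk (pullback.fst Δ.left k.left) rfl
    let π'' : E' ⟶ R := Over.homMk (pullback.snd Δ.left k.left) (by
      show pullback.snd Δ.left k.left ≫ R.hom = pullback.fst Δ.left k.left ≫ X'.hom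
      rw [← Over.w k, ← pullback.condition_assoc, Over.w Δ])
    have hg : GenBy (n + 2) k.left.ker := hkk ▸ genBy_comap hn ρ
    have hsep : Presieve.IsSheafFor F (pairSieve k Δ).arrows := by
      have := pairSieve_mem hz h₂ n e' π'' Δ k hsq' hg P (𝟙 P)
      rwa [Sieve.pullback_id] at this
    refine hsep.isSeparatedFor.ext fun T f hf => ?_
    rcases hf with ⟨l, rfl⟩ | ⟨l, rfl⟩
    · simp only [← FunctorToTypes.map_comp_apply, ← op_comp]
      have : ∀ q : P ⟶ X', q.left ≫ b.left = ρ → F.map ((l ≫ k) ≫ q).op s' = F.map (l ≫ π').op t := fun q hq => by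
        refine hlift _ _ (Over.OverMorphism.ext ?_)
        change ((l.left ≫ k.left) ≫ q.left) ≫ b.left = (l.left ≫ π'.left) ≫ i.left
        rw [Category.assoc, Category.assoc, Category.assoc, hq]
        exact congrArg (l.left ≫ ·) pullback.condition
      rw [this q₁ rfl, this q₂ pullback.condition.symm]
    · simp only [← FunctorToTypes.map_comp_apply, ← op_comp]
      rw [Category.assoc, Category.assoc, show Δ ≫ q₁ = Δ ≫ q₂ from Over.OverMorphism.ext (by
        change pullback.diagonal b.left ≫ pullback.fst _ _ = pullback.diagonal b.left ≫ pullback.snd _ _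
        simp)]
  let Yf : ULift.{u} Bool → Over S := fun c => bif c.down then X' else Z
  let gg : ∀ c, Yf c ⟶ X := fun c => match c with
    | ⟨true⟩ => b
    | ⟨false⟩ => i
  have hgen : pairSieve i b = Sieve.generate (Presieve.ofArrows Yf gg) := by
    ext T f
    constructor
    · rintro (⟨l, rfl⟩ | ⟨l, rfl⟩)
      · exact ⟨_, l, _, Presieve.ofArrows.mk (f := gg) ⟨false⟩, rfl⟩
      · exact ⟨_, l, _, Presieve.ofArrows.mk (f := gg) ⟨true⟩, rfl⟩
    · rintro ⟨_, l, _, ⟨c⟩, rfl⟩
      match c with
      | ⟨true⟩ => exact Or.inr ⟨l, rfl⟩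
      | ⟨false⟩ => exact Or.inl ⟨l, rfl⟩
  rw [hgen] at hsh
  replace hsh := (Presieve.isSheafFor_iff_generate _).2 hsh
  rw [Presieve.isSheafFor_arrows_iff] at hsh
  let x : ∀ c, F.obj (op (Yf c)) := fun c => match c with
    | ⟨true⟩ => s'
    | ⟨false⟩ => t
  obtain ⟨s, hs, huniq⟩ := hsh x fun c c' T g g' hgg => by
    match c, c' with
    | ⟨true⟩, ⟨true⟩ =>
      have hp' : g.left ≫ b.left = g'.left ≫ b.left := congrArg (fun m => Over.Hom.left m) hgg
      let r : T ⟶ P := Over.homMk (pullback.lift g.left g'.left hp') (by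
        change pullback.lift _ _ _ ≫ ρ ≫ X.hom = T.hom
        simp [ρ]
        exact Over.w g)
      rw [show g = r ≫ q₁ from Over.OverMorphism.ext (pullback.lift_fst _ _ _).symm,
        show g' = r ≫ q₂ from Over.OverMorphism.ext (pullback.lift_snd _ _ _).symm, op_comp, op_comp,
        FunctorToTypes.map_comp_apply, FunctorToTypes.map_comp_apply]
      exact congrArg _ hkey
    | ⟨true⟩, ⟨false⟩ => exact hlift g g' hgg
    | ⟨false⟩, ⟨true⟩ => exact (hlift g' g hgg.symm).symm
    | ⟨false⟩, ⟨false⟩ =>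
      obtain rfl : g = g' := (cancel_mono i).1 hgg
      rfl
  refine ⟨s, ⟨hs ⟨false⟩, hs ⟨true⟩⟩, fun s₂ h₂ => huniq s₂ fun c => ?_⟩
  match c with
  | ⟨true⟩ => exact h₂.2
  | ⟨false⟩ => exact h₂.1

end Groth.Agent.H18HTop.JhTwo
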