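import Groth.Agent.H26Blow.Affine
import Groth.Agent.H18HTop.JhTwo

/-!
# Sections on the universal almost blow up in two elements
-/

set_option autoImplicit false
set_option linter.style.haveILetI false
set_option backward.isDefEq.respectTransparency false

universe u

open CategoryTheory CategoryTheory.Limits AlgebraicGeometry TopologicalSpace Polynomial
open scoped LaurentPolynomial

namespace Groth.Agent.H18HTop.JhBlow

open H26Blow

/-- The base ring `ℤ[u, v]`. -/
abbrev K₀ : Type u := MvPolynomial (ULift.{u} Bool) ℤ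

/-- The ideal `(u, v)`. -/
noncomputable abbrev I₀ : Ideal K₀.{u} :=
  Ideal.span (Set.range fun j : ULift.{u} Bool => (MvPolynomial.X j : K₀.{u}))

noncomputable def gen (k : Bool) : I₀.{u} := ⟨MvPolynomial.X ⟨k⟩, Ideal.subset_span ⟨⟨k⟩, rfl⟩⟩

section Ev

variable {R : Type u} [CommRing R]

/-- The map sending `u, v` to given elements. -/
noncomputable def evalPair (f : Bool → R) : K₀.{u} →+* R :=
  MvPolynomial.eval₂Hom (Int.castRingHom R) fun j => f j.down

@[simp] theorem evalPair_X (f : Bool → R) (j : ULift.{u} Bool) : evalPair f (MvPolynomial.X j) = f j.down :=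
  MvPolynomial.eval₂Hom_X' _ _ _

theorem ext_K₀ {g h : K₀.{u} →+* R} (e : ∀ j : Bool, g (MvPolynomial.X ⟨j⟩) = h (MvPolynomial.X ⟨j⟩)) : g = h :=
  MvPolynomial.ringHom_ext (fun n => by rw [eq_intCast (MvPolynomial.C : ℤ →+* K₀.{u}), map_intCast, map_intCast])
    fun j => e j.down

theorem evalPair_eq (g : K₀.{u} →+* R) : evalPair (fun j => g (MvPolynomial.X ⟨j⟩)) = g :=
  ext_K₀ fun j => by simp

/-- The map from the coordinates of chart `k`. -/
noncomputable def ev (k : Bool) (f : Bool → R) (t : R) : K₀.{u} →+* R :=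
  evalPair fun j => if j = k then f k else t

@[simp] theorem ev_self (k : Bool) (f : Bool → R) (t : R) : ev k f t (MvPolynomial.X ⟨k⟩) = f k := by
  simp [ev]

@[simp] theorem ev_not (k : Bool) (f : Bool → R) (t : R) : ev k f t (MvPolynomial.X ⟨!k⟩) = t := by
  cases k <;> simp [ev]

end Ev

/-- The map of chart `k`: `u ↦ u`, `v ↦ u t`. -/
noncomputable def φ (k : Bool) : K₀.{u} →+* K₀.{u} :=
  evalPair fun j => if j = k then MvPolynomial.X ⟨k⟩ else MvPolynomial.X ⟨k⟩ * MvPolynomial.X ⟨!k⟩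

@[simp] theorem φ_self (k : Bool) : φ.{u} k (MvPolynomial.X ⟨k⟩) = MvPolynomial.X ⟨k⟩ := by simp [φ]

@[simp] theorem φ_not (k : Bool) :
    φ.{u} k (MvPolynomial.X ⟨!k⟩) = MvPolynomial.X ⟨k⟩ * MvPolynomial.X ⟨!k⟩ := by
  cases k <;> simp [φ]

theorem forall_bool {p : Bool → Prop} (k : Bool) (h₁ : p k) (h₂ : p (!k)) : ∀ j, p j := fun j => by
  cases k <;> cases j <;> first | exact h₁ | exact h₂

theorem ev_comp_φ {R : Type u} [CommRing R] (k : Bool) (f : Bool → R) (t : R) (h : t * f k = f (!k)) :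
    (ev k f t).comp (φ k) = evalPair f :=
  ext_K₀ <| forall_bool k (by simp) (by simp [← h, mul_comm])

theorem φ_mem_span (k : Bool) (x : K₀.{u}) (hx : x ∈ I₀.{u}) :
    φ k x ∈ Ideal.span {φ k (gen k : K₀.{u})} := by
  have hg : φ.{u} k (gen k : K₀.{u}) = MvPolynomial.X ⟨k⟩ := φ_self k
  rw [hg]
  suffices I₀.{u} ≤ (Ideal.span {(MvPolynomial.X ⟨k⟩ : K₀.{u})}).comap (φ k) from this hx
  rw [Ideal.span_le]
  rintro _ ⟨⟨j⟩, rfl⟩
  revert j
  refine forall_bool k ?_ ?_
  · simp [Ideal.mem_span_singleton]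
  · simp [Ideal.mem_span_singleton]

theorem φ_gen_mem_nonZeroDivisors (k : Bool) : φ.{u} k (gen k : K₀.{u}) ∈ nonZeroDivisors K₀.{u} := by
  rw [show φ.{u} k (gen k : K₀.{u}) = MvPolynomial.X ⟨k⟩ from φ_self k]
  exact mem_nonZeroDivisors_of_ne_zero (MvPolynomial.X_ne_zero _)

theorem exists_chartIso (k : Bool) :
    ∃ ψ : Alg I₀.{u} (gen k) →+* K₀.{u}, Function.Bijective ψ ∧ ψ.comp (algebraMap _ _) = φ k := by
  let a := gen.{u} k
  obtain ⟨ψ, hψ, -⟩ := existsUnique_lift I₀.{u} a (φ k) (φ_gen_mem_nonZeroDivisors k) (φ_mem_span k)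
  let χ : K₀.{u} →+* Alg I₀.{u} a := ev k (fun j => algebraMap K₀.{u} (Alg I₀.{u} a) (MvPolynomial.X (⟨j⟩ : ULift.{u} Bool)))
    (frac I₀.{u} a (gen (!k)))
  have hc : χ.comp (φ k) = algebraMap K₀.{u} (Alg I₀.{u} a) := by
    rw [show χ = ev k _ _ from rfl, ev_comp_φ k]
    · exact ext_K₀ fun j => by simp
    · exact frac_spec I₀.{u} a (gen (!k))
  have h1 : χ.comp ψ = RingHom.id _ := by
    obtain ⟨_, -, hu⟩ := existsUnique_lift I₀.{u} a (algebraMap K₀.{u} (Alg I₀.{u} a))
      (algebraMap_mem_nonZeroDivisors I₀.{u} a) (fun x hx => by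
        obtain ⟨t, ht⟩ := exists_mul_eq I₀.{u} a x hx
        exact Ideal.mem_span_singleton'.2 ⟨t, ht⟩)
    exact (hu _ (by show (χ.comp ψ).comp _ = _; rw [RingHom.comp_assoc, hψ, hc])).trans (hu _ rfl).symm
  have hψ' : ∀ x, ψ (algebraMap _ _ x) = φ k x := fun x => RingHom.congr_fun hψ x
  have h2 : ψ.comp χ = RingHom.id _ := by
    refine ext_K₀ (forall_bool k ?_ ?_)
    · simp only [RingHom.comp_apply, χ, ev_self, hψ', φ_self, RingHom.id_apply]
    · simp only [RingHom.comp_apply, χ, ev_not, RingHom.id_apply]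
      refine mul_right_cancel₀ (b := (MvPolynomial.X ⟨k⟩ : K₀.{u})) (MvPolynomial.X_ne_zero _) ?_
      have := congrArg ψ (frac_spec I₀.{u} a (gen (!k)))
      rw [map_mul, hψ', hψ'] at this
      simp only [a, gen, φ_self, φ_not] at this
      rw [mul_comm (MvPolynomial.X _) (MvPolynomial.X _)] at this
      exact this
  exact ⟨ψ, ⟨fun x y hxy => (RingHom.congr_fun h1 x).symm.trans ((congrArg χ hxy).trans (RingHom.congr_fun h1 y)),
    fun y => ⟨χ y, RingHom.congr_fun h2 y⟩⟩, hψ⟩

/-- The universal blow up. -/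
noncomputable abbrev Bl : Scheme.{u} := Proj (gr I₀.{u})

/-- Chart `k` of the universal blow up. -/
noncomputable def q (k : Bool) : Spec (CommRingCat.of K₀.{u}) ⟶ Bl.{u} :=
  Spec.map (CommRingCat.ofHom (exists_chartIso k).choose) ≫ j I₀.{u} (gen k)

instance (k : Bool) : IsOpenImmersion (q.{u} k) := by
  haveI : IsIso (CommRingCat.ofHom (exists_chartIso.{u} k).choose) :=
    (ConcreteCategory.isIso_iff_bijective _).2 (exists_chartIso k).choose_spec.1
  unfold q
  infer_instance

theorem q_π (k : Bool) : q.{u} k ≫ π I₀.{u} = Spec.map (CommRingCat.ofHom (φ k)) := by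
  rw [q, Category.assoc, j_π, ← Spec.map_comp, ← CommRingCat.ofHom_comp, (exists_chartIso k).choose_spec.2]

theorem opensRange_q (k : Bool) : (q.{u} k).opensRange = Proj.basicOpen (gr I₀.{u}) (T I₀.{u} (gen k)) := by
  haveI : IsIso (CommRingCat.ofHom (exists_chartIso.{u} k).choose) :=
    (ConcreteCategory.isIso_iff_bijective _).2 (exists_chartIso k).choose_spec.1
  exact (Scheme.Hom.opensRange_comp_of_isIso _ _).trans (opensRange_j _ _)

theorem exists_q (x : Bl.{u}) : ∃ k, x ∈ (q.{u} k).opensRange := by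
  by_contra hx
  simp only [not_exists, opensRange_q, Proj.mem_basicOpen, not_not] at hx
  obtain ⟨a, ha⟩ := Opens.mem_iSup.1 ((iSup_basicOpen I₀.{u}).ge (Set.mem_univ x))
  rw [Proj.mem_basicOpen] at ha
  refine ha ?_
  let L : I₀.{u} →ₗ[K₀.{u}] reesAlgebra I₀.{u} :=
    { toFun := T I₀.{u}
      map_add' := fun x y => Subtype.ext (by simp [coe_T])
      map_smul' := fun c x => Subtype.ext (by simp [coe_T, smul_monomial]) }
  obtain ⟨a, ha'⟩ := a
  suffices ∀ h : a ∈ I₀.{u}, L ⟨a, h⟩ ∈ x.asHomogeneousIdeal from this ha'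
  refine Submodule.span_induction (fun y hy _ => ?_) (fun _ => ?_) (fun y z hy hz h₁ h₂ _ => ?_)
    (fun c y hy h₁ _ => ?_) ha'
  · obtain ⟨⟨j⟩, rfl⟩ := hy
    exact hx j
  · rw [show (⟨0, _⟩ : I₀.{u}) = 0 from rfl, map_zero]
    exact zero_mem x.asHomogeneousIdeal.toIdeal
  · rw [show (⟨y + z, _⟩ : I₀.{u}) = ⟨y, hy⟩ + ⟨z, hz⟩ from rfl, map_add]
    exact Ideal.add_mem x.asHomogeneousIdeal.toIdeal (h₁ hy) (h₂ hz)
  · rw [show (⟨c • y, _⟩ : I₀.{u}) = c • ⟨y, hy⟩ from rfl, map_smul, Algebra.smul_def]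
    exact Ideal.mul_mem_left x.asHomogeneousIdeal.toIdeal _ (h₁ hy)

/-- The two charts agree where the coordinate is invertible. -/
theorem ev_q_eq {R : Type u} [CommRing R] (k : Bool) (f : Bool → R) (t t' : R) (h : t * f k = f (!k))
    (ht : t * t' = 1) :
    Spec.map (CommRingCat.ofHom (ev k f t)) ≫ q k = Spec.map (CommRingCat.ofHom (ev (!k) f t')) ≫ q (!k) := by
  let L := Localization.Away (MvPolynomial.X ⟨!k⟩ : K₀.{u})
  let α : K₀.{u} →+* L := algebraMap _ _
  let f₀ : Bool → L := fun j => α (φ k (MvPolynomial.X ⟨j⟩))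
  let t₀ : L := IsLocalization.Away.invSelf (MvPolynomial.X ⟨!k⟩ : K₀.{u})
  have ht₀ : α (MvPolynomial.X ⟨!k⟩) * t₀ = 1 := IsLocalization.Away.mul_invSelf _
  let β : K₀.{u} →+* L := ev (!k) f₀ t₀
  have hβ : β.comp (φ (!k)) = α.comp (φ k) := by
    rw [show β = ev (!k) f₀ t₀ from rfl, ev_comp_φ]
    · exact evalPair_eq (α.comp (φ k))
    · show t₀ * α (φ k (MvPolynomial.X ⟨!k⟩)) = α (φ k (MvPolynomial.X ⟨!!k⟩))
      rw [Bool.not_not, φ_self, φ_not, map_mul, mul_comm t₀, mul_assoc, ht₀, mul_one]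
  have hπ : Spec.map (CommRingCat.ofHom α) ≫ q k ≫ π I₀.{u} =
      Spec.map (CommRingCat.ofHom β) ≫ q (!k) ≫ π I₀.{u} := by
    rw [q_π, q_π, ← Spec.map_comp, ← Spec.map_comp, ← CommRingCat.ofHom_comp, ← CommRingCat.ofHom_comp, hβ]
  have hI : I₀.{u}.map (α.comp (φ k)) = Ideal.span {α (MvPolynomial.X ⟨k⟩)} := by
    refine le_antisymm (Ideal.map_le_iff_le_comap.2 fun x hx => ?_) (Ideal.span_le.2 ?_)
    · obtain ⟨c, hc⟩ := Ideal.mem_span_singleton'.1 (φ_mem_span k x hx)
      refine Ideal.mem_span_singleton'.2 ⟨α c, ?_⟩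
      rw [← map_mul, ← φ_self k]
      exact congrArg α hc
    · rintro _ rfl
      have := Ideal.mem_map_of_mem (α.comp (φ k)) (gen k).2
      simpa [gen] using this
  have hnz : α (MvPolynomial.X ⟨k⟩) ∈ nonZeroDivisors L :=
    IsLocalization.map_nonZeroDivisors_le (Submonoid.powers (MvPolynomial.X ⟨!k⟩ : K₀.{u})) L
      ⟨_, mem_nonZeroDivisors_of_ne_zero (MvPolynomial.X_ne_zero _), rfl⟩
  have hE : BlowUp.IsEffCartierIdeal ((centre I₀.{u}).comap
      (Spec.map (CommRingCat.ofHom α) ≫ q k ≫ π I₀.{u})) := by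
    rw [q_π, ← Spec.map_comp, ← CommRingCat.ofHom_comp]
    intro x
    refine ⟨⟨⊤, isAffineOpen_top _⟩, trivial, (Scheme.ΓSpecIso (CommRingCat.of L)).inv.hom
      (α (MvPolynomial.X ⟨k⟩)), ?_, ?_⟩
    · refine mem_nonZeroDivisors_iff_right.2 fun z hz => ?_
      obtain ⟨w, rfl⟩ := (ConcreteCategory.bijective_of_isIso (Scheme.ΓSpecIso (CommRingCat.of L)).inv).2 z
      have h0 : w * α (MvPolynomial.X ⟨k⟩) = 0 := by
        apply (ConcreteCategory.bijective_of_isIso (Scheme.ΓSpecIso (CommRingCat.of L)).inv).1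
        rw [map_mul, map_zero]; exact hz
      rw [mem_nonZeroDivisors_iff_right.1 hnz w h0]
      exact map_zero _
    · rw [ideal_centre_comap, CommRingCat.hom_ofHom, hI, Ideal.map_span, Set.image_singleton]
  have heq : Spec.map (CommRingCat.ofHom α) ≫ q k = Spec.map (CommRingCat.ofHom β) ≫ q (!k) := by
    obtain ⟨_, -, hu⟩ := (isBlowUp_π I₀.{u}).2 _ _ hE
    exact (hu _ (by simp)).trans (hu _ (by simp [hπ])).symm
  let lam : L →+* R := IsLocalization.Away.lift (MvPolynomial.X ⟨!k⟩ : K₀.{u}) (g := ev k f t)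
    (by rw [ev_not]; exact IsUnit.of_mul_eq_one t' ht)
  have hlα : ∀ x, lam (α x) = ev k f t x := fun x => IsLocalization.Away.lift_eq _ _ x
  have e1 : lam.comp α = ev k f t := RingHom.ext hlα
  have hlt : lam t₀ = t' := by
    have := congrArg lam ht₀
    rw [map_mul, hlα, ev_not, map_one] at this
    calc lam t₀ = (t * t') * lam t₀ := by rw [ht, one_mul]
      _ = t' * (t * lam t₀) := by ring
      _ = t' := by rw [this, mul_one]
  have e2 : lam.comp β = ev (!k) f t' := by
    refine ext_K₀ (forall_bool (!k) ?_ ?_)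
    · simp only [RingHom.comp_apply, β, ev_self, f₀, hlα, φ_not, map_mul, ev_not, ← h]
      exact mul_comm _ _
    · simp only [RingHom.comp_apply, β, ev_not, hlt]
  rw [← e1, ← e2, CommRingCat.ofHom_comp, CommRingCat.ofHom_comp, Spec.map_comp, Spec.map_comp, Category.assoc,
    Category.assoc, heq]

section Algebra

variable {A : Type u} [CommRing A]

theorem exists_split (p : A[T;T⁻¹]) : ∃ a b : A[X],
    p = Polynomial.toLaurent a + LaurentPolynomial.T (-1) * LaurentPolynomial.invert (Polynomial.toLaurent b) := by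
  induction p using LaurentPolynomial.induction_on' with
  | add p q hp hq =>
    obtain ⟨a, b, rfl⟩ := hp
    obtain ⟨a', b', rfl⟩ := hq
    exact ⟨a + a', b + b', by simp only [map_add, mul_add]; abel⟩
  | C_mul_T n r =>
    rcases n with n | n
    · exact ⟨Polynomial.C r * Polynomial.X ^ n, 0, by simp⟩
    · refine ⟨0, Polynomial.C r * Polynomial.X ^ n, ?_⟩
      rw [map_zero, zero_add, Polynomial.toLaurent_C_mul_X_pow, map_mul, LaurentPolynomial.invert_C,
        LaurentPolynomial.invert_T, mul_left_comm, ← LaurentPolynomial.T_add, Int.negSucc_eq]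
      congr 2
      ring

theorem eq_C_of_toLaurent {u v : A[X]}
    (h : Polynomial.toLaurent u = LaurentPolynomial.invert (Polynomial.toLaurent v)) :
    ∃ a, u = Polynomial.C a ∧ v = Polynomial.C a := by
  have key : ∀ v : A[X], LaurentPolynomial.trunc (LaurentPolynomial.invert (Polynomial.toLaurent v)) =
      Polynomial.C (v.coeff 0) := by
    intro v
    induction v using Polynomial.induction_on' with
    | add p q hp hq => rw [map_add, map_add, map_add, hp, hq, Polynomial.coeff_add, map_add]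
    | monomial n a =>
      rw [← Polynomial.C_mul_X_pow_eq_monomial, Polynomial.toLaurent_C_mul_X_pow, map_mul,
        LaurentPolynomial.invert_C, LaurentPolynomial.invert_T, LaurentPolynomial.trunc_C_mul_T]
      rcases n with _ | n
      · simp
      · rw [if_neg (by omega), Polynomial.coeff_C_mul_X_pow, if_neg (Nat.succ_ne_zero n).symm, map_zero]
  refine ⟨v.coeff 0, ?_, ?_⟩
  · rw [← key, ← h, Polynomial.trunc_toLaurent]
  · have h' : Polynomial.toLaurent v = LaurentPolynomial.invert (Polynomial.toLaurent u) := by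
      rw [h, ← LaurentPolynomial.invert_symm]
      exact ((LaurentPolynomial.invert (R := A)).symm_apply_apply _).symm
    have e : u = Polynomial.C (v.coeff 0) := by rw [← key, ← h, Polynomial.trunc_toLaurent]
    apply Polynomial.toLaurent_injective
    rw [h', e, Polynomial.toLaurent_C, LaurentPolynomial.invert_C]

/-- Elements vanishing in both charts have square zero. -/
theorem sq_eq_zero (a b x : A) (q r : A[X]) (hq : Polynomial.C x = (Polynomial.X * Polynomial.C a - Polynomial.C b) * q)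
    (hr : Polynomial.C x = (Polynomial.X * Polynomial.C b - Polynomial.C a) * r) : x ^ 2 = 0 := by
  have hq0 : x = -b * q.coeff 0 := by
    have := congrArg (fun p => p.coeff 0) hq
    simpa [sub_mul, mul_assoc] using this
  have hr0 : x = -a * r.coeff 0 := by
    have := congrArg (fun p => p.coeff 0) hr
    simpa [sub_mul, mul_assoc] using this
  have hqs : ∀ j, a * q.coeff j = b * q.coeff (j + 1) := fun j => by
    have := congrArg (fun p => p.coeff (j + 1)) hq
    simp [sub_mul, mul_assoc, Polynomial.coeff_C_ne_zero] at this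
    exact sub_eq_zero.1 this.symm
  have hrs : ∀ j, b * r.coeff j = a * r.coeff (j + 1) := fun j => by
    have := congrArg (fun p => p.coeff (j + 1)) hr
    simp [sub_mul, mul_assoc, Polynomial.coeff_C_ne_zero] at this
    exact sub_eq_zero.1 this.symm
  have hm : ∀ m, x ^ 2 = a ^ 2 * q.coeff (2 * m) * r.coeff (2 * m + 1) := by
    intro m
    induction m with
    | zero =>
      calc x ^ 2 = (-b * q.coeff 0) * (-a * r.coeff 0) := by rw [← hq0, ← hr0, sq]
        _ = a * q.coeff 0 * (b * r.coeff 0) := by ring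
        _ = a * q.coeff 0 * (a * r.coeff 1) := by rw [hrs]
        _ = _ := by ring
    | succ m ih =>
      rw [ih]
      calc a ^ 2 * q.coeff (2 * m) * r.coeff (2 * m + 1)
          = a * (a * q.coeff (2 * m)) * r.coeff (2 * m + 1) := by ring
        _ = a * q.coeff (2 * m + 1) * (b * r.coeff (2 * m + 1)) := by rw [hqs]; ring
        _ = a * q.coeff (2 * m + 1) * (a * r.coeff (2 * m + 2)) := by rw [hrs]
        _ = a * (a * q.coeff (2 * m + 1)) * r.coeff (2 * m + 2) := by ring
        _ = a * q.coeff (2 * m + 2) * (b * r.coeff (2 * m + 2)) := by rw [hqs]; ring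
        _ = a * q.coeff (2 * m + 2) * (a * r.coeff (2 * m + 3)) := by rw [hrs]
        _ = _ := by ring_nf
  rw [hm (q.natDegree + 1), Polynomial.coeff_eq_zero_of_natDegree_lt (by omega)]
  ring

end Algebra

end Groth.Agent.H18HTop.JhBlow
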