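import Groth.Agent.H18HTop.JhMilnor
import Groth.Prelude.Def_W4stkflatFrob

/-!
# Frobenius powers on Milnor squares; descent of global sections
-/

set_option autoImplicit false
set_option linter.style.haveILetI false
set_option backward.isDefEq.respectTransparency false

universe u

open CategoryTheory CategoryTheory.Limits AlgebraicGeometry Opposite HTop TopologicalSpace

namespace Groth.Agent.H18HTop.JhFrob

open JhAlmost JhMilnor

variable {p : ℕ} [Fact p.Prime]

theorem sub_pow_eq {A : Type u} [CommRing A] (hA : (p : A) = 0) (n : ℕ) (a b : A) :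
    (a - b) ^ p ^ n = a ^ p ^ n - b ^ p ^ n := by
  rcases subsingleton_or_nontrivial A with h | h
  · exact Subsingleton.elim _ _
  · haveI : CharP A p := (CharP.charP_iff_prime_eq_zero Fact.out).2 hA
    exact sub_pow_char_pow a b n

theorem pow_eq_pow {A : Type u} [CommRing A] (hA : (p : A) = 0) {N e : ℕ} (he : N ≤ p ^ e) {a b : A}
    (h : (a - b) ^ N = 0) : a ^ p ^ e = b ^ p ^ e := by
  rw [← sub_eq_zero, ← sub_pow_eq hA, pow_eq_zero_of_le he h]

theorem natCast_eq_zero {S : Scheme.{u}} (hS : (p : Γ(S, ⊤)) = 0) (X : Over S) : (p : Γ(X.left, ⊤)) = 0 := by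
  rw [← map_natCast X.hom.appTop.hom, hS, map_zero]

/-- Global sections descend along effective epimorphisms. -/
theorem existsUnique_desc {X Y : Scheme.{u}} (f : X ⟶ Y) [EffectiveEpi f] (a : Γ(X, ⊤))
    (h : ∀ {Z : Scheme.{u}} (g₁ g₂ : Z ⟶ X), g₁ ≫ f = g₂ ≫ f → g₁.appTop.hom a = g₂.appTop.hom a) :
    ∃! c, f.appTop.hom c = a := by
  let d := EffectiveEpi.desc f (toLine a) fun g₁ g₂ hg => by rw [comp_toLine, comp_toLine, h g₁ g₂ hg]
  let c := d.appTop.hom ((Scheme.ΓSpecIso _).inv.hom (MvPolynomial.X PUnit.unit))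
  have hc : f.appTop.hom c = a := by
    rw [← CommRingCat.comp_apply, ← Scheme.Hom.comp_appTop, EffectiveEpi.fac]
    exact toLine_appTop a
  refine ⟨c, hc, fun c' hc' => toLine_injective ?_⟩
  rw [← cancel_epi f, comp_toLine, comp_toLine, hc, hc']

/-- Sections glue along Zariski coverings. -/
theorem existsUnique_glue {X : Scheme.{u}} {R : Sieve X} (hR : R ∈ Scheme.zariskiTopology X)
    (a : ∀ ⦃Y : Scheme.{u}⦄ (g : Y ⟶ X), R.arrows g → Γ(Y, ⊤))
    (ha : ∀ ⦃Y Z : Scheme.{u}⦄ (g : Y ⟶ X) (hg : R.arrows g) (k : Z ⟶ Y),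
      a (k ≫ g) (R.downward_closed hg k) = k.appTop.hom (a g hg)) :
    ∃! c : Γ(X, ⊤), ∀ ⦃Y : Scheme.{u}⦄ (g : Y ⟶ X) (hg : R.arrows g), g.appTop.hom c = a g hg := by
  let L := yoneda.obj (Spec (CommRingCat.of (MvPolynomial PUnit.{u + 1} ℤ)))
  have hy' : Presieve.IsSheaf Scheme.zariskiTopology L :=
    GrothendieckTopology.Subcanonical.isSheaf_of_isRepresentable _
  have hy := hy' R hR
  let x : Presieve.FamilyOfElements L R.arrows := fun Y g hg => toLine (a g hg)
  have hx : x.Compatible := by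
    rw [Presieve.compatible_iff_sieveCompatible]
    intro Y Z g k hg
    show toLine (a (k ≫ g) _) = k ≫ toLine (a g hg)
    rw [comp_toLine, ha]
  obtain ⟨d, hd, hu⟩ := hy x hx
  let c : Γ(X, ⊤) := d.appTop.hom ((Scheme.ΓSpecIso _).inv.hom (MvPolynomial.X PUnit.unit))
  have hc : ∀ ⦃Y : Scheme.{u}⦄ (g : Y ⟶ X) (hg : R.arrows g), g.appTop.hom c = a g hg := fun Y g hg => by
    have : g ≫ d = toLine (a g hg) := hd g hg
    rw [← toLine_appTop (a g hg), ← this]
    rfl
  refine ⟨c, hc, fun c' hc' => toLine_injective ?_⟩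
  refine (hu _ fun Y g hg => ?_).trans (hu _ fun Y g hg => ?_).symm
  · show g ≫ toLine c' = toLine (a g hg)
    rw [comp_toLine, hc' g hg]
  · show g ≫ toLine c = toLine (a g hg)
    rw [comp_toLine, hc g hg]

variable (p)

/-- Compatible sequences form a Zariski sheaf on schemes. -/
def limFunctor : Scheme.{u}ᵒᵖ ⥤ Type u where
  obj X := FrobLimSections p X.unop
  map f := ↾fun a => FrobLimSections.map p f.unop a
  map_id X := by ext a n; simp
  map_comp f g := by ext a n; simp

theorem isSheaf_limFunctor : Presieve.IsSheaf Scheme.zariskiTopology (limFunctor.{u} p) := by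
  intro X R hR x hx
  have hx' := (Presieve.compatible_iff_sieveCompatible x).1 hx
  choose c hc hu using fun n => existsUnique_glue hR (fun Y g hg => (x g hg).1 n) fun Y Z g hg k => by
    rw [hx' g k hg]; rfl
  refine ⟨⟨c, fun n => hu n _ fun Y g hg => ?_⟩, fun Y g hg => ?_, fun d hd => ?_⟩
  · show g.appTop.hom (c (n + 1) ^ p) = _
    rw [map_pow, hc]
    exact (x g hg).2 n
  · exact FrobLimSections.ext fun n => hc n g hg
  · exact FrobLimSections.ext fun n => hu n _ fun Y g hg => congrArg (fun z => z.1 n) (hd g hg)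

theorem isSheaf_zariski_lim (S : Scheme.{u}) :
    Presieve.IsSheaf (Scheme.zariskiTopology.over S) (frobLimPresheaf p S) :=
  Functor.op_comp_isSheaf_of_types (F := Over.forget S) (Scheme.zariskiTopology.over S) Scheme.zariskiTopology
    ⟨limFunctor p, (isSheaf_iff_isSheaf_of_type _ _).2 (isSheaf_limFunctor p)⟩

theorem flatDescent_lim (S : Scheme.{u}) : FlatDescent (frobLimPresheaf p S) := by
  intro X Y f _ hs hfl hpr _
  haveI := hs; haveI := hfl; haveI := hpr
  rw [Presieve.isSheafFor_singleton]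
  intro x hx
  choose c hc hu using fun n => existsUnique_desc f.left (x.1 n) fun {Z} g₁ g₂ hg => by
    have hw : g₂ ≫ X.hom = g₁ ≫ X.hom := by rw [← Over.w f, ← Category.assoc, ← hg, Category.assoc]
    exact congrArg (fun z => z.1 n) (hx (Over.homMk g₁ rfl : Over.mk (g₁ ≫ X.hom) ⟶ X) (Over.homMk g₂ hw)
      (Over.OverMorphism.ext hg))
  refine ⟨⟨c, fun n => hu n _ ?_⟩, FrobLimSections.ext fun n => hc n, fun d hd => ?_⟩
  · show f.left.appTop.hom _ = _
    rw [map_pow, hc]
    exact x.2 n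
  · exact FrobLimSections.ext fun n => hu n _ (congrArg (fun z => z.1 n) hd)

theorem milnorCondition_lim (S : Scheme.{u}) (hS : (p : Γ(S, ⊤)) = 0) :
    MilnorCondition (frobLimPresheaf p S) := by
  intro E Z X' X e π b i _ _ _ hsq ⟨hsur, N, hN⟩ t s' hts
  have hA := natCast_eq_zero hS X
  obtain ⟨k, hk⟩ : ∃ k, N ≤ p ^ k := ⟨N, (Nat.lt_pow_self (Fact.out : p.Prime).one_lt).le⟩
  choose a ha₁ ha₂ using fun n => hsur (t.1 n) (s'.1 n) (congrArg (fun z => z.1 n) hts)
  have heq : ∀ a b' : Γ(X.left, ⊤), i.left.appTop.hom a = i.left.appTop.hom b' →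
      b.left.appTop.hom a = b.left.appTop.hom b' → a ^ p ^ k = b' ^ p ^ k := fun a b' h₁ h₂ =>
    pow_eq_pow hA hk (hN _ (by rw [map_sub, h₁, sub_self]) (by rw [map_sub, h₂, sub_self]))
  let d : FrobLimSections p X.left := ⟨fun n => a (n + k) ^ p ^ k, fun n => by
    rw [← pow_mul, mul_comm, pow_mul]
    refine heq _ _ ?_ ?_
    · rw [map_pow, ha₁, ha₁, show n + 1 + k = n + k + 1 by omega, t.2]
    · rw [map_pow, ha₂, ha₂, show n + 1 + k = n + k + 1 by omega, s'.2]⟩
  have hpow : ∀ {W : Scheme.{u}} (z : FrobLimSections p W) (n m : ℕ), z.1 (n + m) ^ p ^ m = z.1 n := by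
    intro W z n m
    induction m with
    | zero => simp
    | succ m ih => rw [pow_succ', pow_mul, ← add_assoc, z.2, ih]
  refine ⟨d, ⟨FrobLimSections.ext fun n => ?_, FrobLimSections.ext fun n => ?_⟩, fun d' hd' => ?_⟩
  · show i.left.appTop.hom (a (n + k) ^ p ^ k) = t.1 n
    rw [map_pow, ha₁, hpow]
  · show b.left.appTop.hom (a (n + k) ^ p ^ k) = s'.1 n
    rw [map_pow, ha₂, hpow]
  · refine FrobLimSections.ext fun n => ?_
    show d'.1 n = a (n + k) ^ p ^ k
    rw [← hpow d' n k]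
    refine heq _ _ ?_ ?_
    · rw [ha₁]; exact congrArg (fun z => z.1 (n + k)) hd'.1
    · rw [ha₂]; exact congrArg (fun z => z.1 (n + k)) hd'.2

end Groth.Agent.H18HTop.JhFrob
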