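import Groth.Agent.H18HTop.JhFrob
import Groth.Prelude.Def_W4stkflatp2Frob
import Groth.Prelude.Def_QuotSh

/-!
# The h sheaf of global sections up to `p`-th powers
-/

set_option autoImplicit false
set_option linter.style.haveILetI false
set_option backward.isDefEq.respectTransparency false

universe u

open CategoryTheory CategoryTheory.Limits AlgebraicGeometry Opposite HTop TopologicalSpace

namespace Groth.Agent.H18HTop.JhFrobColim

open JhAlmost JhMilnor JhFrob

variable {p : ℕ}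

theorem mk_lift {X : Scheme.{u}} (n k : ℕ) (a : Γ(X, ⊤)) :
    FrobColimSections.mk p n a = FrobColimSections.mk p (n + k) (a ^ p ^ k) := by
  induction k with
  | zero => simp
  | succ k ih =>
    rw [ih, FrobColimSections.sound p (n + k)]
    congr 1
    rw [← pow_mul, pow_succ]

theorem exists_level {X : Scheme.{u}} (x : FrobColimSections p X) :
    ∃ n, ∀ N, n ≤ N → ∃ a, x = FrobColimSections.mk p N a := by
  obtain ⟨⟨n, a⟩, rfl⟩ := Quot.exists_rep x
  refine ⟨n, fun N hN => ⟨a ^ p ^ (N - n), ?_⟩⟩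
  have := mk_lift (p := p) n (N - n) a
  rwa [Nat.add_sub_cancel' hN] at this

theorem exists_level_fin {n : ℕ} {X : Fin n → Scheme.{u}} (x : ∀ c, FrobColimSections p (X c)) :
    ∃ N, ∀ c, ∃ a, x c = FrobColimSections.mk p N a := by
  choose m hm using fun c => exists_level (x c)
  exact ⟨∑ c, m c, fun c => hm c _ (Finset.single_le_sum (fun _ _ => Nat.zero_le _) (Finset.mem_univ c))⟩

theorem exists_pow_eq {X : Scheme.{u}} {n : ℕ} {a b : Γ(X, ⊤)}
    (h : FrobColimSections.mk p n a = FrobColimSections.mk p n b) : ∃ k, a ^ p ^ k = b ^ p ^ k := by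
  let R : ℕ × Γ(X, ⊤) → ℕ × Γ(X, ⊤) → Prop := fun x y =>
    ∃ i j, x.1 + i = y.1 + j ∧ x.2 ^ p ^ i = y.2 ^ p ^ j
  suffices key : ∀ x y, Relation.EqvGen (FrobColimRel p X) x y → R x y by
    obtain ⟨i, j, hij, he⟩ := key _ _ (Quot.eqvGen_exact h)
    obtain rfl : i = j := by simpa using hij
    exact ⟨i, he⟩
  intro x y hxy
  induction hxy with
  | rel x y h => exact ⟨1, 0, by rw [h], by rw [h]; simp⟩
  | refl x => exact ⟨0, 0, rfl, rfl⟩
  | symm x y _ ih => obtain ⟨i, j, h₁, h₂⟩ := ih; exact ⟨j, i, h₁.symm, h₂.symm⟩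
  | trans x y z _ _ ih₁ ih₂ =>
    obtain ⟨i, j, h₁, h₂⟩ := ih₁
    obtain ⟨i', j', h₁', h₂'⟩ := ih₂
    refine ⟨i + i', j' + j, by omega, ?_⟩
    rw [pow_add, pow_mul, h₂, ← pow_mul, ← pow_add, add_comm j i', pow_add, pow_mul, h₂', ← pow_mul, ← pow_add]

theorem pow_eq_of_le {A : Type u} [CommRing A] {a b : A} {k K : ℕ} (h : a ^ p ^ k = b ^ p ^ k) (hK : k ≤ K) :
    a ^ p ^ K = b ^ p ^ K := by
  rw [← Nat.add_sub_cancel' hK, pow_add, pow_mul, pow_mul, h]

variable (p) (S : Scheme.{u})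

/-- The presheaf, lifted one universe. -/
abbrev P : (Over S)ᵒᵖ ⥤ Type (u + 1) := frobColimPresheaf p S ⋙ uliftFunctor.{u + 1, u}

/-- The Zariski sheafification. -/
noncomputable abbrev G : (Over S)ᵒᵖ ⥤ Type (u + 1) := (QuotSh.J Scheme.zariskiPrecoverage S).sheafify (P p S)

variable {S}

/-- The class in the sheaf of a section in some degree. -/
noncomputable def cls (X : Over S) (n : ℕ) (a : Γ(X.left, ⊤)) : (G p S).obj (op X) :=
  ((QuotSh.J Scheme.zariskiPrecoverage S).toSheafify (P p S)).app (op X) ⟨FrobColimSections.mk p n a⟩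

theorem cls_lift (X : Over S) (n k : ℕ) (a : Γ(X.left, ⊤)) : cls p X n a = cls p X (n + k) (a ^ p ^ k) := by
  unfold cls
  rw [mk_lift n k a]

theorem map_cls {X Y : Over S} (f : X ⟶ Y) (n : ℕ) (a : Γ(Y.left, ⊤)) :
    (G p S).map f.op (cls p Y n a) = cls p X n (f.left.appTop.hom a) :=
  (NatTrans.naturality_apply ((QuotSh.J Scheme.zariskiPrecoverage S).toSheafify (P p S)) f.op _).symm

theorem isSheaf_G : Presieve.IsSheaf (Scheme.zariskiTopology.over S) (G p S) :=
  (isSheaf_iff_isSheaf_of_type _ _).1 ((QuotSh.J Scheme.zariskiPrecoverage S).sheafify_isSheaf (P p S))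

/-- A covering of a quasi-compact scheme contains finitely many affine opens covering it. -/
theorem exists_finite_opens {X : Over S} [CompactSpace X.left] {R : Sieve X}
    (hR : R ∈ Scheme.zariskiTopology.over S X) :
    ∃ (n : ℕ) (V : Fin n → X.left.Opens), (∀ c, IsAffineOpen (V c)) ∧ (∀ x : X.left, ∃ c, x ∈ V c) ∧
      ∀ c, R.arrows (Over.homMk (V c).ι : Over.mk ((V c).ι ≫ X.hom) ⟶ X) := by
  rw [GrothendieckTopology.mem_over_iff, Scheme.zariskiTopology_eq] at hR
  obtain ⟨T, hT, hle⟩ := hR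
  obtain ⟨(𝒰 : X.left.OpenCover), rfl⟩ := Scheme.exists_cover_of_mem_pretopology hT
  have h : ∀ x : X.left, ∃ V : X.left.Opens, IsAffineOpen V ∧ x ∈ V ∧
      R.arrows (Over.homMk V.ι : Over.mk (V.ι ≫ X.hom) ⟶ X) := fun x => by
    obtain ⟨c, y, rfl⟩ := 𝒰.exists_eq x
    haveI : IsOpenImmersion (𝒰.f c) := 𝒰.map_prop c
    obtain ⟨V, hV, hxV, hle'⟩ := exists_isAffineOpen_mem_and_subset (U := (𝒰.f c).opensRange) (x := 𝒰.f c y) ⟨y, rfl⟩
    refine ⟨V, hV, hxV, ?_⟩
    have hr : Set.range V.ι ⊆ Set.range (𝒰.f c) := by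
      rw [Scheme.Opens.range_ι]; exact hle'
    have h1 := hle _ _ (Presieve.ofArrows.mk c)
    have h2 := (Sieve.overEquiv X R).downward_closed h1 (IsOpenImmersion.lift (𝒰.f c) V.ι hr)
    rw [IsOpenImmersion.lift_fac] at h2
    rw [Sieve.overEquiv_iff] at h2
    exact h2
  choose V hVa hxV hVR using h
  obtain ⟨s, hs⟩ := isCompact_univ.elim_finite_subcover (fun x : X.left => (V x : Set X.left))
    (fun x => (V x).2) fun x _ => Set.mem_iUnion.2 ⟨x, hxV x⟩
  let e := s.equivFin.symm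
  refine ⟨s.card, fun c => V (e c).1, fun c => hVa _, fun x => ?_, fun c => hVR _⟩
  obtain ⟨y, hy, hxy⟩ := Set.mem_iUnion₂.1 (hs (Set.mem_univ x))
  exact ⟨e.symm ⟨y, hy⟩, by show x ∈ V (e (e.symm _)).1; rw [e.apply_symm_apply]; exact hxy⟩

theorem cls_injective {X : Over S} [CompactSpace X.left] {n : ℕ} {a b : Γ(X.left, ⊤)}
    (h : cls p X n a = cls p X n b) : ∃ k, a ^ p ^ k = b ^ p ^ k := by
  have hR := Presheaf.equalizerSieve_mem (QuotSh.J Scheme.zariskiPrecoverage S)
    ((QuotSh.J Scheme.zariskiPrecoverage S).toSheafify (P p S))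
    (X := op X) ⟨FrobColimSections.mk p n a⟩ ⟨FrobColimSections.mk p n b⟩ h
  obtain ⟨m, V, -, hcov, hV⟩ := exists_finite_opens hR
  choose k hk using fun c => exists_pow_eq
    (show FrobColimSections.mk p n ((V c).ι.appTop.hom a) = FrobColimSections.mk p n ((V c).ι.appTop.hom b) from
      congrArg ULift.down (hV c))
  refine ⟨∑ c, k c, eq_of_cover (fun c : ULift.{u} (Fin m) => (V c.down).ι) (fun x => ?_) fun c => ?_⟩
  · obtain ⟨c, hc⟩ := hcov x
    exact ⟨⟨c⟩, by rw [Scheme.Opens.opensRange_ι]; exact hc⟩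
  · rw [map_pow, map_pow]
    exact pow_eq_of_le (hk c.down) (Finset.single_le_sum (fun _ _ => Nat.zero_le _) (Finset.mem_univ c.down))

theorem cls_surjective {X : Over S} [CompactSpace X.left] [QuasiSeparatedSpace X.left]
    (s : (G p S).obj (op X)) : ∃ n, ∀ N, n ≤ N → ∃ a, s = cls p X N a := by
  have hR := Presheaf.imageSieve_mem (QuotSh.J Scheme.zariskiPrecoverage S)
    ((QuotSh.J Scheme.zariskiPrecoverage S).toSheafify (P p S)) (U := op X) s
  obtain ⟨m, V, hVa, hcov, hV⟩ := exists_finite_opens hR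
  choose t ht using hV
  obtain ⟨N, hN⟩ := exists_level_fin fun c => (t c).down
  choose a ha using hN
  have hs : ∀ c, (G p S).map (Over.homMk (V c).ι : Over.mk ((V c).ι ≫ X.hom) ⟶ X).op s =
      cls p (Over.mk ((V c).ι ≫ X.hom)) N (a c) := fun c => by
    unfold cls
    rw [← ha c]
    exact (ht c).symm
  have hov : ∀ c d, ∃ k, (pullback.fst (V c).ι (V d).ι).appTop.hom (a c) ^ p ^ k =
      (pullback.snd (V c).ι (V d).ι).appTop.hom (a d) ^ p ^ k := fun c d => by
    haveI : IsAffine ((V c) : Scheme.{u}) := hVa c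
    haveI : IsAffine ((V d) : Scheme.{u}) := hVa d
    haveI : CompactSpace (pullback (V c).ι (V d).ι : Scheme.{u}) :=
      QuasiCompact.compactSpace_of_compactSpace (pullback.fst (V c).ι (V d).ι)
    let W : Over S := Over.mk (pullback.fst (V c).ι (V d).ι ≫ (V c).ι ≫ X.hom)
    haveI : CompactSpace W.left := ‹CompactSpace (pullback (V c).ι (V d).ι : Scheme.{u})›
    let g₁ : W ⟶ Over.mk ((V c).ι ≫ X.hom) := Over.homMk (pullback.fst (V c).ι (V d).ι) rfl
    let g₂ : W ⟶ Over.mk ((V d).ι ≫ X.hom) := Over.homMk (pullback.snd (V c).ι (V d).ι) (by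
      show _ ≫ (V d).ι ≫ X.hom = pullback.fst _ _ ≫ (V c).ι ≫ X.hom
      rw [pullback.condition_assoc])
    refine cls_injective p (X := W) (n := N) ?_
    have e := congrArg (fun g => (G p S).map g.op s)
      (show g₁ ≫ Over.homMk (V c).ι = g₂ ≫ Over.homMk (V d).ι from Over.OverMorphism.ext pullback.condition)
    simp only [op_comp, FunctorToTypes.map_comp_apply, hs] at e
    rw [map_cls, map_cls] at e
    exact e
  choose k hk using hov
  let K := ∑ c, ∑ d, k c d
  have hK : ∀ c d, k c d ≤ K := fun c d =>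
    (Finset.single_le_sum (f := k c) (fun _ _ => Nat.zero_le _) (Finset.mem_univ d)).trans
      (Finset.single_le_sum (f := fun c => ∑ d, k c d) (fun _ _ => Nat.zero_le _) (Finset.mem_univ c))
  let 𝒰 : X.left.OpenCover :=
    { I₀ := ULift.{u} (Fin m)
      X := fun c => V c.down
      f := fun c => (V c.down).ι
      mem₀ := by
        rw [Scheme.presieve₀_mem_precoverage_iff]
        refine ⟨fun x => ?_, fun c => inferInstance⟩
        obtain ⟨c, hc⟩ := hcov x
        exact ⟨⟨c⟩, ⟨x, hc⟩, rfl⟩ }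
  let d := 𝒰.glueMorphisms (fun c => toLine (a c.down ^ p ^ K)) fun c e => by
    show pullback.fst (V c.down).ι (V e.down).ι ≫ toLine _ = pullback.snd (V c.down).ι (V e.down).ι ≫ toLine _
    rw [comp_toLine, comp_toLine, map_pow, map_pow, pow_eq_of_le (hk c.down e.down) (hK _ _)]
  let A : Γ(X.left, ⊤) := d.appTop.hom ((Scheme.ΓSpecIso _).inv.hom (MvPolynomial.X PUnit.unit))
  have hA : ∀ c, (V c).ι.appTop.hom A = a c ^ p ^ K := fun c => by
    rw [← toLine_appTop (a c ^ p ^ K), ← 𝒰.ι_glueMorphisms (fun c => toLine (a c.down ^ p ^ K)) _ ⟨c⟩]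
    rfl
  refine ⟨N + K, fun M hM => ⟨A ^ p ^ (M - (N + K)), ?_⟩⟩
  have := cls_lift p X (N + K) (M - (N + K)) A
  rw [Nat.add_sub_cancel' hM] at this
  rw [← this]
  -- compare on the finite cover
  have key : ∀ c, (G p S).map (Over.homMk (V c).ι : Over.mk ((V c).ι ≫ X.hom) ⟶ X).op s =
      (G p S).map (Over.homMk (V c).ι : Over.mk ((V c).ι ≫ X.hom) ⟶ X).op (cls p X (N + K) A) := fun c => by
    rw [hs, map_cls, cls_lift p _ N K]
    exact congrArg _ (hA c).symm
  have hm : Sieve.generate (Presieve.ofArrows _ fun c : ULift.{u} (Fin m) =>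
      (Over.homMk (V c.down).ι : Over.mk ((V c.down).ι ≫ X.hom) ⟶ X)) ∈ Scheme.zariskiTopology.over S X := by
    rw [GrothendieckTopology.mem_over_iff]
    refine GrothendieckTopology.superset_covering _ ?_ (Precoverage.generate_mem_toGrothendieck 𝒰.mem₀)
    rw [Sieve.generate_le_iff]
    intro T q hq
    obtain ⟨c⟩ := hq
    rw [Sieve.overEquiv_iff]
    exact Sieve.le_generate _ _ _ (Presieve.ofArrows.mk c)
  have hsc : s = cls p X (N + K) A := by
    refine ((isSheaf_G p) _ hm).isSeparatedFor.ext fun Y g hg => ?_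
    obtain ⟨_, r, _, ⟨c⟩, rfl⟩ := hg
    simp only [op_comp, FunctorToTypes.map_comp_apply, key]
  rw [hsc]

theorem bijective_toSheafify (X : Over S) [CompactSpace X.left] [QuasiSeparatedSpace X.left] :
    Function.Bijective (((QuotSh.J Scheme.zariskiPrecoverage S).toSheafify (P p S)).app (op X)) := by
  refine ⟨fun x y hxy => ?_, fun s => ?_⟩
  · obtain ⟨x⟩ := x
    obtain ⟨y⟩ := y
    obtain ⟨n, hn⟩ := exists_level x
    obtain ⟨m, hm⟩ := exists_level y
    obtain ⟨a, rfl⟩ := hn (n + m) (Nat.le_add_right _ _)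
    obtain ⟨b, rfl⟩ := hm (n + m) (Nat.le_add_left _ _)
    obtain ⟨k, hk⟩ := cls_injective p (X := X) hxy
    exact congrArg ULift.up (by rw [mk_lift _ k a, mk_lift _ k b, hk])
  · obtain ⟨n, hn⟩ := cls_surjective p s
    obtain ⟨a, rfl⟩ := hn n le_rfl
    exact ⟨_, rfl⟩

theorem flatDescent_colim : FlatDescent (G p S) := by
  intro X Y f hY hs hfl hpr _
  haveI := hY; haveI := hs; haveI := hfl; haveI := hpr
  haveI : CompactSpace X.left := QuasiCompact.compactSpace_of_compactSpace f.left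
  haveI : QuasiSeparatedSpace X.left := quasiSeparatedSpace_of_quasiSeparated f.left
  rw [Presieve.isSheafFor_singleton]
  intro x hx
  obtain ⟨n, hn⟩ := cls_surjective p x
  obtain ⟨a, rfl⟩ := hn n le_rfl
  let Z : Over S := Over.mk (pullback.fst f.left f.left ≫ X.hom)
  haveI : CompactSpace Z.left := QuasiCompact.compactSpace_of_compactSpace (pullback.fst f.left f.left)
  let q₁ : Z ⟶ X := Over.homMk (pullback.fst f.left f.left) rfl
  let q₂ : Z ⟶ X := Over.homMk (pullback.snd f.left f.left) (by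
    show pullback.snd f.left f.left ≫ X.hom = pullback.fst f.left f.left ≫ X.hom
    rw [← Over.w f, pullback.condition_assoc])
  have e := hx q₁ q₂ (Over.OverMorphism.ext pullback.condition)
  rw [map_cls, map_cls] at e
  obtain ⟨k, hk⟩ := cls_injective p e
  obtain ⟨c, hc, hu⟩ := existsUnique_desc f.left (a ^ p ^ k) fun g₁ g₂ hg => by
    rw [← pullback.lift_fst g₁ g₂ hg, Scheme.Hom.comp_appTop, CommRingCat.comp_apply, map_pow]
    conv_rhs => rw [← pullback.lift_snd g₁ g₂ hg, Scheme.Hom.comp_appTop, CommRingCat.comp_apply, map_pow]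
    exact congrArg _ hk
  refine ⟨cls p Y (n + k) c, ?_, fun y hy => ?_⟩
  · show (G p S).map f.op _ = _
    rw [map_cls, hc, ← cls_lift]
  obtain ⟨m, hm⟩ := cls_surjective p y
  obtain ⟨b, rfl⟩ := hm (n + k + m) (Nat.le_add_left _ _)
  replace hy : (G p S).map f.op (cls p Y (n + k + m) b) = cls p X n a := hy
  rw [map_cls, cls_lift p X n (k + m), ← add_assoc] at hy
  obtain ⟨l, hl⟩ := cls_injective p hy
  rw [cls_lift p Y (n + k + m) l b, cls_lift p Y (n + k) m c, cls_lift p Y (n + k + m) l (c ^ p ^ m)]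
  refine congrArg _ (toLine_injective ?_)
  rw [← cancel_epi f.left, comp_toLine, comp_toLine]
  refine congrArg toLine ?_
  rw [map_pow, map_pow, map_pow, hl, hc, ← pow_mul, ← pow_mul, ← pow_mul, pow_add, mul_assoc]

variable [Fact p.Prime]

theorem milnorCondition_colim (hS : (p : Γ(S, ⊤)) = 0) : MilnorCondition (G p S) := by
  intro E Z X' X e π b i hX hi hb hpb ⟨hsur, N, hN⟩ t s' hts
  haveI := hX; haveI := hi; haveI := hb
  haveI : IsClosedImmersion e.left := MorphismProperty.of_isPullback hpb.flip hi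
  haveI : CompactSpace Z.left := QuasiCompact.compactSpace_of_compactSpace i.left
  haveI : QuasiSeparatedSpace Z.left := quasiSeparatedSpace_of_quasiSeparated i.left
  haveI : CompactSpace X'.left := QuasiCompact.compactSpace_of_compactSpace b.left
  haveI : QuasiSeparatedSpace X'.left := quasiSeparatedSpace_of_quasiSeparated b.left
  haveI : CompactSpace E.left := QuasiCompact.compactSpace_of_compactSpace e.left
  have hA := natCast_eq_zero hS X
  obtain ⟨q, hq⟩ : ∃ q, N ≤ p ^ q := ⟨N, (Nat.lt_pow_self (Fact.out : p.Prime).one_lt).le⟩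
  have heq : ∀ a b' : Γ(X.left, ⊤), i.left.appTop.hom a = i.left.appTop.hom b' →
      b.left.appTop.hom a = b.left.appTop.hom b' → a ^ p ^ q = b' ^ p ^ q := fun a b' h₁ h₂ =>
    pow_eq_pow hA hq (hN _ (by rw [map_sub, h₁, sub_self]) (by rw [map_sub, h₂, sub_self]))
  obtain ⟨n, hn⟩ := cls_surjective p t
  obtain ⟨m, hm⟩ := cls_surjective p s'
  obtain ⟨c, rfl⟩ := hn (n + m) (Nat.le_add_right _ _)
  obtain ⟨s, rfl⟩ := hm (n + m) (Nat.le_add_left _ _)
  rw [map_cls, map_cls] at hts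
  obtain ⟨k, hk⟩ := cls_injective p hts
  obtain ⟨a, ha₁, ha₂⟩ := hsur (c ^ p ^ k) (s ^ p ^ k) (by rw [map_pow, map_pow, hk])
  refine ⟨cls p X (n + m + k) a, ⟨?_, ?_⟩, fun y hy => ?_⟩
  · rw [map_cls, ha₁, ← cls_lift]
  · rw [map_cls, ha₂, ← cls_lift]
  obtain ⟨l, hl⟩ := cls_surjective p y
  obtain ⟨a', rfl⟩ := hl (n + m + k + l) (Nat.le_add_left _ _)
  obtain ⟨hy₁, hy₂⟩ := hy
  rw [map_cls, cls_lift p _ (n + m) (k + l), ← add_assoc] at hy₁ hy₂
  obtain ⟨l₁, hl₁⟩ := cls_injective p hy₁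
  obtain ⟨l₂, hl₂⟩ := cls_injective p hy₂
  rw [cls_lift p X (n + m + k) l a, cls_lift p X (n + m + k + l) (l₁ + l₂ + q) a',
    cls_lift p X (n + m + k + l) (l₁ + l₂ + q) (a ^ p ^ l)]
  refine congrArg _ ?_
  rw [pow_add p (l₁ + l₂) q, pow_mul a', pow_mul (a ^ p ^ l)]
  refine heq _ _ ?_ ?_
  · rw [map_pow, map_pow, map_pow, ha₁, ← pow_mul c, ← pow_add p k l]
    exact pow_eq_of_le hl₁ (Nat.le_add_right _ _)
  · rw [map_pow, map_pow, map_pow, ha₂, ← pow_mul s, ← pow_add p k l]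
    exact pow_eq_of_le hl₂ (Nat.le_add_left _ _)

end Groth.Agent.H18HTop.JhFrobColim
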