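import Groth.Agent.H18HTop.JhBlow
import Groth.Agent.H18HTop.JhTwo
import Groth.Agent.H7Lim.IdealSystem

/-!
# h sheaves from Milnor squares up to nilpotents of bounded exponent
-/

set_option autoImplicit false
set_option linter.style.haveILetI false
set_option backward.isDefEq.respectTransparency false

universe w u

open CategoryTheory CategoryTheory.Limits AlgebraicGeometry Opposite HTop TopologicalSpace Polynomial
open scoped LaurentPolynomial

namespace Groth.Agent.H18HTop.JhMilnor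

open JhAlmost JhTwo JhBlow

/-- A square whose global sections form a fibre product up to nilpotents of bounded exponent. -/
def IsMilnor {E Z X' X : Scheme.{u}} (e : E ⟶ X') (π : E ⟶ Z) (b : X' ⟶ X) (i : Z ⟶ X) : Prop :=
  (∀ (c : Γ(Z, ⊤)) (s : Γ(X', ⊤)), π.appTop.hom c = e.appTop.hom s →
    ∃ a, i.appTop.hom a = c ∧ b.appTop.hom a = s) ∧
  ∃ N, ∀ a, i.appTop.hom a = 0 → b.appTop.hom a = 0 → a ^ N = 0

section Gamma

/-- The morphism to the affine line attached to a global section. -/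
noncomputable def toLine {X : Scheme.{u}} (a : Γ(X, ⊤)) :
    X ⟶ Spec (CommRingCat.of (MvPolynomial PUnit.{u + 1} ℤ)) :=
  X.toSpecΓ ≫ Spec.map (CommRingCat.ofHom (MvPolynomial.eval₂Hom (Int.castRingHom Γ(X, ⊤)) fun _ => a))

theorem toLine_appTop {X : Scheme.{u}} (a : Γ(X, ⊤)) :
    (toLine a).appTop.hom ((Scheme.ΓSpecIso _).inv.hom (MvPolynomial.X PUnit.unit)) = a := by
  let ε : CommRingCat.of (MvPolynomial PUnit.{u + 1} ℤ) ⟶ Γ(X, ⊤) :=
    CommRingCat.ofHom (MvPolynomial.eval₂Hom (Int.castRingHom Γ(X, ⊤)) fun _ => a)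
  have h : (Scheme.ΓSpecIso _).inv ≫ (toLine a).appTop = ε := by
    rw [toLine, Scheme.Hom.comp_appTop, Scheme.toSpecΓ_appTop, ← Scheme.ΓSpecIso_inv_naturality_assoc,
      Iso.inv_hom_id, Category.comp_id]
  exact (RingHom.congr_fun (congrArg CommRingCat.Hom.hom h) _).trans (MvPolynomial.eval₂Hom_X' _ _ _)

theorem toLine_injective {X : Scheme.{u}} {a b : Γ(X, ⊤)} (h : toLine a = toLine b) : a = b := by
  rw [← toLine_appTop a, h, toLine_appTop]

theorem comp_toLine {X Y : Scheme.{u}} (g : X ⟶ Y) (a : Γ(Y, ⊤)) : g ≫ toLine a = toLine (g.appTop.hom a) := by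
  rw [toLine, Scheme.toSpecΓ_naturality_assoc, ← Spec.map_comp, toLine]
  congr 2
  refine CommRingCat.hom_ext (MvPolynomial.ringHom_ext (fun n => ?_) fun _ => ?_)
  · simp
  · simp

/-- Global sections are determined on a jointly surjective family of open immersions. -/
theorem eq_of_cover {X : Scheme.{u}} {ι : Type u} {U : ι → Scheme.{u}} (g : ∀ c, U c ⟶ X)
    [∀ c, IsOpenImmersion (g c)] (hg : ∀ x : X, ∃ c, x ∈ (g c).opensRange) {a b : Γ(X, ⊤)}
    (h : ∀ c, (g c).appTop.hom a = (g c).appTop.hom b) : a = b := by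
  let 𝒰 : X.OpenCover :=
    { I₀ := ι
      X := U
      f := g
      mem₀ := by
        rw [Scheme.presieve₀_mem_precoverage_iff]
        exact ⟨fun x => hg x, fun c => inferInstance⟩ }
  refine toLine_injective (Scheme.Cover.hom_ext 𝒰 _ _ fun c => ?_)
  show g c ≫ toLine a = g c ≫ toLine b
  rw [comp_toLine, comp_toLine, h c]

end Gamma

section Point

variable {X : Scheme.{u}} [IsAffine X] {R : Type u} [CommRing R]

/-- The point of an affine scheme attached to a ring map. -/
noncomputable def pointA (ρ : Γ(X, ⊤) →+* R) : Spec (CommRingCat.of R) ⟶ X :=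
  Spec.map (CommRingCat.ofHom ρ) ≫ X.isoSpec.inv

theorem pointA_appTop (ρ : Γ(X, ⊤) →+* R) (a : Γ(X, ⊤)) :
    (pointA ρ).appTop.hom a = (Scheme.ΓSpecIso (CommRingCat.of R)).inv.hom (ρ a) := by
  have e : X.isoSpec.inv.appTop = (Scheme.ΓSpecIso Γ(X, ⊤)).inv := by
    rw [← cancel_epi X.isoSpec.hom.appTop, ← Scheme.Hom.comp_appTop, Iso.inv_hom_id, Scheme.Hom.id_appTop,
      Scheme.isoSpec_hom, Scheme.toSpecΓ_appTop, Iso.hom_inv_id]
  have h : (pointA ρ).appTop = CommRingCat.ofHom ρ ≫ (Scheme.ΓSpecIso (CommRingCat.of R)).inv := by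
    rw [pointA, Scheme.Hom.comp_appTop, e]
    exact (Scheme.ΓSpecIso_inv_naturality (CommRingCat.ofHom ρ)).symm
  exact RingHom.congr_fun (congrArg CommRingCat.Hom.hom h) a

theorem map_pointA {R' : Type u} [CommRing R'] (ρ : Γ(X, ⊤) →+* R) (ψ : R →+* R') :
    Spec.map (CommRingCat.ofHom ψ) ≫ pointA ρ = pointA (ψ.comp ρ) := by
  rw [pointA, pointA, ← Category.assoc, ← Spec.map_comp, ← CommRingCat.ofHom_comp]

end Point

section Blow

variable {P X : Scheme.{u}} [IsAffine X] {gB : P ⟶ Bl.{u}} {b : P ⟶ X}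
  {c₀ : X ⟶ Spec (CommRingCat.of K₀.{u})}

variable (c₀) in
/-- The two sections defining a morphism to the affine plane. -/
noncomputable def coord (j : Bool) : Γ(X, ⊤) :=
  c₀.appTop.hom ((Scheme.ΓSpecIso (CommRingCat.of K₀.{u})).inv.hom (MvPolynomial.X ⟨j⟩))

theorem appTop_eq_evalPair :
    c₀.appTop.hom.comp (Scheme.ΓSpecIso (CommRingCat.of K₀.{u})).inv.hom = evalPair (coord c₀) :=
  (evalPair_eq _).symm

theorem pointA_comp {R : Type u} [CommRing R] (ρ : Γ(X, ⊤) →+* R) :
    pointA ρ ≫ c₀ = Spec.map (CommRingCat.ofHom (evalPair fun j => ρ (coord c₀ j))) := by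
  refine ext_of_isAffine ?_
  rw [← cancel_epi (Scheme.ΓSpecIso (CommRingCat.of K₀.{u})).inv, ← Scheme.ΓSpecIso_inv_naturality]
  ext : 1
  refine ext_K₀ fun j => ?_
  simp only [Scheme.Hom.comp_appTop, CommRingCat.hom_comp, RingHom.comp_apply, pointA_appTop,
    CommRingCat.hom_ofHom, evalPair_X]
  rfl

variable (hP : IsPullback gB b (H26Blow.π I₀.{u}) c₀)

/-- The point of the blow up attached to a coordinate on chart `k`. -/
noncomputable def pointP (k : Bool) {R : Type u} [CommRing R] (ρ : Γ(X, ⊤) →+* R) (t : R)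
    (h : t * ρ (coord c₀ k) = ρ (coord c₀ (!k))) : Spec (CommRingCat.of R) ⟶ P :=
  hP.lift (Spec.map (CommRingCat.ofHom (ev k (fun j => ρ (coord c₀ j)) t)) ≫ q k) (pointA ρ) (by
    rw [Category.assoc, q_π, ← Spec.map_comp, ← CommRingCat.ofHom_comp, ev_comp_φ _ _ _ h, pointA_comp])

theorem pointP_b (k : Bool) {R : Type u} [CommRing R] (ρ : Γ(X, ⊤) →+* R) (t : R)
    (h : t * ρ (coord c₀ k) = ρ (coord c₀ (!k))) : pointP hP k ρ t h ≫ b = pointA ρ :=
  hP.lift_snd _ _ _

theorem map_pointP (k : Bool) {R R' : Type u} [CommRing R] [CommRing R'] (ρ : Γ(X, ⊤) →+* R) (t : R)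
    (h : t * ρ (coord c₀ k) = ρ (coord c₀ (!k))) (ψ : R →+* R') {ρ' : Γ(X, ⊤) →+* R'} {t' : R'}
    (hρ : ψ.comp ρ = ρ') (ht : ψ t = t') (h' : t' * ρ' (coord c₀ k) = ρ' (coord c₀ (!k))) :
    Spec.map (CommRingCat.ofHom ψ) ≫ pointP hP k ρ t h = pointP hP k ρ' t' h' := by
  subst hρ ht
  refine hP.hom_ext ?_ ?_
  · simp only [Category.assoc, pointP, IsPullback.lift_fst]
    rw [← Spec.map_comp_assoc, ← CommRingCat.ofHom_comp]
    congr 3
    refine ext_K₀ (forall_bool k ?_ ?_)
    · simp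
    · simp
  · simp only [Category.assoc, pointP, IsPullback.lift_snd, map_pointA]

theorem pointP_swap {R : Type u} [CommRing R] (k : Bool) (ρ : Γ(X, ⊤) →+* R) (t t' : R)
    (h : t * ρ (coord c₀ k) = ρ (coord c₀ (!k))) (h' : t' * ρ (coord c₀ (!k)) = ρ (coord c₀ (!!k)))
    (ht : t * t' = 1) : pointP hP k ρ t h = pointP hP (!k) ρ t' h' := by
  refine hP.hom_ext ?_ ?_
  · simp only [pointP, IsPullback.lift_fst]
    exact ev_q_eq k _ t t' h ht
  · simp only [pointP, IsPullback.lift_snd]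

variable (c₀) in
/-- The equation of chart `k`. -/
noncomputable def rel (k : Bool) : Ideal Γ(X, ⊤)[X] :=
  Ideal.span {Polynomial.X * Polynomial.C (coord c₀ k) - Polynomial.C (coord c₀ (!k))}

variable (c₀) in
/-- The ring of chart `k`. -/
abbrev ChartRing (k : Bool) : Type u := Γ(X, ⊤)[X] ⧸ rel c₀ k

variable (c₀) in
noncomputable def chartMap (k : Bool) : Γ(X, ⊤) →+* ChartRing c₀ k :=
  (Ideal.Quotient.mk _).comp Polynomial.C

variable (c₀) in
theorem chart_rel (k : Bool) : (Ideal.Quotient.mk (rel c₀ k) Polynomial.X) * chartMap c₀ k (coord c₀ k) =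
    chartMap c₀ k (coord c₀ (!k)) := by
  rw [chartMap, RingHom.comp_apply, RingHom.comp_apply, ← map_mul, Ideal.Quotient.eq]
  exact Ideal.subset_span rfl

/-- Chart `k` of the almost blow up. -/
noncomputable abbrev chart (k : Bool) : Spec (CommRingCat.of (ChartRing c₀ k)) ⟶ P :=
  pointP hP k (chartMap c₀ k) _ (chart_rel c₀ k)

variable (c₀) in
theorem isPushout_chart (k : Bool) :
    IsPushout (CommRingCat.ofHom (φ.{u} k))
      (CommRingCat.ofHom (evalPair (coord c₀)))
      (CommRingCat.ofHom (ev k (fun j => chartMap c₀ k (coord c₀ j)) (Ideal.Quotient.mk (rel c₀ k) Polynomial.X)))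
      (CommRingCat.ofHom (chartMap c₀ k)) := by
  refine ⟨⟨?_⟩, ⟨PushoutCocone.IsColimit.mk _
    (fun s => CommRingCat.ofHom (Ideal.Quotient.lift (rel c₀ k)
      (Polynomial.eval₂RingHom s.inr.hom (s.inl.hom (MvPolynomial.X ⟨!k⟩))) ?_)) ?_ ?_ ?_⟩⟩
  · ext : 1
    simp only [CommRingCat.hom_comp, CommRingCat.hom_ofHom]
    rw [ev_comp_φ _ _ _ (chart_rel c₀ k)]
    exact ext_K₀ fun j => by simp
  · intro x hx
    suffices rel c₀ k ≤ RingHom.ker
        (Polynomial.eval₂RingHom s.inr.hom (s.inl.hom (MvPolynomial.X ⟨!k⟩))) from this hx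
    rw [rel, Ideal.span_le, Set.singleton_subset_iff, SetLike.mem_coe, RingHom.mem_ker]
    have hc : ∀ y, s.inl.hom (φ k y) = s.inr.hom (evalPair (coord c₀) y) := fun y =>
      RingHom.congr_fun (congrArg CommRingCat.Hom.hom s.condition) y
    have h1 := hc (MvPolynomial.X ⟨k⟩)
    have h2 := hc (MvPolynomial.X ⟨!k⟩)
    simp only [φ_self, φ_not, evalPair_X, map_mul] at h1 h2
    simp only [Polynomial.coe_eval₂RingHom, Polynomial.eval₂_sub, Polynomial.eval₂_mul, Polynomial.eval₂_X,
      Polynomial.eval₂_C]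
    rw [← h2, ← h1, mul_comm, sub_self]
  · intro s
    ext : 1
    refine ext_K₀ (forall_bool k ?_ ?_)
    · simp only [CommRingCat.hom_comp, CommRingCat.hom_ofHom, RingHom.comp_apply, ev_self, chartMap,
        Ideal.Quotient.lift_mk, Polynomial.coe_eval₂RingHom, Polynomial.eval₂_C]
      have := RingHom.congr_fun (congrArg CommRingCat.Hom.hom s.condition) (MvPolynomial.X ⟨k⟩)
      simpa using this.symm
    · simp [chartMap]
  · intro s
    ext x
    simp [chartMap]
  · intro s m h1 h2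
    ext : 1
    refine Ideal.Quotient.ringHom_ext (Polynomial.ringHom_ext (fun a => ?_) ?_)
    · have := RingHom.congr_fun (congrArg CommRingCat.Hom.hom h2) a
      simpa [chartMap] using this
    · have := RingHom.congr_fun (congrArg CommRingCat.Hom.hom h1) (MvPolynomial.X ⟨!k⟩)
      simpa using this

theorem isPullback_chart (k : Bool) :
    IsPullback (Spec.map (CommRingCat.ofHom
      (ev k (fun j => chartMap c₀ k (coord c₀ j)) (Ideal.Quotient.mk (rel c₀ k) Polynomial.X))))
      (chart hP k) (q k) gB := by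
  refine IsPullback.of_bot ?_ (hP.lift_fst _ _ _).symm hP
  rw [pointP_b, q_π]
  refine IsPullback.of_iso (isPullback_SpecMap_of_isPushout _ _ _ _ (isPushout_chart c₀ k)) (Iso.refl _) (Iso.refl _)
    X.isoSpec.symm (Iso.refl _) (by simp) (by simp [pointA]) (by simp) ?_
  simp only [Iso.refl_hom, Category.comp_id, Iso.symm_hom]
  have := pointA_comp (c₀ := c₀) (RingHom.id Γ(X, ⊤))
  rw [pointA, CommRingCat.ofHom_id, Spec.map_id, Category.id_comp] at this
  simpa using this.symm

theorem isOpenImmersion_chart (k : Bool) : IsOpenImmersion (chart hP k) :=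
  MorphismProperty.of_isPullback (isPullback_chart hP k) (inferInstanceAs (IsOpenImmersion (q k)))

theorem exists_chart (x : P) : ∃ k, ∃ y, chart hP k y = x := by
  obtain ⟨k, y, hy⟩ := exists_q (gB x)
  obtain ⟨z, -, hz⟩ := Scheme.Pullback.exists_preimage_pullback (f := q k) (g := gB) y x hy
  refine ⟨k, (isPullback_chart hP k).isoPullback.inv z, ?_⟩
  rw [← Scheme.Hom.comp_apply, (isPullback_chart hP k).isoPullback_inv_snd]
  exact hz

/-- The almost blow up square in two elements is a Milnor square. -/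
theorem isMilnor_blow {E Z : Scheme.{u}} {e : E ⟶ P} {π : E ⟶ Z} {i : Z ⟶ X} [IsClosedImmersion i]
    (hsq : IsPullback e π b i) (hP : IsPullback gB b (H26Blow.π I₀.{u}) c₀)
    (hi : i.ker = (H26Blow.centre I₀.{u}).comap c₀) : IsMilnor e π b i := by
  haveI : IsAffine Z := isAffine_of_isAffineHom i
  have hci : ∀ j, i.appTop.hom (coord c₀ j) = 0 := fun j => by
    have hm : coord c₀ j ∈ i.ker.ideal ⟨⊤, isAffineOpen_top X⟩ := by
      rw [hi, H29Blow.ideal_comap_top, H26Blow.ideal_centre_top, Ideal.map_map]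
      exact Ideal.mem_map_of_mem _ (Ideal.subset_span ⟨⟨j⟩, rfl⟩)
    rw [Scheme.Hom.ker_apply] at hm
    exact hm
  have hinj : ∀ R : CommRingCat.{u}, Function.Injective (Scheme.ΓSpecIso R).inv.hom := fun R =>
    (ConcreteCategory.bijective_of_isIso (Scheme.ΓSpecIso R).inv).1
  have hch : ∀ (k : Bool) (a : Γ(X, ⊤)), (chart hP k).appTop.hom (b.appTop.hom a) =
      (Scheme.ΓSpecIso (CommRingCat.of (ChartRing c₀ k))).inv.hom (chartMap c₀ k a) := fun k a => by
    rw [← CommRingCat.comp_apply, ← Scheme.Hom.comp_appTop, pointP_b, pointA_appTop]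
  refine ⟨fun c s hcs => ?_, 2, fun a _ ha => ?_⟩
  · have hrep : ∀ k, ∃ p : Γ(X, ⊤)[X], (chart hP k).appTop.hom s =
        (Scheme.ΓSpecIso (CommRingCat.of (ChartRing c₀ k))).inv.hom (Ideal.Quotient.mk _ p) := fun k => by
      obtain ⟨x, hx⟩ := (ConcreteCategory.bijective_of_isIso
        (Scheme.ΓSpecIso (CommRingCat.of (ChartRing c₀ k))).inv).2 ((chart hP k).appTop.hom s)
      obtain ⟨p, rfl⟩ := Ideal.Quotient.mk_surjective x
      exact ⟨p, hx.symm⟩
    obtain ⟨p, hp⟩ := hrep true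
    obtain ⟨r, hr⟩ := hrep false
    let x₁ := coord c₀ true
    let x₂ := coord c₀ false
    let 𝔞 : Ideal Γ(X, ⊤)[T;T⁻¹] :=
      Ideal.span {LaurentPolynomial.T 1 * LaurentPolynomial.C x₁ - LaurentPolynomial.C x₂}
    let L := Γ(X, ⊤)[T;T⁻¹] ⧸ 𝔞
    let ρ : Γ(X, ⊤) →+* L := (Ideal.Quotient.mk 𝔞).comp LaurentPolynomial.C
    let t : L := Ideal.Quotient.mk 𝔞 (LaurentPolynomial.T 1)
    let t' : L := Ideal.Quotient.mk 𝔞 (LaurentPolynomial.T (-1))
    have htt : t * t' = 1 := by
      show Ideal.Quotient.mk 𝔞 _ * Ideal.Quotient.mk 𝔞 _ = 1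
      rw [← map_mul, ← LaurentPolynomial.T_add, show (1 : ℤ) + -1 = 0 by norm_num, LaurentPolynomial.T_zero, map_one]
    have hL : t * ρ x₁ = ρ x₂ := by
      show Ideal.Quotient.mk 𝔞 _ * Ideal.Quotient.mk 𝔞 _ = Ideal.Quotient.mk 𝔞 _
      rw [← map_mul, Ideal.Quotient.eq]
      exact Ideal.subset_span rfl
    have hL' : t' * ρ x₂ = ρ x₁ := by rw [← hL, ← mul_assoc, mul_comm t', htt, one_mul]
    let inv' : Γ(X, ⊤)[T;T⁻¹] →+* Γ(X, ⊤)[T;T⁻¹] :=
      (LaurentPolynomial.invert (R := Γ(X, ⊤))).toAlgHom.toRingHom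
    have hinv : ∀ z, inv' z = LaurentPolynomial.invert z := fun z => rfl
    let ψ₁ : ChartRing c₀ true →+* L := Ideal.Quotient.lift _
      ((Ideal.Quotient.mk 𝔞).comp Polynomial.toLaurent) fun z hz => by
        obtain ⟨y, rfl⟩ := Ideal.mem_span_singleton'.1 hz
        rw [RingHom.comp_apply, Ideal.Quotient.eq_zero_iff_mem, map_mul, map_sub, map_mul, Polynomial.toLaurent_X,
          Polynomial.toLaurent_C, Polynomial.toLaurent_C]
        exact Ideal.mul_mem_left _ _ (Ideal.subset_span rfl)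
    let ψ₂ : ChartRing c₀ false →+* L := Ideal.Quotient.lift _
      ((Ideal.Quotient.mk 𝔞).comp (inv'.comp Polynomial.toLaurent)) fun z hz => by
        obtain ⟨y, rfl⟩ := Ideal.mem_span_singleton'.1 hz
        rw [RingHom.comp_apply, RingHom.comp_apply, Ideal.Quotient.eq_zero_iff_mem, map_mul, map_sub, map_mul,
          map_mul, map_sub, map_mul, hinv (Polynomial.toLaurent Polynomial.X), Polynomial.toLaurent_X,
          Polynomial.toLaurent_C, Polynomial.toLaurent_C, hinv (LaurentPolynomial.C _), hinv (LaurentPolynomial.C _),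
          LaurentPolynomial.invert_T, LaurentPolynomial.invert_C, LaurentPolynomial.invert_C]
        refine Ideal.mul_mem_left _ _ (Ideal.mem_span_singleton'.2 ⟨-LaurentPolynomial.T (-1), ?_⟩)
        show -LaurentPolynomial.T (-1) * (LaurentPolynomial.T 1 * LaurentPolynomial.C x₁ - LaurentPolynomial.C x₂) =
          LaurentPolynomial.T (-1) * LaurentPolynomial.C x₂ - LaurentPolynomial.C x₁
        rw [mul_sub, ← mul_assoc, neg_mul, ← LaurentPolynomial.T_add, show (-1 : ℤ) + 1 = 0 by norm_num,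
          LaurentPolynomial.T_zero]
        ring
    have e1 := map_pointP hP true (chartMap c₀ true) _ (chart_rel c₀ true) ψ₁ (ρ' := ρ) (t' := t)
      (RingHom.ext fun a => congrArg (Ideal.Quotient.mk 𝔞) (Polynomial.toLaurent_C a))
      (congrArg (Ideal.Quotient.mk 𝔞) Polynomial.toLaurent_X) hL
    have e2 := map_pointP hP false (chartMap c₀ false) _ (chart_rel c₀ false) ψ₂ (ρ' := ρ) (t' := t')
      (RingHom.ext fun a => congrArg (Ideal.Quotient.mk 𝔞)
        (((congrArg inv' (Polynomial.toLaurent_C a)).trans (hinv _)).trans (LaurentPolynomial.invert_C a)))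
      (congrArg (Ideal.Quotient.mk 𝔞)
        (((congrArg inv' Polynomial.toLaurent_X).trans (hinv _)).trans (LaurentPolynomial.invert_T 1))) hL'
    have e3 : Polynomial.toLaurent p - LaurentPolynomial.invert (Polynomial.toLaurent r) ∈ 𝔞 := by
      refine Ideal.Quotient.eq.1 ?_
      refine hinj (CommRingCat.of L) ?_
      have key := congrArg (fun g : Spec (CommRingCat.of L) ⟶ P => g.appTop.hom s)
        (e1.trans ((pointP_swap hP true ρ t t' hL hL' htt).trans e2.symm))
      simp only [Scheme.Hom.comp_appTop, CommRingCat.comp_apply, hp, hr] at key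
      have n1 := RingHom.congr_fun (congrArg CommRingCat.Hom.hom
        (Scheme.ΓSpecIso_inv_naturality (CommRingCat.ofHom ψ₁))) (Ideal.Quotient.mk _ p)
      have n2 := RingHom.congr_fun (congrArg CommRingCat.Hom.hom
        (Scheme.ΓSpecIso_inv_naturality (CommRingCat.ofHom ψ₂))) (Ideal.Quotient.mk _ r)
      exact n1.trans (key.trans n2.symm)
    obtain ⟨q, hq⟩ := Ideal.mem_span_singleton'.1 e3
    obtain ⟨α, β, rfl⟩ := exists_split q
    let I' := LaurentPolynomial.invert (R := Γ(X, ⊤))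
    have hT : (LaurentPolynomial.T (-1) : Γ(X, ⊤)[T;T⁻¹]) * LaurentPolynomial.T 1 = 1 := by
      rw [← LaurentPolynomial.T_add, show (-1 : ℤ) + 1 = 0 by norm_num, LaurentPolynomial.T_zero]
    obtain ⟨a₀, hp', hr'⟩ := eq_C_of_toLaurent
      (u := p - (Polynomial.X * Polynomial.C x₁ - Polynomial.C x₂) * α)
      (v := r - (Polynomial.X * Polynomial.C x₂ - Polynomial.C x₁) * β) (by
        simp only [map_sub, map_mul, Polynomial.toLaurent_X, Polynomial.toLaurent_C, LaurentPolynomial.invert_C,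
          LaurentPolynomial.invert_T]
        linear_combination (-1 : Γ(X, ⊤)[T;T⁻¹]) * hq +
          (LaurentPolynomial.C x₁ * LaurentPolynomial.invert (Polynomial.toLaurent β)) * hT)
    have hb : b.appTop.hom a₀ = s := by
      haveI : ∀ k : ULift.{u} Bool, IsOpenImmersion (chart hP k.down) := fun k => isOpenImmersion_chart hP k.down
      refine (eq_of_cover (fun k : ULift.{u} Bool => chart hP k.down) (fun x => ?_) fun k => ?_)
      · obtain ⟨k, y, hy⟩ := exists_chart hP x
        exact ⟨⟨k⟩, y, hy⟩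
      obtain ⟨k⟩ := k
      show (chart hP k).appTop.hom _ = (chart hP k).appTop.hom s
      rw [hch]
      revert k
      refine forall_bool true ?_ ?_
      · rw [hp]
        refine congrArg _ ((Ideal.Quotient.mk_eq_mk_iff_sub_mem _ _).2 ?_)
        rw [← hp', sub_sub_cancel_left, neg_mem_iff]
        exact Ideal.mul_mem_right _ _ (Ideal.subset_span rfl)
      · show _ = (chart hP false).appTop.hom s
        rw [hr]
        refine congrArg _ ((Ideal.Quotient.mk_eq_mk_iff_sub_mem _ _).2 ?_)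
        rw [← hr', sub_sub_cancel_left, neg_mem_iff]
        exact Ideal.mul_mem_right _ _ (Ideal.subset_span rfl)
    refine ⟨a₀, ?_, hb⟩
    -- the projection of the exceptional part has a section
    let σ₀ : Z ⟶ P := Z.isoSpec.hom ≫ pointP hP true i.appTop.hom 0 (by rw [zero_mul, hci])
    have hσ₀ : σ₀ ≫ b = i := by
      rw [Category.assoc, pointP_b, pointA, CommRingCat.ofHom_hom]
      rw [Scheme.isoSpec_inv_naturality, Iso.hom_inv_id_assoc]
    let σ := hsq.lift σ₀ (𝟙 Z) (by rw [hσ₀, Category.id_comp])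
    have hπσ : ∀ z, σ.appTop.hom (π.appTop.hom z) = z := fun z => by
      rw [← CommRingCat.comp_apply, ← Scheme.Hom.comp_appTop, hsq.lift_snd, Scheme.Hom.id_appTop]
      rfl
    rw [← hπσ c, hcs, ← hb]
    have hσb : σ ≫ e ≫ b = i := by rw [hsq.lift_fst_assoc, hσ₀]
    have := RingHom.congr_fun (congrArg (fun g : Z ⟶ X => g.appTop.hom) hσb) a₀
    simpa [Scheme.Hom.comp_appTop] using this.symm
  · have hk : ∀ k, Polynomial.C a ∈ rel c₀ k := fun k => by
      refine Ideal.Quotient.eq_zero_iff_mem.1 ?_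
      refine hinj (CommRingCat.of (ChartRing c₀ k)) ?_
      rw [map_zero]
      refine (hch k a).symm.trans ?_
      rw [ha, map_zero]
    obtain ⟨p, hp⟩ := Ideal.mem_span_singleton'.1 (hk true)
    obtain ⟨r, hr⟩ := Ideal.mem_span_singleton'.1 (hk false)
    exact sq_eq_zero (coord c₀ true) (coord c₀ false) a p r (hp.symm.trans (mul_comm _ _))
      (hr.symm.trans (mul_comm _ _))

end Blow

/-- Two closed subschemes, one principal and the other with ideal killed by a power of the equation. -/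
theorem isMilnor_closed {E Z X' X : Scheme.{u}} [IsAffine X] {e : E ⟶ X'} {π : E ⟶ Z} {b : X' ⟶ X} {i : Z ⟶ X}
    [IsClosedImmersion i] [IsClosedImmersion b] (hsq : IsPullback e π b i) (f : Γ(X, ⊤))
    (hi : i.ker.ideal ⟨⊤, isAffineOpen_top X⟩ = Ideal.span {f}) (N : ℕ)
    (hN : ∀ x ∈ b.ker.ideal ⟨⊤, isAffineOpen_top X⟩, f ^ N * x = 0) : IsMilnor e π b i := by
  obtain ⟨hZa, hZs⟩ := IsClosedImmersion.isAffine_surjective_of_isAffine i
  obtain ⟨hXa, hXs⟩ := IsClosedImmersion.isAffine_surjective_of_isAffine b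
  haveI := hXa
  haveI : IsClosedImmersion e := MorphismProperty.of_isPullback hsq.flip inferInstance
  refine ⟨fun c s hcs => ?_, N + 1, fun a ha hb => ?_⟩
  · obtain ⟨x, rfl⟩ := hZs c
    obtain ⟨y, rfl⟩ := hXs s
    have hek : e.ker = i.ker.comap b := by
      rw [← Scheme.Hom.ker_comp_of_isIso hsq.isoPullback.inv e, hsq.isoPullback_inv_fst,
        Scheme.IdealSheafData.ker_fst_of_isClosedImmersion]
    have hm : b.appTop.hom (y - x) ∈ e.ker.ideal ⟨⊤, isAffineOpen_top X'⟩ := by
      rw [Scheme.Hom.ker_apply, RingHom.mem_ker]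
      show e.appTop.hom _ = 0
      rw [map_sub, map_sub, ← hcs, sub_eq_zero, ← CommRingCat.comp_apply, ← CommRingCat.comp_apply,
        ← Scheme.Hom.comp_appTop, ← Scheme.Hom.comp_appTop, hsq.w]
    rw [hek, H29Blow.ideal_comap_top, hi, Ideal.map_span, Set.image_singleton] at hm
    obtain ⟨r, hr⟩ := Ideal.mem_span_singleton'.1 hm
    obtain ⟨z, rfl⟩ := hXs r
    refine ⟨x + z * f, ?_, ?_⟩
    · have : f ∈ i.ker.ideal ⟨⊤, isAffineOpen_top X⟩ := by rw [hi]; exact Ideal.subset_span rfl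
      rw [Scheme.Hom.ker_apply, RingHom.mem_ker] at this
      show i.appTop.hom _ = _
      rw [map_add, map_mul, show i.appTop.hom f = 0 from this, mul_zero, add_zero]
    · rw [map_add, map_mul]
      show _ + b.appTop.hom z * _ = _
      rw [hr, map_sub, add_sub_cancel]
  · have ha' : a ∈ i.ker.ideal ⟨⊤, isAffineOpen_top X⟩ := by rw [Scheme.Hom.ker_apply]; exact ha
    rw [hi] at ha'
    obtain ⟨z, rfl⟩ := Ideal.mem_span_singleton'.1 ha'
    have := hN (z * f) (by rw [Scheme.Hom.ker_apply]; exact hb)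
    calc (z * f) ^ (N + 1) = z ^ N * (f ^ N * (z * f)) := by ring
      _ = 0 := by rw [this, mul_zero]

variable {S : Scheme.{u}} (F : (Over S)ᵒᵖ ⥤ Type w)

/-- Milnor squares over affine schemes go to cartesian squares. -/
def MilnorCondition : Prop :=
  ∀ (E Z X' X : Over S) (e : E ⟶ X') (π : E ⟶ Z) (b : X' ⟶ X) (i : Z ⟶ X), IsAffine X.left →
    IsClosedImmersion i.left → IsProper b.left → IsPullback e.left π.left b.left i.left →
    IsMilnor e.left π.left b.left i.left →
    ∀ (t : F.obj (op Z)) (s' : F.obj (op X')), F.map π.op t = F.map e.op s' →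
      ∃! s : F.obj (op X), F.map i.op s = t ∧ F.map b.op s = s'

variable {F}

local notation "τ" => Sheaf.finestTopologySingle F

/-- A pair covers when all its pullbacks to affine schemes give Milnor squares. -/
theorem pairSieve_mem_of_milnor (hz : Presieve.IsSheaf (Scheme.zariskiTopology.over S) F)
    (hM : MilnorCondition F) {Z X' U : Over S} (b : X' ⟶ U) (i : Z ⟶ U) [IsClosedImmersion i.left]
    [IsProper b.left]
    (h : ∀ (W : Scheme.{u}) [IsAffine W] (g : W ⟶ U.left),
      IsMilnor (pullback.fst (pullback.fst g b.left) (pullback.fst g i.left))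
        (pullback.snd (pullback.fst g b.left) (pullback.fst g i.left)) (pullback.fst g b.left)
        (pullback.fst g i.left)) :
    pairSieve i b ∈ τ U := by
  intro T g
  refine OverTopology.isSheafFor_of_affine F hz _ fun W hW a => ?_
  rw [← Sieve.pullback_comp]
  let c : W.left ⟶ U.left := (a ≫ g).left
  let XW : Over S := Over.mk (pullback.fst c b.left ≫ W.hom)
  let bW : XW ⟶ W := Over.homMk (pullback.fst c b.left) rfl
  let ZW : Over S := Over.mk (pullback.fst c i.left ≫ W.hom)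
  let iW : ZW ⟶ W := Over.homMk (pullback.fst c i.left) rfl
  let EW : Over S := Over.mk (pullback.fst bW.left iW.left ≫ XW.hom)
  let eW : EW ⟶ XW := Over.homMk (pullback.fst bW.left iW.left) rfl
  let πW : EW ⟶ ZW := Over.homMk (pullback.snd bW.left iW.left) (by
    show pullback.snd bW.left iW.left ≫ ZW.hom = pullback.fst bW.left iW.left ≫ XW.hom
    rw [← Over.w iW, ← pullback.condition_assoc, Over.w bW])
  haveI : IsClosedImmersion iW.left := MorphismProperty.pullback_fst (P := @IsClosedImmersion) c i.left inferInstance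
  haveI : IsProper bW.left := MorphismProperty.pullback_fst (P := @IsProper) c b.left inferInstance
  have heq : (pairSieve i b).pullback (a ≫ g) = pairSieve iW bW := by
    let pi : ZW ⟶ Z := Over.homMk (pullback.snd c i.left) (by
      show _ ≫ Z.hom = pullback.fst c i.left ≫ W.hom
      rw [← Over.w i, ← pullback.condition_assoc, Over.w (a ≫ g)])
    let pb : XW ⟶ X' := Over.homMk (pullback.snd c b.left) (by
      show _ ≫ X'.hom = pullback.fst c b.left ≫ W.hom
      rw [← Over.w b, ← pullback.condition_assoc, Over.w (a ≫ g)])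
    have hpi : iW ≫ a ≫ g = pi ≫ i := Over.OverMorphism.ext pullback.condition
    have hpb : bW ≫ a ≫ g = pb ≫ b := Over.OverMorphism.ext pullback.condition
    refine le_antisymm (fun T' l hl => ?_) fun T' l hl => ?_
    · rcases hl with ⟨r, hr⟩ | ⟨r, hr⟩
      · refine Or.inl ⟨Over.homMk (pullback.lift l.left r.left (congrArg CommaMorphism.left hr).symm) ?_,
          Over.OverMorphism.ext (pullback.lift_fst _ _ _)⟩
        show pullback.lift _ _ _ ≫ pullback.fst c i.left ≫ W.hom = T'.hom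
        rw [pullback.lift_fst_assoc, Over.w l]
      · refine Or.inr ⟨Over.homMk (pullback.lift l.left r.left (congrArg CommaMorphism.left hr).symm) ?_,
          Over.OverMorphism.ext (pullback.lift_fst _ _ _)⟩
        show pullback.lift _ _ _ ≫ pullback.fst c b.left ≫ W.hom = T'.hom
        rw [pullback.lift_fst_assoc, Over.w l]
    · rcases hl with ⟨r, rfl⟩ | ⟨r, rfl⟩
      · exact Or.inl ⟨r ≫ pi, by rw [Category.assoc, Category.assoc, hpi]⟩
      · exact Or.inr ⟨r ≫ pb, by rw [Category.assoc, Category.assoc, hpb]⟩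
  rw [heq]
  intro x hx
  have key : ∀ {T' : Over S} (f : T' ⟶ W) (hf : (pairSieve iW bW).arrows f) {A : Over S} (m : A ⟶ W)
      (hm : (pairSieve iW bW).arrows m) (l : T' ⟶ A), l ≫ m = f → x f hf = F.map l.op (x m hm) := by
    intro T' f hf A m hm l hl
    have := hx l (𝟙 T') hm hf (by rw [Category.id_comp]; exact hl)
    simpa using this.symm
  have hiW : (pairSieve iW bW).arrows iW := Or.inl ⟨𝟙 _, Category.id_comp _⟩
  have hbW : (pairSieve iW bW).arrows bW := Or.inr ⟨𝟙 _, Category.id_comp _⟩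
  obtain ⟨s, ⟨hs₁, hs₂⟩, hu⟩ := hM EW ZW XW W eW πW bW iW hW inferInstance inferInstance
    (IsPullback.of_hasPullback _ _) (h W.left c) (x iW hiW) (x bW hbW)
    (hx πW eW hiW hbW (Over.OverMorphism.ext pullback.condition.symm))
  refine ⟨s, ?_, fun s₂ hs => hu s₂ ⟨hs iW hiW, hs bW hbW⟩⟩
  intro T' f hf
  rcases hf with ⟨l, rfl⟩ | ⟨l, rfl⟩
  · rw [key (l ≫ iW) _ iW hiW l rfl, ← hs₁, op_comp, FunctorToTypes.map_comp_apply]
  · rw [key (l ≫ bW) _ bW hbW l rfl, ← hs₂, op_comp, FunctorToTypes.map_comp_apply]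

theorem exists_pow_mul_eq_zero {U : Scheme.{u}} [IsAffine U] {I : U.IdealSheafData} (f : Γ(U, ⊤))
    (hI : I.ideal ⟨⊤, isAffineOpen_top U⟩ = Ideal.span {f}) (J : Ideal Γ(U, ⊤)) (hJ : J.FG)
    (hle : J ≤ (supportedOn I).ideal ⟨⊤, isAffineOpen_top U⟩) : ∃ N, ∀ x ∈ J, f ^ N * x = 0 := by
  classical
  have hl : IsLocPrincipal I := fun x => ⟨⟨⊤, isAffineOpen_top U⟩, trivial, f, hI⟩
  have h1 : ∀ x ∈ J, ∃ n, f ^ n * x = 0 := fun x hx => by
    have h0 := (mem_supportedOn_iff hl hI x).1 (hle hx)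
    haveI := (isAffineOpen_top U).isLocalization_basicOpen f
    obtain ⟨⟨_, n, rfl⟩, hn⟩ :=
      (IsLocalization.map_eq_zero_iff (Submonoid.powers f) Γ(U, U.basicOpen f) x).1 h0
    exact ⟨n, hn⟩
  obtain ⟨s, rfl⟩ := hJ
  choose n hn using h1
  refine ⟨∑ y ∈ s.attach, n y.1 (Ideal.subset_span y.2), fun x hx => ?_⟩
  induction hx using Submodule.span_induction with
  | mem y hy =>
    obtain ⟨m, hm⟩ := Nat.exists_eq_add_of_le
      (Finset.single_le_sum (f := fun z : s => n z.1 (Ideal.subset_span z.2)) (fun _ _ => Nat.zero_le _)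
        (s.mem_attach ⟨y, hy⟩))
    rw [hm, pow_add, mul_right_comm, hn, zero_mul]
  | zero => rw [mul_zero]
  | add y z _ _ hy hz => rw [mul_add, hy, hz, add_zero]
  | smul r y _ hy => rw [smul_eq_mul, mul_left_comm, hy, mul_zero]

variable (hz : Presieve.IsSheaf (Scheme.zariskiTopology.over S) F) (hM : MilnorCondition F)

include hz hM

/-- Squares with principal centre on an affine scheme cover. -/
theorem principal_mem {E Z X' U : Over S} [IsAffine U.left] (e : E ⟶ X') (π : E ⟶ Z) (b : X' ⟶ U) (i : Z ⟶ U)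
    (h : HTop.IsAlmostBlowUpSquare e.left π.left b.left i.left) (f : Γ(U.left, ⊤))
    (hf : i.left.ker.ideal ⟨⊤, isAffineOpen_top U.left⟩ = Ideal.span {f}) : pairSieve i b ∈ τ U := by
  haveI := h.isClosedImmersion
  haveI := h.isProper
  haveI := h.finitePresentation
  have hl : IsLocPrincipal i.left.ker := fun x => ⟨⟨⊤, isAffineOpen_top U.left⟩, trivial, f, hf⟩
  let K := supportedOn i.left.ker
  obtain ⟨l, hl', -⟩ := h.isBlowUp.2 _ K.subschemeι (isEffCartierIdeal_comap_supportedOn hl)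
  let D := H7Lim.ftSystem K
  let c := H7Lim.ftCone K
  haveI : ∀ J : (H7Lim.FTIdeal K)ᵒᵖ, CompactSpace (D.obj J) := fun J =>
    QuasiCompact.compactSpace_of_compactSpace J.unop.1.subschemeι
  haveI : ∀ J : (H7Lim.FTIdeal K)ᵒᵖ, QuasiSeparatedSpace (D.obj J) := fun J =>
    quasiSeparatedSpace_of_quasiSeparated J.unop.1.subschemeι
  haveI : ∀ {J J' : (H7Lim.FTIdeal K)ᵒᵖ} (ψ : J ⟶ J'), IsClosedImmersion (D.map ψ) := fun ψ =>
    H7Lim.isClosedImmersion_ftSystem_map K ψ
  haveI : ∀ {J J' : (H7Lim.FTIdeal K)ᵒᵖ} (ψ : J ⟶ J'), IsAffineHom (D.map ψ) := fun ψ => inferInstance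
  let t : D ⟶ (Functor.const _).obj U.left :=
    { app := fun J => J.unop.1.subschemeι
      naturality := fun J J' ψ => by
        simp only [Functor.const_obj_map, Category.comp_id]
        exact Scheme.IdealSheafData.inclusion_subschemeι _ }
  obtain ⟨J, g, -, hg⟩ := Scheme.exists_π_app_comp_eq_of_locallyOfFinitePresentation D t b.left c
    (H7Lim.isLimitFtCone K) (l ≫ (supportedOn (i.left.ker.comap b.left)).subschemeι) (by
      ext J
      show c.π.app J ≫ J.unop.1.subschemeι = (l ≫ _) ≫ b.left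
      rw [Category.assoc]
      exact (Scheme.IdealSheafData.inclusion_subschemeι _).trans hl'.symm)
  obtain ⟨N, hN⟩ := exists_pow_mul_eq_zero f hf _ (J.unop.2.2 ⟨⊤, isAffineOpen_top _⟩) (J.unop.2.1 _)
  let X'' : Over S := Over.mk (J.unop.1.subschemeι ≫ U.hom)
  let b' : X'' ⟶ U := Over.homMk J.unop.1.subschemeι rfl
  haveI : IsClosedImmersion b'.left := inferInstanceAs (IsClosedImmersion J.unop.1.subschemeι)
  let g' : X'' ⟶ X' := Over.homMk g (by
    show g ≫ X'.hom = J.unop.1.subschemeι ≫ U.hom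
    rw [← Over.w b, ← Category.assoc, hg])
  refine GrothendieckTopology.superset_covering _ ?_ (pairSieve_mem_of_milnor hz hM b' i fun W _ w => ?_)
  · rintro T m (⟨r, rfl⟩ | ⟨r, rfl⟩)
    · exact Or.inl ⟨r, rfl⟩
    · refine Or.inr ⟨r ≫ g', ?_⟩
      rw [Category.assoc]
      exact congrArg (r ≫ ·) (Over.OverMorphism.ext hg)
  haveI : IsClosedImmersion (pullback.fst w i.left) := MorphismProperty.pullback_fst _ _ inferInstance
  haveI : IsClosedImmersion (pullback.fst w b'.left) := MorphismProperty.pullback_fst _ _ inferInstance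
  refine isMilnor_closed (IsPullback.of_hasPullback _ _) (w.appTop.hom f) ?_ N fun x hx => ?_
  · rw [Scheme.IdealSheafData.ker_fst_of_isClosedImmersion, H29Blow.ideal_comap_top, hf, Ideal.map_span,
      Set.image_singleton]
  · rw [Scheme.IdealSheafData.ker_fst_of_isClosedImmersion, H29Blow.ideal_comap_top] at hx
    have hJ : b'.left.ker = J.unop.1 := Scheme.IdealSheafData.ker_subschemeι _
    rw [hJ] at hx
    induction hx using Submodule.span_induction with
    | mem y hy =>
      obtain ⟨y', hy', rfl⟩ := hy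
      rw [← map_pow, ← map_mul, hN y' hy', map_zero]
    | zero => rw [mul_zero]
    | add y z _ _ hy hz => rw [mul_add, hy, hz, add_zero]
    | smul r y _ hy => rw [smul_eq_mul, mul_left_comm, hy, mul_zero]

/-- Squares with locally principal centre cover. -/
theorem locPrincipal_mem {E Z X' U : Over S} (e : E ⟶ X') (π : E ⟶ Z) (b : X' ⟶ U) (i : Z ⟶ U)
    (h : HTop.IsAlmostBlowUpSquare e.left π.left b.left i.left) (hl : IsLocPrincipal i.left.ker) :
    pairSieve i b ∈ τ U := by
  choose V hxV g hg using hl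
  refine opens_mem hz (fun x : U.left => (V x).1) (fun x => ⟨x, hxV x⟩) fun x => ?_
  obtain ⟨E₁, Z₁, X₁, e₁, π₁, b₁, i₁, h₁, heq, hk⟩ :=
    pullback_square e π b i h (Over.homMk (V x).1.ι : Over.mk ((V x).1.ι ≫ U.hom) ⟶ U)
  rw [heq]
  haveI : IsAffine ((V x).1 : Scheme.{u}) := (V x).2
  haveI : IsAffine (Over.mk ((V x).1.ι ≫ U.hom)).left := (V x).2
  refine principal_mem hz hM e₁ π₁ b₁ i₁ h₁ ((V x).1.topIso.inv.hom (g x)) ?_
  rw [hk]
  show (i.left.ker.comap (V x).1.ι).ideal _ = _
  rw [H29Blow.ideal_comap_ι, hg x, Ideal.map_span, Set.image_singleton]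
  rfl

/-- Squares with centre generated by two global sections cover. -/
theorem twoMem : TwoMem F := by
  intro E Z X' U e π b i h hg
  refine GrothendieckTopology.transitive _ (zariski_le hz _ (OverTopology.affineArrows_mem U)) _
    fun T g hg' => ?_
  obtain ⟨A, r, a, ⟨hA, -⟩, rfl⟩ := hg'
  rw [Sieve.pullback_comp]
  refine GrothendieckTopology.pullback_stable _ r ?_
  haveI := hA
  obtain ⟨EA, ZA, XA, eA, πA, bA, iA, hA', heqA, hkA⟩ := pullback_square e π b i h a
  rw [heqA]
  obtain ⟨f, hf⟩ : GenBy 2 iA.left.ker := hkA ▸ genBy_comap hg a.left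
  haveI := hA'.isClosedImmersion
  let f' : Bool → Γ(A.left, ⊤) := fun j => if j then f 0 else f 1
  let c₀ : A.left ⟶ Spec (CommRingCat.of K₀.{u}) :=
    A.left.toSpecΓ ≫ Spec.map (CommRingCat.ofHom (evalPair f'))
  have hc₀ : c₀.appTop.hom.comp (Scheme.ΓSpecIso (CommRingCat.of K₀.{u})).inv.hom = evalPair f' := by
    rw [← CommRingCat.hom_comp]
    simp only [c₀, Scheme.Hom.comp_appTop, Scheme.toSpecΓ_appTop]
    rw [← Scheme.ΓSpecIso_inv_naturality_assoc]
    simp
  have hker : iA.left.ker = (H26Blow.centre I₀.{u}).comap c₀ := by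
    rw [hf, comap_ofIdealTop, Ideal.map_map, hc₀, Ideal.map_span, ← Set.range_comp]
    refine congrArg _ (congrArg Ideal.span ?_)
    ext x
    simp only [Set.mem_range, Function.comp_apply, evalPair_X, ULift.exists, Bool.exists_bool, f',
      Fin.exists_fin_two]
    exact or_comm
  haveI : IsProper (H26Blow.π I₀.{u}) := H26Blow.isProper_π (Submodule.fg_span (Set.finite_range _))
  let XP : Over S := Over.mk (pullback.fst c₀ (H26Blow.π I₀.{u}) ≫ A.hom)
  let bP : XP ⟶ A := Over.homMk (pullback.fst c₀ (H26Blow.π I₀.{u})) rfl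
  haveI : IsProper bP.left := MorphismProperty.pullback_fst (P := @IsProper) _ _ inferInstance
  refine mem_of_pair (pairSieve_mem_of_milnor hz hM bP iA fun W _ w => ?_) ?_ ?_
  · haveI : IsClosedImmersion (pullback.fst w iA.left) := MorphismProperty.pullback_fst _ _ inferInstance
    refine isMilnor_blow (c₀ := w ≫ c₀) (gB := pullback.snd w bP.left ≫ pullback.snd c₀ (H26Blow.π I₀.{u}))
      (IsPullback.of_hasPullback _ _) ?_ ?_
    · exact (IsPullback.of_hasPullback w bP.left).flip.paste_horiz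
        (IsPullback.of_hasPullback c₀ (H26Blow.π I₀.{u})).flip
    · rw [Scheme.IdealSheafData.ker_fst_of_isClosedImmersion, hker, ← Scheme.IdealSheafData.comap_comp]
  · exact GrothendieckTopology.covering_of_eq_top _
      (Sieve.pullback_eq_top_of_mem _ (Or.inl ⟨𝟙 _, Category.id_comp _⟩))
  · obtain ⟨E₁, Z₁, X₁, e₁, π₁, b₁, i₁, h₁, heq₁, hk₁⟩ := pullback_square eA πA bA iA hA' bP
    rw [heq₁]
    refine locPrincipal_mem hz hM e₁ π₁ b₁ i₁ h₁ ?_
    rw [hk₁, hker, ← Scheme.IdealSheafData.comap_comp,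
      show bP.left ≫ c₀ = pullback.snd c₀ (H26Blow.π I₀.{u}) ≫ H26Blow.π I₀.{u} from pullback.condition,
      Scheme.IdealSheafData.comap_comp]
    exact isLocPrincipal_comap (isLocPrincipal_of_isEffCartierIdeal (H26Blow.isEff_π _)) _

/-- Zariski sheaves with flat proper descent sending Milnor squares to cartesian squares are h sheaves. -/
theorem isSheaf_Jh_of_milnor (hfl : FlatDescent F) : Presieve.IsSheaf (HTop.Jh S) F :=
  isSheaf_Jh hz hfl (squareCondition hz (twoMem hz hM))

end Groth.Agent.H18HTop.JhMilnor
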