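import Groth.Agent.H18HTop.VCoverCrit
import Mathlib.AlgebraicGeometry.Sites.BigZariski
import Mathlib.CategoryTheory.Sites.CoproductSheafCondition

/-!
# Sheaves for V coverings: Zariski sheaves with descent along standard V coverings
-/

set_option autoImplicit false

universe w w' v u

open CategoryTheory Limits AlgebraicGeometry IsLocalRing HTop Opposite

namespace Groth.Agent.H18HTop

set_option backward.isDefEq.respectTransparency false

variable {T : Scheme.{u}}

/-- Reindexing the family does not change the lifting property. -/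
theorem hasValLift_of_surjective (E : PreZeroHypercover.{w} T) {ι : Type w'} (e : ι → E.I₀)
    (he : Function.Surjective e) (h : HasValLift E) :
    HasValLift (PreZeroHypercover.mk ι (fun k => E.X (e k)) (fun k => E.f (e k))) := by
  intro V _ _ g
  obtain ⟨W, i1, i2, φ, hφ, j, g', hg'⟩ := h V g
  obtain ⟨k, rfl⟩ := he j
  exact ⟨W, i1, i2, φ, hφ, k, g', hg'⟩

theorem isVCover_of_isStandardV {E : PreZeroHypercover.{w} T} (hE : IsStandardV E) : IsVCover E := by
  intro U
  haveI : IsAffine ((U : T.Opens) : Scheme.{u}) := U.2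
  have hp := isStandardV_pullback (U : T.Opens).ι hE
  haveI := hE.finite_index
  let e := (Finite.equivFin E.I₀).symm
  refine ⟨PreZeroHypercover.mk (Fin (Nat.card E.I₀)) (fun k => pullback (U : T.Opens).ι (E.f (e k)))
      (fun k => pullback.fst _ _),
    ⟨U.2, inferInstanceAs (Finite (Fin _)), fun k => hp.isAffine_obj (e k),
      hasValLift_of_surjective (E.pullback₁ (U : T.Opens).ι) e e.surjective hp.lift⟩,
    fun k => ⟨e k, pullback.snd _ _, pullback.condition.symm⟩⟩

variable (F : Scheme.{u}ᵒᵖ ⥤ Type v) (hz : Presieve.IsSheaf Scheme.zariskiTopology F)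

include hz in
theorem isSheafFor_of_affine (R : Presieve T) (h : ∀ (Z : Scheme.{u}) [IsAffine Z] (g : Z ⟶ T),
    Presieve.IsSheafFor F ((Sieve.generate R).pullback g).arrows) : Presieve.IsSheafFor F R := by
  refine T.affineOneHypercover.isSheafFor_of_pullback hz (fun i => ?_) (fun i j k => ?_)
  · haveI : IsAffine (T.affineOneHypercover.X i) := inferInstanceAs (IsAffine (T.affineCover.X i))
    exact h _ _
  · haveI : IsAffine (T.affineOneHypercover.Y k) :=
      inferInstanceAs (IsAffine ((pullback (T.affineCover.f i) (T.affineCover.f j)).affineCover.X _))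
    exact (h _ _).isSeparatedFor

theorem generate_pullback_eq (E : PreZeroHypercover.{w} T) {Z : Scheme.{u}} (g : Z ⟶ T) :
    (Sieve.generate E.presieve₀).pullback g = Sieve.generate (E.pullback₂ g).presieve₀ := by
  rw [PreZeroHypercover.presieve₀_pullback₁, Sieve.pullbackArrows_comm]

theorem isVCover_pullback₂ {E : PreZeroHypercover.{w} T} (hE : IsVCover E) {Z : Scheme.{u}} (g : Z ⟶ T) :
    IsVCover (E.pullback₂ g) := by
  intro U
  obtain ⟨G, hG, hR⟩ := isVCover_pullback g E hE U
  refine ⟨G, hG, fun j => ?_⟩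
  obtain ⟨i, l, hl⟩ := hR j
  exact ⟨i, l ≫ (pullbackSymmetry g (E.f i)).hom,
    ((Category.assoc _ _ _).trans (congrArg (l ≫ ·) (pullbackSymmetry_hom_comp_snd g (E.f i)))).trans hl⟩

theorem isStandardV_pullback₂ [IsAffine T] {Z : Scheme.{u}} [IsAffine Z] (g : Z ⟶ T)
    {G : PreZeroHypercover.{w} T} (hG : IsStandardV G) : IsStandardV (G.pullback₂ g) := by
  have hp := isStandardV_pullback g hG
  refine ⟨‹_›, hG.finite_index, fun j => ?_, fun V _ _ v => ?_⟩
  · haveI : IsAffine (pullback g (G.f j)) := hp.isAffine_obj j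
    exact IsAffine.of_isIso (pullbackSymmetry (G.f j) g).hom
  · obtain ⟨W, i1, i2, φ, hφ, j, v', hv'⟩ := hp.lift V v
    refine ⟨W, i1, i2, φ, hφ, j, v' ≫ (pullbackSymmetry g (G.f j)).hom, ?_⟩
    exact ((Category.assoc _ _ _).trans (congrArg (v' ≫ ·) (pullbackSymmetry_hom_comp_snd g (G.f j)))).trans hv'

/-- Descent along single-member standard V coverings. -/
def SingleV (F : Scheme.{u}ᵒᵖ ⥤ Type v) : Prop :=
  ∀ (U V : Scheme.{u}) (f : V ⟶ U), IsAffine U → IsAffine V →
    HasValLift (PreZeroHypercover.singleton.{0} f) → Presieve.IsSheafFor F (Presieve.singleton f)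

include hz in
theorem isSheafFor_standardV (h1 : SingleV F) {E : PreZeroHypercover.{0} T} (hE : IsStandardV E) :
    Presieve.IsSheafFor F E.presieve₀ := by
  haveI := hE.isAffine; haveI := hE.finite_index; haveI := hE.isAffine_obj
  have : PreservesLimitsOfShape (Discrete (E.I₀ × E.I₀)) F :=
    preservesLimitsOfShape_discrete_of_isSheaf_zariskiTopology hz
  have : PreservesLimitsOfShape (Discrete E.I₀) F :=
    preservesLimitsOfShape_discrete_of_isSheaf_zariskiTopology hz
  show Presieve.IsSheafFor F (Presieve.ofArrows E.X E.f)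
  rw [← Presieve.isSheafFor_sigmaDesc_iff E.f (coproductIsCoproduct _)
    (FinitaryExtensive.isVanKampen_finiteCoproducts (coproductIsCoproduct _)).isUniversal]
  refine h1 _ _ _ hE.isAffine (inferInstanceAs (IsAffine (∐ E.X))) fun V _ _ g => ?_
  obtain ⟨W, i1, i2, φ, hφ, j, g', hg'⟩ := hE.lift V g
  refine ⟨W, i1, i2, φ, hφ, PUnit.unit, g' ≫ Sigma.ι E.X j, ?_⟩
  show (g' ≫ Sigma.ι E.X j) ≫ Cofan.IsColimit.desc (coproductIsCoproduct _) E.f = _
  have : Sigma.ι E.X j ≫ Cofan.IsColimit.desc (coproductIsCoproduct _) E.f = E.f j :=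
    Cofan.IsColimit.fac (coproductIsCoproduct _) E.f j
  rw [Category.assoc, this, hg']

include hz in
theorem isSheafFor_of_isVCover_affine (h1 : SingleV F) [IsAffine T] {E : PreZeroHypercover.{w} T}
    (hE : IsVCover E) : Presieve.IsSheafFor F (Sieve.generate E.presieve₀).arrows := by
  obtain ⟨G, hG, hR⟩ := exists_standardV (𝟙 T) hE
  refine Presieve.isSheafFor_subsieve F (S := Sieve.generate G.presieve₀) ?_ fun Y f => ?_
  · refine Sieve.generate_le_iff _ _ |>.2 ?_
    rintro _ _ ⟨j⟩
    obtain ⟨i, l, hl⟩ := hR j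
    exact ⟨_, l, _, ⟨i⟩, hl.trans (Category.comp_id _)⟩
  · refine isSheafFor_of_affine F hz _ fun Z _ g => ?_
    rw [Sieve.generate_sieve, ← Sieve.pullback_comp, generate_pullback_eq, ← Presieve.isSheafFor_iff_generate]
    exact isSheafFor_standardV F hz h1 (isStandardV_pullback₂ _ hG)

include hz in
theorem isSheafFor_of_isVCover (h1 : SingleV F) {E : PreZeroHypercover.{w} T} (hE : IsVCover E) :
    Presieve.IsSheafFor F E.presieve₀ := by
  refine isSheafFor_of_affine F hz _ fun Z _ g => ?_
  rw [generate_pullback_eq]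
  exact isSheafFor_of_isVCover_affine F hz h1 (isVCover_pullback₂ hE g)

include hz in
theorem isVSheaf_of_singleV (h1 : SingleV F) : IsVSheaf F := by
  intro X R hR
  obtain ⟨E, rfl⟩ := R.exists_eq_preZeroHypercover
  exact isSheafFor_of_isVCover F hz h1 ((presieve₀_mem_vPrecoverage_iff E).1 hR)

variable {F}

theorem isSheafFor_of_isVSheaf (hF : IsVSheaf F) {E : PreZeroHypercover.{w} T} (hE : IsVCover E) :
    Presieve.IsSheafFor F E.presieve₀ :=
  hF _ ((presieve₀_mem_vPrecoverage_iff E).2 hE)

theorem zariski_of_isVSheaf (hF : IsVSheaf F) : Presieve.IsSheaf Scheme.zariskiTopology F := by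
  rw [Precoverage.isSheaf_toGrothendieck_iff_of_isStableUnderBaseChange]
  intro Y S hS
  obtain ⟨(𝓤 : Scheme.OpenCover Y), rfl⟩ := Scheme.exists_cover_of_mem_pretopology hS
  exact isSheafFor_of_isVSheaf hF (isVCover_of_openCover 𝓤)

theorem singleV_of_standard (h : ∀ (T : Scheme.{u}) (E : PreZeroHypercover.{w} T),
    IsStandardV E → Presieve.IsSheafFor F E.presieve₀) : SingleV F := by
  intro U V f hU hV hl
  haveI := hV
  have : IsStandardV (PreZeroHypercover.singleton.{w} f) :=
    ⟨hU, inferInstanceAs (Finite PUnit), fun _ => hV,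
      (hasValLift_singleton_iff f).2 ((hasValLift_singleton_iff f).1 hl)⟩
  have h' := h U _ this
  rwa [PreZeroHypercover.presieve₀_singleton] at h'

end Groth.Agent.H18HTop
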