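import Groth.Agent.H18HTop.StandardPh
import Groth.Agent.H18HTop.VSheaf

/-!
# Zariski sheaves with descent along proper surjections are ph sheaves
-/

set_option autoImplicit false

universe w v u

open CategoryTheory Limits AlgebraicGeometry IsLocalRing HTop Opposite

namespace Groth.Agent.H18HTop

set_option backward.isDefEq.respectTransparency false

variable {T : Scheme.{u}}

/-- Descent along proper surjective morphisms. -/
def SingleP (F : Scheme.{u}ᵒᵖ ⥤ Type v) : Prop :=
  ∀ (U V : Scheme.{u}) (f : V ⟶ U), IsProper f → Surjective f → Presieve.IsSheafFor F (Presieve.singleton f)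

variable (F : Scheme.{u}ᵒᵖ ⥤ Type v) (hz : Presieve.IsSheaf Scheme.zariskiTopology F) (h1 : SingleP F)

theorem pullback_singleton_eq {U V : Scheme.{u}} (f : V ⟶ U) {Y : Scheme.{u}} (g : Y ⟶ U) :
    (Sieve.generate (Presieve.singleton f)).pullback g = Sieve.generate (Presieve.singleton (pullback.snd f g)) := by
  rw [← Sieve.pullbackArrows_comm]
  congr 1
  exact Presieve.pullback_singleton g f

include hz h1 in
theorem isSheafFor_standardPh {E : PreZeroHypercover.{w} T} (hE : IsStandardPh E) :
    Presieve.IsSheafFor F (Sieve.generate E.presieve₀).arrows := by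
  obtain ⟨U, f, ι, hf, hs, ho, hι, hcov⟩ := hE.exists_proper
  haveI := ho
  refine Presieve.isSheafFor_trans F (Sieve.generate (Presieve.singleton f)) _
    ((Presieve.isSheafFor_iff_generate _).1 (h1 _ _ f hf hs)) (fun Y g _ => ?_) (fun Y g hg => ?_)
  · rw [pullback_singleton_eq]
    exact ((Presieve.isSheafFor_iff_generate _).1 (h1 _ _ _
      (MorphismProperty.pullback_snd (P := @IsProper) f g hf)
      (MorphismProperty.pullback_snd (P := @Surjective) f g hs))).isSeparatedFor
  · obtain ⟨_, a, _, ⟨⟩, rfl⟩ := hg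
    rw [Sieve.pullback_comp]
    refine hz _ (GrothendieckTopology.pullback_stable _ a ?_)
    have hmem : Sieve.generate (Presieve.ofArrows E.X ι) ∈ Scheme.zariskiTopology U := by
      refine Precoverage.generate_mem_toGrothendieck ?_
      show _ ∈ Scheme.precoverage @IsOpenImmersion U
      rw [Scheme.ofArrows_mem_precoverage_iff]
      exact ⟨fun x => hcov x, ho⟩
    refine GrothendieckTopology.superset_covering _ ?_ hmem
    rw [Sieve.generate_le_iff]
    rintro _ _ ⟨j⟩
    exact ⟨_, 𝟙 _, E.f j, ⟨j⟩, by rw [Category.id_comp, hι j]⟩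

include hz h1 in
theorem isSheafFor_of_isPhCover {E : PreZeroHypercover.{w} T} (hE : IsPhCover E) :
    Presieve.IsSheafFor F E.presieve₀ := by
  have key : ∀ (Z : Scheme.{u}) [IsAffine Z] (g : Z ⟶ T) [IsOpenImmersion g],
      Presieve.IsSheafFor F ((Sieve.generate E.presieve₀).pullback g).arrows := by
    intro Z _ g _
    obtain ⟨G, hG, hR⟩ := hE.2 ⟨g.opensRange, isAffineOpen_opensRange g⟩
    let e : Z ⟶ (g.opensRange : Scheme.{u}) := g.isoOpensRange.hom
    have he : e ≫ g.opensRange.ι = g := g.isoOpensRange_hom_ι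
    have hG' := isStandardPh_pullback e hG
    refine Presieve.isSheafFor_subsieve F (S := Sieve.generate (G.pullback₁ e).presieve₀) ?_ fun Y f => ?_
    · refine Sieve.generate_le_iff _ _ |>.2 ?_
      rintro _ _ ⟨j⟩
      obtain ⟨i, l, hl⟩ := hR j
      refine ⟨_, pullback.snd e (G.f j) ≫ l, _, ⟨i⟩, ?_⟩
      show _ = pullback.fst e (G.f j) ≫ g
      rw [Category.assoc, hl, ← pullback.condition_assoc, he]
    · refine isSheafFor_of_affine F hz _ fun W _ g' => ?_
      rw [Sieve.generate_sieve, ← Sieve.pullback_comp]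
      have := isSheafFor_standardPh F hz h1 (isStandardPh_pullback (g' ≫ f) hG')
      convert this using 2
      rw [generate_pullback_eq]
      refine le_antisymm ?_ ?_ <;> rw [Sieve.generate_le_iff] <;> rintro _ _ ⟨j⟩
      · exact ⟨_, (pullbackSymmetry _ _).hom, _, ⟨j⟩, pullbackSymmetry_hom_comp_fst _ _⟩
      · exact ⟨_, (pullbackSymmetry _ _).hom, _, ⟨j⟩, pullbackSymmetry_hom_comp_snd _ _⟩
  refine T.affineOneHypercover.isSheafFor_of_pullback hz (fun i => ?_) (fun i j k => ?_)
  · haveI : IsAffine (T.affineOneHypercover.X i) := inferInstanceAs (IsAffine (T.affineCover.X i))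
    haveI : IsOpenImmersion (T.affineOneHypercover.f i) := inferInstanceAs (IsOpenImmersion (T.affineCover.f i))
    exact key _ _
  · haveI : IsAffine (T.affineOneHypercover.Y k) :=
      inferInstanceAs (IsAffine ((pullback (T.affineCover.f i) (T.affineCover.f j)).affineCover.X _))
    haveI : IsOpenImmersion (T.affineOneHypercover.p₁ k ≫ T.affineOneHypercover.f i) :=
      inferInstanceAs (IsOpenImmersion
        (((pullback (T.affineCover.f i) (T.affineCover.f j)).affineCover.f k ≫ pullback.fst _ _) ≫ T.affineCover.f i))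
    exact (key _ _).isSeparatedFor

include hz h1 in
theorem isPhSheaf_of_singleP : IsPhSheaf F := by
  intro X R hR
  obtain ⟨E, rfl⟩ := R.exists_eq_preZeroHypercover
  exact isSheafFor_of_isPhCover F hz h1 ((presieve₀_mem_phPrecoverage_iff E).1 hR)

end Groth.Agent.H18HTop
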