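import Mathlib

/-!
# Lifting specialisations over valuation rings from Noetherian local domains
-/

set_option autoImplicit false

universe u

open TensorProduct IsLocalRing

namespace Groth.Agent.H18HTop

/-- A pair of primes of `A ⊗ B` over `⊥ ≤ maximalIdeal A`. -/
def HasPrimePair (R A B : Type u) [CommRing R] [CommRing A] [IsLocalRing A] [Algebra R A] [CommRing B]
    [Algebra R B] : Prop :=
  ∃ P Q : Ideal (A ⊗[R] B), P.IsPrime ∧ Q.IsPrime ∧ P ≤ Q ∧
    P.comap (Algebra.TensorProduct.includeLeftRingHom) = ⊥ ∧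
    Q.comap (Algebra.TensorProduct.includeLeftRingHom) = maximalIdeal A

variable {R V B : Type u} [CommRing R] [CommRing V] [Algebra R V] [CommRing B] [Algebra R B]

/-- The map induced by the inclusion of a subalgebra. -/
noncomputable abbrev incl (A : Subalgebra R V) : A ⊗[R] B →ₐ[R] V ⊗[R] B :=
  Algebra.TensorProduct.map A.val (AlgHom.id R B)

theorem incl_inclusion {A A' : Subalgebra R V} (h : A ≤ A') (z : A ⊗[R] B) :
    incl A' (Algebra.TensorProduct.map (Subalgebra.inclusion h) (AlgHom.id R B) z) = incl A z := by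
  induction z with
  | zero => simp
  | tmul a b => simp [Subalgebra.inclusion]
  | add a b ha hb => simp only [map_add, ha, hb]

theorem incl_eq_rTensor (A : Subalgebra R V) (z : A ⊗[R] B) :
    incl A z = LinearMap.rTensor B A.val.toLinearMap z := by
  induction z with
  | zero => simp
  | tmul a b => simp
  | add a b ha hb => simp only [map_add, ha, hb]

theorem map_inclusion_eq_rTensor {A A' : Subalgebra R V} (h : A ≤ A') (z : A ⊗[R] B) :
    Algebra.TensorProduct.map (Subalgebra.inclusion h) (AlgHom.id R B) z =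
      LinearMap.rTensor B (Subalgebra.inclusion h).toLinearMap z := by
  induction z with
  | zero => simp
  | tmul a b => simp
  | add a b ha hb => simp only [map_add, ha, hb]

theorem map_inclusion_trans {A A' A'' : Subalgebra R V} (h : A ≤ A') (h' : A' ≤ A'') (z : A ⊗[R] B) :
    Algebra.TensorProduct.map (Subalgebra.inclusion (h.trans h')) (AlgHom.id R B) z =
      Algebra.TensorProduct.map (Subalgebra.inclusion h') (AlgHom.id R B)
        (Algebra.TensorProduct.map (Subalgebra.inclusion h) (AlgHom.id R B) z) := by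
  induction z with
  | zero => simp
  | tmul a b => simp only [Algebra.TensorProduct.map_tmul]; rfl
  | add a b ha hb => simp only [map_add, ha, hb]

theorem exists_stage_mem_map [IsLocalRing V] (k : V ⊗[R] B)
    (hk : k ∈ (maximalIdeal V).map (Algebra.TensorProduct.includeLeftRingHom : V →+* V ⊗[R] B)) :
    ∃ A : Subalgebra R V, A.FG ∧ ∀ A', A ≤ A' → ∃ k' : A' ⊗[R] B,
      k' ∈ ((maximalIdeal V).comap A'.val).map (Algebra.TensorProduct.includeLeftRingHom) ∧ incl A' k' = k := by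
  classical
  refine Submodule.span_induction (p := fun k _ => ∃ A : Subalgebra R V, A.FG ∧ ∀ A', A ≤ A' → ∃ k' : A' ⊗[R] B,
      k' ∈ ((maximalIdeal V).comap A'.val).map (Algebra.TensorProduct.includeLeftRingHom) ∧ incl A' k' = k)
    ?_ ?_ ?_ ?_ hk
  · rintro _ ⟨m, hm, rfl⟩
    refine ⟨Algebra.adjoin R ({m} : Finset V), Subalgebra.fg_adjoin_finset _, fun A' h => ?_⟩
    have hmA : m ∈ A' := h (Algebra.subset_adjoin (by simp))
    refine ⟨(⟨m, hmA⟩ : A') ⊗ₜ 1, Ideal.mem_map_of_mem _ (show (⟨m, hmA⟩ : A') ∈ (maximalIdeal V).comap A'.val from hm), ?_⟩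
    simp
  · exact ⟨⊥, Subalgebra.fg_bot, fun A' _ => ⟨0, zero_mem _, map_zero _⟩⟩
  · rintro x y - - ⟨A₁, h₁, hx⟩ ⟨A₂, h₂, hy⟩
    refine ⟨A₁ ⊔ A₂, h₁.sup h₂, fun A' h => ?_⟩
    obtain ⟨x', hx', ex⟩ := hx A' (le_sup_left.trans h)
    obtain ⟨y', hy', ey⟩ := hy A' (le_sup_right.trans h)
    exact ⟨x' + y', add_mem hx' hy', by rw [map_add, ex, ey]⟩
  · rintro c x - ⟨A₁, h₁, hx⟩
    obtain ⟨A₂, h₂, c', hc'⟩ := TensorProduct.Algebra.exists_of_fg c
    refine ⟨A₁ ⊔ A₂, h₁.sup h₂, fun A' h => ?_⟩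
    obtain ⟨x', hx', ex⟩ := hx A' (le_sup_left.trans h)
    refine ⟨Algebra.TensorProduct.map (Subalgebra.inclusion (le_sup_right.trans h)) (AlgHom.id R B) c' * x',
      Ideal.mul_mem_left _ _ hx', ?_⟩
    rw [map_mul, incl_inclusion, ex, smul_eq_mul]
    exact congrArg (· * x) hc'

theorem exists_identity_stage [IsDomain V] [IsLocalRing V] (hcon : ¬ HasPrimePair R V B) :
    ∃ A : Subalgebra R V, A.FG ∧ ∀ A', A ≤ A' → ∃ (v : A') (j k : A' ⊗[R] B), v ≠ 0 ∧
      (v ⊗ₜ[R] (1 : B)) * j = 0 ∧ j + k = 1 ∧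
      k ∈ ((maximalIdeal V).comap A'.val).map (Algebra.TensorProduct.includeLeftRingHom) := by
  classical
  let ι : V →+* V ⊗[R] B := Algebra.TensorProduct.includeLeftRingHom
  let S : Submonoid (V ⊗[R] B) := (nonZeroDivisors V).map ι
  let J : Ideal (V ⊗[R] B) := RingHom.ker (algebraMap (V ⊗[R] B) (Localization S))
  have htop : J ⊔ (maximalIdeal V).map ι = ⊤ := by
    by_contra hne
    obtain ⟨Q, hQ, hle⟩ := Ideal.exists_le_maximal _ hne
    have hQV : Q.comap ι = maximalIdeal V :=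
      ((IsLocalRing.maximalIdeal.isMaximal V).eq_of_le (Ideal.IsPrime.ne_top inferInstance)
        (Ideal.map_le_iff_le_comap.1 (le_sup_right.trans hle))).symm
    have hd : Disjoint ((⊥ : Ideal (V ⊗[R] B)) : Set (V ⊗[R] B))
        ((S ⊔ Q.primeCompl : Submonoid (V ⊗[R] B)) : Set (V ⊗[R] B)) := by
      rw [Set.disjoint_left]
      intro x hx hx'
      obtain ⟨s, hs, t, ht, rfl⟩ := Submonoid.mem_sup.1 hx'
      refine ht (hle (Ideal.mem_sup_left ?_))
      rw [RingHom.mem_ker, IsLocalization.map_eq_zero_iff S]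
      exact ⟨⟨s, hs⟩, hx⟩
    obtain ⟨P, hP, -, hPd⟩ := Ideal.exists_le_prime_disjoint ⊥ (S ⊔ Q.primeCompl) hd
    refine hcon ⟨P, Q, hP, inferInstance, fun x hx => ?_, ?_, hQV⟩
    · by_contra hxQ
      exact Set.disjoint_left.1 hPd hx ((le_sup_right : Q.primeCompl ≤ S ⊔ Q.primeCompl) hxQ)
    · refine (Submodule.eq_bot_iff _).2 fun v hv => ?_
      by_contra hv0
      exact Set.disjoint_left.1 hPd hv ((le_sup_left : S ≤ S ⊔ Q.primeCompl)
        ⟨v, mem_nonZeroDivisors_of_ne_zero hv0, rfl⟩)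
  obtain ⟨j, hj, k, hk, hjk⟩ := Submodule.mem_sup.1 ((Ideal.eq_top_iff_one _).1 htop)
  rw [RingHom.mem_ker, IsLocalization.map_eq_zero_iff S] at hj
  obtain ⟨⟨_, v, hv, rfl⟩, hvj⟩ := hj
  obtain ⟨A₁, h₁, hk'⟩ := exists_stage_mem_map k hk
  let A₂ := A₁ ⊔ Algebra.adjoin R (({v} : Finset V) : Set V)
  have h₂ : A₂.FG := h₁.sup (Subalgebra.fg_adjoin_finset _)
  obtain ⟨k₂, hk₂, ek₂⟩ := hk' A₂ le_sup_left
  let v₂ : A₂ := ⟨v, (le_sup_right : _ ≤ A₂) (Algebra.subset_adjoin (by simp))⟩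
  have e0 : incl A₂ ((v₂ ⊗ₜ[R] (1 : B)) * (1 - k₂)) = incl A₂ 0 := by
    rw [map_mul, map_sub, map_one, ek₂, map_zero, ← hjk, add_sub_cancel_right]
    simp only [Algebra.TensorProduct.map_tmul, AlgHom.id_apply]
    exact hvj
  rw [incl_eq_rTensor, incl_eq_rTensor] at e0
  obtain ⟨A, hA2, hA, he⟩ := TensorProduct.Algebra.eq_of_fg_of_subtype_eq h₂ e0
  rw [← map_inclusion_eq_rTensor hA2, ← map_inclusion_eq_rTensor hA2] at he
  refine ⟨A, hA, fun A' h => ?_⟩
  let φ := Algebra.TensorProduct.map (Subalgebra.inclusion (hA2.trans h)) (AlgHom.id R (B))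
  refine ⟨Subalgebra.inclusion (hA2.trans h) v₂, φ (1 - k₂), φ k₂, ?_, ?_, ?_, ?_⟩
  · intro h0
    exact nonZeroDivisors.ne_zero hv (congrArg Subtype.val h0)
  · have : φ ((v₂ ⊗ₜ[R] (1 : B)) * (1 - k₂)) = 0 := by
      rw [map_inclusion_trans hA2 h,
        show Algebra.TensorProduct.map (Subalgebra.inclusion hA2) (AlgHom.id R (B)) _ = _ from he, map_zero,
        map_zero]
    rw [map_mul, Algebra.TensorProduct.map_tmul] at this
    exact this
  · rw [← map_add, sub_add_cancel, map_one]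
  · have := Ideal.mem_map_of_mem φ.toRingHom hk₂
    rw [Ideal.map_map] at this
    refine Ideal.map_le_iff_le_comap.2 (fun a ha => ?_) this
    have e : (φ.toRingHom.comp (Algebra.TensorProduct.includeLeftRingHom)) a =
        Algebra.TensorProduct.includeLeftRingHom (Subalgebra.inclusion (hA2.trans h) a) := by
      simp [φ]
    rw [Ideal.mem_comap, e]
    exact Ideal.mem_map_of_mem _ ha

theorem exists_prime_pair [IsNoetherianRing R] [IsDomain V] [IsLocalRing V] {M : Type*} [Finite M]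
    (Bs : M → Type u) [∀ m, CommRing (Bs m)] [∀ m, Algebra R (Bs m)]
    (h : ∀ (A : Type u) [CommRing A] [IsDomain A] [IsLocalRing A] [IsNoetherianRing A] [Algebra R A],
      ∃ m, HasPrimePair R A (Bs m)) :
    ∃ m, HasPrimePair R V (Bs m) := by
  classical
  by_contra hcon
  push Not at hcon
  choose A₀ hA₀ hA₀' using fun m => exists_identity_stage (hcon m)
  cases nonempty_fintype M
  let A : Subalgebra R V := Finset.univ.sup A₀
  have hAfg : A.FG := Finset.sup_induction (p := Subalgebra.FG) Subalgebra.fg_bot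
    (fun a ha b hb => ha.sup hb) (fun m _ => hA₀ m)
  haveI : Algebra.FiniteType R A := (Subalgebra.fg_iff_finiteType A).1 hAfg
  haveI : IsNoetherianRing A := Algebra.FiniteType.isNoetherianRing R A
  let p : Ideal A := (maximalIdeal V).comap A.val
  obtain ⟨m, P, Q, hP, hQ, hPQ, hP0, hQm⟩ := h (Localization.AtPrime p)
  obtain ⟨v, j, k, hv, hvj, hjk, hk⟩ := hA₀' m A (Finset.le_sup (Finset.mem_univ m))
  let ψ : A ⊗[R] Bs m →ₐ[R] Localization.AtPrime p ⊗[R] Bs m :=
    Algebra.TensorProduct.map (IsScalarTower.toAlgHom R A (Localization.AtPrime p)) (AlgHom.id R (Bs m))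
  have hψ (a : A) : ψ (a ⊗ₜ 1) = Algebra.TensorProduct.includeLeftRingHom
      (algebraMap A (Localization.AtPrime p) a) := by simp [ψ]
  have hv' : ψ (v ⊗ₜ 1) ∉ P := fun h' => hv <| by
    rw [hψ, ← Ideal.mem_comap, hP0, Ideal.mem_bot] at h'
    exact IsLocalization.injective (Localization.AtPrime p) p.primeCompl_le_nonZeroDivisors
      (h'.trans (map_zero _).symm)
  have hj : ψ j ∈ Q := hPQ ((hP.mem_or_mem (by rw [← map_mul, hvj, map_zero]; exact P.zero_mem)).resolve_left hv')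
  have hk' : ψ k ∈ Q := by
    have := Ideal.mem_map_of_mem ψ.toRingHom hk
    rw [Ideal.map_map] at this
    refine Ideal.map_le_iff_le_comap.2 (fun a ha => ?_) this
    show ψ (a ⊗ₜ 1) ∈ Q
    rw [hψ, ← Ideal.mem_comap, hQm]
    exact (IsLocalization.AtPrime.to_map_mem_maximal_iff (Localization.AtPrime p) p a).2 ha
  have h1 : ψ j + ψ k = 1 := (map_add ψ j k).symm.trans ((congrArg ψ hjk).trans (map_one ψ))
  exact hQ.ne_top ((Ideal.eq_top_iff_one _).2 (h1 ▸ Q.add_mem hj hk'))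

end Groth.Agent.H18HTop
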