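import Groth.Agent.H18HTop.VCoverCrit
import Groth.Agent.H18HTop.SpecLiftRing

/-!
# Universally submersive families over Noetherian bases have the valuative lifting property
-/

set_option autoImplicit false

universe w u

open CategoryTheory Limits AlgebraicGeometry IsLocalRing HTop TensorProduct

namespace Groth.Agent.H18HTop

set_option backward.isDefEq.respectTransparency false

variable {T : Scheme.{u}}

instance : SGA1.UnivSubmersive.{u}.IsStableUnderBaseChange :=
  inferInstanceAs (MorphismProperty.universally _).IsStableUnderBaseChange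

/-- Base change of a universally submersive finite family. -/
theorem univSubmersive_pullback₁ (E : PreZeroHypercover.{u} T) [Finite E.I₀]
    (hE : SGA1.UnivSubmersive (Sigma.desc E.f)) {Y : Scheme.{u}} (g : Y ⟶ T) :
    SGA1.UnivSubmersive (Sigma.desc (E.pullback₁ g).f) := by
  have h := (FinitaryExtensive.isVanKampen_finiteCoproducts
    (coproductIsCoproduct E.X)).isUniversal.isPullback_of_isColimit_left E.f (Sigma.desc E.f) g
    (fun i => pullback.fst g (E.f i)) (fun i => pullback.snd g (E.f i))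
    (fun i => IsPullback.of_hasPullback _ _) (coproductIsCoproduct fun i => pullback g (E.f i))
    (fun i => Sigma.ι_desc _ _)
  exact MorphismProperty.of_isPullback (P := SGA1.UnivSubmersive) h.flip hE

/-- Specialisations in a Noetherian scheme over the base lift to the base change of a universally
submersive family. -/
theorem exists_specializes_pullback (E : PreZeroHypercover.{u} T) [Finite E.I₀]
    [∀ i, LocallyOfFiniteType (E.f i)] [∀ i, QuasiCompact (E.f i)]
    (hE : SGA1.UnivSubmersive (Sigma.desc E.f)) {Y : Scheme.{u}} [IsLocallyNoetherian Y] (g : Y ⟶ T)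
    {y y' : Y} (h : y ⤳ y') :
    ∃ (i : E.I₀) (a b : (pullback g (E.f i) : Scheme.{u})), a ⤳ b ∧
      pullback.fst g (E.f i) a = y ∧ pullback.fst g (E.f i) b = y' := by
  haveI : ∀ i, LocallyOfFiniteType ((E.pullback₁ g).f i) := fun i =>
    MorphismProperty.pullback_fst (P := @LocallyOfFiniteType) g (E.f i) inferInstance
  haveI : ∀ i, QuasiCompact ((E.pullback₁ g).f i) := fun i =>
    MorphismProperty.pullback_fst (P := @QuasiCompact) g (E.f i) inferInstance
  exact exists_specializes_of_univSubmersive (E.pullback₁ g) (univSubmersive_pullback₁ E hE g) h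

section Pair

variable {R A B : Type u} [CommRing R] [CommRing A] [Algebra R A] [CommRing B] [Algebra R B]

theorem isPullback_tensor :
    IsPullback (Spec.map (CommRingCat.ofHom (Algebra.TensorProduct.includeLeftRingHom : A →+* A ⊗[R] B)))
      (Spec.map (CommRingCat.ofHom (Algebra.TensorProduct.includeRight (R := R) (A := A) (B := B)).toRingHom))
      (Spec.map (CommRingCat.ofHom (algebraMap R A))) (Spec.map (CommRingCat.ofHom (algebraMap R B))) :=
  isPullback_SpecMap_of_isPushout _ _ _ _ (CommRingCat.isPushout_tensorProduct R A B)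

variable {S X : Scheme.{u}} (p : Spec (CommRingCat.of R) ⟶ S) (q : Spec (CommRingCat.of B) ⟶ X) (f : X ⟶ S)
  (hq : q ≫ f = Spec.map (CommRingCat.ofHom (algebraMap R B)) ≫ p)

/-- The comparison of the affine fibre product with the fibre product of schemes. -/
noncomputable def toPullback :
    Spec (CommRingCat.of (A ⊗[R] B)) ⟶ pullback (Spec.map (CommRingCat.ofHom (algebraMap R A)) ≫ p) f :=
  pullback.lift (Spec.map (CommRingCat.ofHom (Algebra.TensorProduct.includeLeftRingHom : A →+* A ⊗[R] B)))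
    (Spec.map (CommRingCat.ofHom (Algebra.TensorProduct.includeRight (R := R) (A := A) (B := B)).toRingHom) ≫ q)
    (by rw [← Category.assoc, (isPullback_tensor (R := R) (A := A) (B := B)).w, Category.assoc, Category.assoc, hq])

include hq in
theorem exists_specializes_of_hasPrimePair [IsDomain A] [IsLocalRing A] (h : HasPrimePair R A B) :
    ∃ a b : (pullback (Spec.map (CommRingCat.ofHom (algebraMap R A)) ≫ p) f : Scheme.{u}), a ⤳ b ∧
      pullback.fst (Spec.map (CommRingCat.ofHom (algebraMap R A)) ≫ p) f a = (⊥ : PrimeSpectrum A) ∧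
      pullback.fst (Spec.map (CommRingCat.ofHom (algebraMap R A)) ≫ p) f b = closedPoint A := by
  obtain ⟨P, Q, hP, hQ, hPQ, hP0, hQm⟩ := h
  let zP : Spec (CommRingCat.of (A ⊗[R] B)) := ⟨P, hP⟩
  let zQ : Spec (CommRingCat.of (A ⊗[R] B)) := ⟨Q, hQ⟩
  refine ⟨toPullback p q f hq zP, toPullback p q f hq zQ,
    ((PrimeSpectrum.le_iff_specializes (⟨P, hP⟩ : PrimeSpectrum (A ⊗[R] B)) ⟨Q, hQ⟩).1 hPQ).map
      (toPullback p q f hq).continuous, ?_, ?_⟩
  · rw [← Scheme.Hom.comp_apply, toPullback, pullback.lift_fst]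
    exact PrimeSpectrum.ext hP0
  · rw [← Scheme.Hom.comp_apply, toPullback, pullback.lift_fst]
    exact PrimeSpectrum.ext hQm

include hq in
theorem hasPrimePair_of_specializes [Mono p] [IsOpenImmersion q] [IsDomain A] [IsLocalRing A]
    {a b : (pullback (Spec.map (CommRingCat.ofHom (algebraMap R A)) ≫ p) f : Scheme.{u})} (hab : a ⤳ b)
    (ha : pullback.fst (Spec.map (CommRingCat.ofHom (algebraMap R A)) ≫ p) f a = (⊥ : PrimeSpectrum A))
    (hb : pullback.fst (Spec.map (CommRingCat.ofHom (algebraMap R A)) ≫ p) f b = closedPoint A)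
    (hmem : pullback.snd (Spec.map (CommRingCat.ofHom (algebraMap R A)) ≫ p) f b ∈ Set.range q) :
    HasPrimePair R A B := by
  let c := (Spec.map (CommRingCat.ofHom (algebraMap R A)) ≫ p)
  let iR := Spec.map (CommRingCat.ofHom (Algebra.TensorProduct.includeRight (R := R) (A := A) (B := B)).toRingHom)
  have hR : IsPullback (Spec.map (CommRingCat.ofHom (Algebra.TensorProduct.includeLeftRingHom : A →+* A ⊗[R] B)))
      iR c (q ≫ f) := by
    have h0 := isPullback_tensor (R := R) (A := A) (B := B)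
    have hw : ∀ t : PullbackCone c (q ≫ f), t.fst ≫ Spec.map (CommRingCat.ofHom (algebraMap R A)) =
        t.snd ≫ Spec.map (CommRingCat.ofHom (algebraMap R B)) := fun t => by
      rw [← cancel_mono p, Category.assoc, Category.assoc, ← hq]
      exact t.condition
    exact ⟨⟨by rw [hq, ← Category.assoc, ← Category.assoc, h0.w]⟩, ⟨PullbackCone.IsLimit.mk _
      (fun t => h0.lift t.fst t.snd (hw t)) (fun t => h0.lift_fst _ _ _) (fun t => h0.lift_snd _ _ _)
      (fun t m h1 h2 => h0.hom_ext (h1.trans (h0.lift_fst _ _ _).symm) (h2.trans (h0.lift_snd _ _ _).symm))⟩⟩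
  have sq : IsPullback iR (toPullback p q f hq) q (pullback.snd c f) := by
    refine IsPullback.of_bot ?_ (by rw [toPullback, pullback.lift_snd]) (IsPullback.of_hasPullback c f).flip
    rw [toPullback, pullback.lift_fst]
    exact hR.flip
  haveI : IsOpenImmersion (toPullback (A := A) p q f hq) :=
    MorphismProperty.of_isPullback (P := @IsOpenImmersion) sq ‹_›
  have hr : ∀ z, pullback.snd c f z ∈ Set.range q → z ∈ Set.range (toPullback (A := A) p q f hq) := fun z hz => by
    obtain ⟨y, hy⟩ := hz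
    obtain ⟨o, -, ho⟩ := Scheme.exists_preimage_of_isPullback sq y z hy
    exact ⟨o, ho⟩
  obtain ⟨b', rfl⟩ := hr b hmem
  obtain ⟨a', rfl⟩ := hr a ((hab.map (pullback.snd c f).continuous).mem_open q.isOpenEmbedding.isOpen_range hmem)
  have hab' : a' ⤳ b' := (toPullback (A := A) p q f hq).isOpenEmbedding.isInducing.specializes_iff.1 hab
  rw [← Scheme.Hom.comp_apply, toPullback, pullback.lift_fst] at ha hb
  exact ⟨PrimeSpectrum.asIdeal a', PrimeSpectrum.asIdeal b', inferInstance, inferInstance,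
    (PrimeSpectrum.le_iff_specializes a' b').2 hab', congrArg PrimeSpectrum.asIdeal ha,
    congrArg PrimeSpectrum.asIdeal hb⟩

end Pair

/-- Specialisations in locally Noetherian schemes over the base lift to the family. -/
def LiftsNoethSpecializations (E : PreZeroHypercover.{u} T) : Prop :=
  ∀ (Y : Scheme.{u}) [IsLocallyNoetherian Y] (g : Y ⟶ T) (y y' : Y), y ⤳ y' →
    ∃ (i : E.I₀) (a b : (pullback g (E.f i) : Scheme.{u})), a ⤳ b ∧
      pullback.fst g (E.f i) a = y ∧ pullback.fst g (E.f i) b = y'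

/-- Over a Noetherian base it suffices to lift specialisations of Noetherian schemes. -/
theorem hasValLift_of_liftsNoethSpecializations [IsLocallyNoetherian T] (E : PreZeroHypercover.{u} T) [Finite E.I₀]
    [∀ i, QuasiCompact (E.f i)] (hE : LiftsNoethSpecializations E) : HasValLift E := by
  refine hasValLift_of_specializes E fun V _ _ g => ?_
  obtain ⟨U, hU, hgU, -⟩ := exists_isAffineOpen_mem_and_subset (x := g (closedPoint V)) (U := ⊤) trivial
  have hr : Set.range g ⊆ Set.range hU.fromSpec := by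
    rw [hU.range_fromSpec]; exact range_subset_of_closedPoint_mem g U hgU
  let ρ : Γ(T, U) ⟶ V := Spec.preimage (IsOpenImmersion.lift hU.fromSpec g hr)
  have hρ : Spec.map ρ ≫ hU.fromSpec = g := by rw [Spec.map_preimage, IsOpenImmersion.lift_fac]
  letI : Algebra Γ(T, U) V := ρ.hom.toAlgebra
  haveI : IsNoetherianRing Γ(T, U) := IsLocallyNoetherian.component_noetherian ⟨U, hU⟩
  choose s hs hsU using fun i => (isCompact_iff_finite_and_eq_biUnion_affineOpens (U := E.f i ⁻¹ᵁ U)).mp
    ((E.f i).isCompact_preimage hU.isCompact)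
  haveI := fun i => (hs i).to_subtype
  let M := Σ i, s i
  have hle : ∀ m : M, (m.2.1 : (E.X m.1).Opens) ≤ E.f m.1 ⁻¹ᵁ U := fun m => by
    rw [hsU m.1]; exact le_iSup₂ (f := fun (i : (E.X m.1).affineOpens) (_ : i ∈ s m.1) => (i : (E.X m.1).Opens)) m.2.1 m.2.2
  let Bs : M → Type u := fun m => Γ(E.X m.1, (m.2.1 : (E.X m.1).Opens))
  letI : ∀ m, Algebra Γ(T, U) (Bs m) := fun m => ((E.f m.1).appLE U _ (hle m)).hom.toAlgebra
  have hq : ∀ m : M, m.2.1.2.fromSpec ≫ E.f m.1 =
      Spec.map (CommRingCat.ofHom (algebraMap Γ(T, U) (Bs m))) ≫ hU.fromSpec := fun m =>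
    (IsAffineOpen.SpecMap_appLE_fromSpec (E.f m.1) hU m.2.1.2 (hle m)).symm
  have key : ∀ (A : Type u) [CommRing A] [IsDomain A] [IsLocalRing A] [IsNoetherianRing A] [Algebra Γ(T, U) A],
      ∃ m, HasPrimePair Γ(T, U) A (Bs m) := by
    intro A _ _ _ _ _
    let c := Spec.map (CommRingCat.ofHom (algebraMap Γ(T, U) A)) ≫ hU.fromSpec
    haveI : IsLocallyNoetherian (Spec (CommRingCat.of A)) := inferInstance
    obtain ⟨i, a, b, hab, ha, hb⟩ := hE _ c _ _
      (show ((⊥ : PrimeSpectrum A) : Spec (CommRingCat.of A)) ⤳ (closedPoint A) from specializes_closedPoint _)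
    have hbU : pullback.snd c (E.f i) b ∈ E.f i ⁻¹ᵁ U := by
      show E.f i (pullback.snd c (E.f i) b) ∈ (U : Set T)
      rw [← Scheme.Hom.comp_apply, ← pullback.condition, Scheme.Hom.comp_apply, Scheme.Hom.comp_apply,
        ← hU.range_fromSpec]
      exact ⟨_, rfl⟩
    rw [hsU i, ← SetLike.mem_coe, TopologicalSpace.Opens.coe_iSup, Set.mem_iUnion] at hbU
    obtain ⟨W, hW⟩ := hbU
    rw [TopologicalSpace.Opens.coe_iSup, Set.mem_iUnion] at hW
    obtain ⟨hWs, hbW⟩ := hW
    refine ⟨⟨i, W, hWs⟩, hasPrimePair_of_specializes (B := Bs ⟨i, W, hWs⟩) hU.fromSpec W.2.fromSpec (E.f i) (hq ⟨i, W, hWs⟩) hab ha hb ?_⟩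
    rw [W.2.range_fromSpec]
    exact hbW
  obtain ⟨m, hm⟩ := exists_prime_pair (V := V) Bs key
  obtain ⟨a, b, hab, ha, hb⟩ := exists_specializes_of_hasPrimePair hU.fromSpec m.2.1.2.fromSpec (E.f m.1) (hq m) hm
  have e : Spec.map (CommRingCat.ofHom (algebraMap Γ(T, U) V)) ≫ hU.fromSpec = g := hρ
  let t := (pullback.congrHom e (rfl : E.f m.1 = E.f m.1))
  refine ⟨m.1, t.hom a, t.hom b, hab.map t.hom.continuous, ?_, ?_⟩
  · rw [← Scheme.Hom.comp_apply, show t.hom ≫ pullback.fst g (E.f m.1) = pullback.fst _ _ by simp [t]]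
    exact ha
  · rw [← Scheme.Hom.comp_apply, show t.hom ≫ pullback.fst g (E.f m.1) = pullback.fst _ _ by simp [t]]
    exact hb

theorem isVCover_of_liftsNoethSpecializations [IsLocallyNoetherian T] (E : PreZeroHypercover.{u} T) [Finite E.I₀]
    [∀ i, QuasiCompact (E.f i)] (hE : LiftsNoethSpecializations E) : IsVCover E := by
  haveI : QuasiCompact (Sigma.desc E.f) := by
    refine ⟨fun U hU hUc => ?_⟩
    have hu : Sigma.desc E.f ⁻¹' U = ⋃ i, Sigma.ι E.X i '' (E.f i ⁻¹' U) := by
      ext z
      obtain ⟨i, y, rfl⟩ := (sigmaOpenCover E.X).exists_eq z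
      have e : Sigma.desc E.f (Sigma.ι E.X i y) = E.f i y := by
        rw [← Scheme.Hom.comp_apply, Sigma.ι_desc]
      refine ⟨fun h => Set.mem_iUnion.2 ⟨i, y, show E.f i y ∈ U from e ▸ h, rfl⟩, fun h => ?_⟩
      obtain ⟨k, y', hy', e'⟩ := Set.mem_iUnion.1 h
      show Sigma.desc E.f _ ∈ U
      rw [show (sigmaOpenCover E.X).f i y = Sigma.ι E.X k y' from e'.symm, ← Scheme.Hom.comp_apply, Sigma.ι_desc]
      exact hy'
    rw [hu]
    exact isCompact_iUnion fun i => ((E.f i).isCompact_preimage (U := ⟨U, hU⟩) hUc).image (Sigma.ι E.X i).continuous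
  refine (isVCover_singleton_sigmaDesc_iff E).1 (isVCover_singleton_of_hasValLift _ ?_)
  intro V _ _ g
  obtain ⟨W, i1, i2, φ, hφ, i, g', hg'⟩ := hasValLift_of_liftsNoethSpecializations E hE V g
  refine ⟨W, i1, i2, φ, hφ, PUnit.unit, g' ≫ Sigma.ι E.X i, ?_⟩
  show (g' ≫ Sigma.ι E.X i) ≫ Sigma.desc E.f = _
  rw [Category.assoc, Sigma.ι_desc, hg']

theorem isVCover_of_univSubmersive [IsLocallyNoetherian T] (E : PreZeroHypercover.{u} T) [Finite E.I₀]
    [∀ i, LocallyOfFiniteType (E.f i)] [∀ i, QuasiCompact (E.f i)]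
    (hE : SGA1.UnivSubmersive (Sigma.desc E.f)) : IsVCover E :=
  isVCover_of_liftsNoethSpecializations E fun _ _ g _ _ h => exists_specializes_pullback E hE g h

theorem hasValLift_of_univSubmersive [IsLocallyNoetherian T] (E : PreZeroHypercover.{u} T) [Finite E.I₀]
    [∀ i, LocallyOfFiniteType (E.f i)] [∀ i, QuasiCompact (E.f i)]
    (hE : SGA1.UnivSubmersive (Sigma.desc E.f)) : HasValLift E :=
  hasValLift_of_isVCover (isVCover_of_univSubmersive E hE)

end Groth.Agent.H18HTop
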