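import Groth.Agent.H18HTop.VCoverCrit
import Groth.Prelude.Def_MoreMor
import Mathlib.CategoryTheory.Sites.Over

/-!
# ph and h sheaves do not see thickenings
-/

set_option autoImplicit false

universe w v u

open CategoryTheory Limits AlgebraicGeometry IsLocalRing HTop Opposite

namespace Groth.Agent.H18HTop

set_option backward.isDefEq.respectTransparency false

theorem isStandardPh_singleton {X Y : Scheme.{u}} (f : X ⟶ Y) [IsAffine X] [IsAffine Y] [IsProper f] [Surjective f] :
    IsStandardPh (PreZeroHypercover.singleton.{w} f) :=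
  ⟨‹_›, inferInstanceAs (Finite PUnit), fun _ => ‹IsAffine X›,
    ⟨X, f, fun _ => 𝟙 X, ‹_›, ‹_›, fun _ => inferInstanceAs (IsOpenImmersion (𝟙 X)), fun _ => Category.id_comp _,
      fun x => ⟨PUnit.unit, x, rfl⟩⟩⟩

theorem isPhCover_singleton_of_affine {X Y : Scheme.{u}} (f : X ⟶ Y) [IsAffineHom f] [IsProper f] [Surjective f] :
    IsPhCover (PreZeroHypercover.singleton.{w} f) := by
  refine ⟨fun _ => show LocallyOfFiniteType f from inferInstance, fun U => ?_⟩
  haveI : IsAffine ((U : Y.Opens) : Scheme.{u}) := U.2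
  haveI : IsAffine (f ⁻¹ᵁ (U : Y.Opens)).toScheme := U.2.preimage f
  haveI : IsProper (f ∣_ (U : Y.Opens)) := inferInstance
  haveI : Surjective (f ∣_ (U : Y.Opens)) := IsZariskiLocalAtTarget.restrict (P := @Surjective) ‹_› _
  exact ⟨PreZeroHypercover.singleton (f ∣_ (U : Y.Opens)), isStandardPh_singleton _,
    fun _ => ⟨PUnit.unit, (f ⁻¹ᵁ (U : Y.Opens)).ι, (morphismRestrict_ι f _).symm⟩⟩

theorem mem_over_of_singleton {S : Scheme.{u}} (J : Precoverage Scheme.{u}) {X X' : Over S} (f : X ⟶ X')
    (hf : Presieve.singleton f.left ∈ J X'.left) :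
    Sieve.generate (Presieve.singleton f) ∈ (J.toGrothendieck.over S) X' := by
  rw [GrothendieckTopology.mem_over_iff, Sieve.overEquiv_generate]
  refine J.toGrothendieck.superset_covering ?_ (Precoverage.generate_mem_toGrothendieck hf)
  rw [Sieve.generate_le_iff]
  rintro _ _ ⟨⟩
  exact ⟨X.left, 𝟙 _, f.left, ⟨X, f, 𝟙 _, Presieve.singleton_self f, (Category.id_comp _).symm⟩, Category.id_comp _⟩

theorem map_bijective_of_covering_mono {C : Type (u + 1)} [Category.{u} C] {J : GrothendieckTopology C}
    (F : Sheaf J (Type (u + 1))) {X X' : C} (f : X ⟶ X') [Mono f]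
    (hf : Sieve.generate (Presieve.singleton f) ∈ J X') : Function.Bijective (F.obj.map f.op) := by
  have h := (Presieve.isSheafFor_iff_generate _).2
    (((isSheaf_iff_isSheaf_of_type _ _).1 F.property) _ hf)
  rw [Presieve.isSheafFor_singleton] at h
  have h' := fun x => h x fun p₁ p₂ e => by rw [(cancel_mono f).1 e]
  refine ⟨fun a b e => ?_, fun x => (h' x).exists⟩
  exact (h' (F.obj.map f.op b)).unique e rfl

theorem phSheaf_map_bijective {S : Scheme.{u}} (F : ShPh S) {X X' : Over S} (f : X ⟶ X')
    (hf : MoreMor.IsThickening f.left) : Function.Bijective (F.obj.map f.op) := by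
  haveI := hf.1; haveI := hf.2
  haveI : Mono f := Over.mono_of_mono_left f
  refine map_bijective_of_covering_mono F f (mem_over_of_singleton phPrecoverage f ?_)
  rw [← PreZeroHypercover.presieve₀_singleton.{u, u + 1, 0}, presieve₀_mem_phPrecoverage_iff]
  exact isPhCover_singleton_of_affine f.left

theorem hSheaf_map_bijective {S : Scheme.{u}} (F : ShH S) {X X' : Over S} (f : X ⟶ X')
    (hf : MoreMor.IsThickening f.left) [LocallyOfFinitePresentation f.left] :
    Function.Bijective (F.obj.map f.op) := by
  haveI := hf.1; haveI := hf.2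
  haveI : Mono f := Over.mono_of_mono_left f
  refine map_bijective_of_covering_mono F f (mem_over_of_singleton hPrecoverage f ?_)
  rw [← PreZeroHypercover.presieve₀_singleton.{u, u + 1, 0}, presieve₀_mem_hPrecoverage_iff]
  exact ⟨fun _ => ‹LocallyOfFinitePresentation f.left›,
    isVCover_singleton_of_hasValLift f.left (hasValLift_singleton_of_universallyClosed f.left)⟩

end Groth.Agent.H18HTop
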