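import Groth.Agent.H18HTop.OverTopology
import Groth.Agent.H18HTop.VSheaf

/-!
Sheaves for V and h coverings on schemes over `S`.
-/

set_option autoImplicit false
set_option backward.isDefEq.respectTransparency false
universe w' w u

open CategoryTheory CategoryTheory.Limits AlgebraicGeometry Opposite HTop

namespace Groth.Agent.H18HTop.VSheafOver

variable {S : Scheme.{u}}

/-- The sieve on `Y` of the arrows whose underlying morphism factors through the family `E`. -/
def sieveOf (Y : Over S) (E : PreZeroHypercover.{w'} Y.left) : Sieve Y :=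
  (Sieve.overEquiv Y).symm (Sieve.generate E.presieve₀)

theorem sieveOf_pullback {Y Z : Over S} (g : Z ⟶ Y) (E : PreZeroHypercover.{w'} Y.left) :
    (sieveOf Y E).pullback g = sieveOf Z (E.pullback₂ g.left) := by
  rw [sieveOf, sieveOf, ← Sieve.overEquiv_symm_pullback, generate_pullback_eq]

/-- The lift of a family of morphisms of schemes to schemes over `S`. -/
def liftFamily (Y : Over S) (E : PreZeroHypercover.{w'} Y.left) : Presieve Y :=
  Presieve.ofArrows (fun i => Over.mk (E.f i ≫ Y.hom)) (fun i => Over.homMk (E.f i) rfl)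

theorem liftFamily_map (Y : Over S) (E : PreZeroHypercover.{w'} Y.left) :
    (liftFamily Y E).map (Over.forget S) = E.presieve₀ := by
  rw [liftFamily, Presieve.map_ofArrows]
  rfl

theorem generate_liftFamily (Y : Over S) (E : PreZeroHypercover.{w'} Y.left) :
    Sieve.generate (liftFamily Y E) = sieveOf Y E := by
  refine ((Sieve.overEquiv Y).symm_apply_apply _).symm.trans ?_
  rw [sieveOf]
  exact congrArg _ (Sieve.overEquiv_ofArrows _ _)

variable {F : (Over S)ᵒᵖ ⥤ Type w}

theorem hCover_mem (h1 : IsHSheafOver S F) {Y : Over S} {E : PreZeroHypercover.{w'} Y.left}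
    (hE : IsHCover E) : sieveOf Y E ∈ Sheaf.finestTopologySingle F Y := by
  intro Z g
  rw [sieveOf_pullback, ← generate_liftFamily, ← Presieve.isSheafFor_iff_generate]
  refine h1 _ ?_
  rw [liftFamily_map]
  refine (presieve₀_mem_hPrecoverage_iff _).2 ⟨fun i => ?_, isVCover_pullback₂ hE.2 _⟩
  haveI := hE.1 i
  exact inferInstanceAs (LocallyOfFinitePresentation (pullback.snd (E.f i) g.left))

theorem openCover_hCover {T : Scheme.{u}} (𝒰 : Scheme.OpenCover.{w'} T) :
    IsHCover 𝒰.toPreZeroHypercover :=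
  ⟨fun i => inferInstanceAs (LocallyOfFinitePresentation (𝒰.f i)), isVCover_of_openCover 𝒰⟩

theorem zariski_of_isHSheafOver (h1 : IsHSheafOver S F) :
    Presieve.IsSheaf (Scheme.zariskiTopology.over S) F := by
  intro Y R hR
  rw [GrothendieckTopology.mem_over_iff] at hR
  have hR' : ∀ (Z : Over S) (g : Z.left ⟶ Y.left),
      (Sieve.overEquiv Z).symm ((Sieve.overEquiv Y R).pullback g) ∈ Sheaf.finestTopologySingle F Z := by
    generalize Sieve.overEquiv Y R = T at hR ⊢
    generalize Y.left = X at T hR ⊢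
    induction hR with
    | of X P hP =>
      intro Z g
      obtain ⟨(𝒰 : Scheme.OpenCover X), rfl⟩ := Scheme.exists_cover_of_mem_pretopology hP
      have h := hCover_mem h1 (Y := Z) (E := 𝒰.toPreZeroHypercover.pullback₂ g)
        ⟨fun i => inferInstanceAs (LocallyOfFinitePresentation (pullback.snd (𝒰.f i) g)),
          isVCover_pullback₂ (isVCover_of_openCover 𝒰) g⟩
      rw [sieveOf, ← generate_pullback_eq] at h
      exact h
    | top => intro Z g; rw [Sieve.pullback_top, map_top]; exact GrothendieckTopology.top_mem _ _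
    | pullback X T hT X' f ih =>
      intro Z g
      rw [← Sieve.pullback_comp]
      exact ih Z (g ≫ f)
    | transitive X T T' hT hT' ih1 ih2 =>
      intro Z g
      refine GrothendieckTopology.transitive _ (ih1 Z g) _ fun Z' f hf => ?_
      rw [Sieve.overEquiv_symm_iff, Sieve.pullback_apply] at hf
      rw [← Sieve.overEquiv_symm_pullback, ← Sieve.pullback_comp]
      have h := ih2 hf Z' (𝟙 _)
      rwa [Sieve.pullback_id] at h
  have h := hR' Y (𝟙 _)
  rw [Sieve.pullback_id, OrderIso.symm_apply_apply] at h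
  have h' := h _ (𝟙 Y)
  rwa [Sieve.pullback_id] at h'

/-- Descent along single standard V coverings in the category of schemes over `S`. -/
def SingleV (F : (Over S)ᵒᵖ ⥤ Type w) : Prop :=
  ∀ (U V : Over S) (f : V ⟶ U), IsAffine U.left → IsAffine V.left →
    HasValLift (PreZeroHypercover.singleton.{0} f.left) → Presieve.IsSheafFor F (Presieve.singleton f)

/-- Affine morphisms satisfying the lifting property. -/
def affineVLift : MorphismProperty Scheme.{u} :=
  fun _ _ f => IsAffineHom f ∧ HasValLift (PreZeroHypercover.singleton.{0} f)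

instance : (affineVLift.{u}).IsStableUnderBaseChange := by
  have : (affineVLift.{u}).RespectsIso := by
    refine MorphismProperty.RespectsIso.mk _ (fun {X Y Z} e f hf => ?_) (fun {X Y Z} e f hf => ?_)
    · haveI := hf.1
      refine ⟨inferInstanceAs (IsAffineHom (e.hom ≫ f)), fun V _ _ g => ?_⟩
      obtain ⟨W, i1, i2, φ, hφ, j, g', hg'⟩ := hf.2 V g
      exact ⟨W, i1, i2, φ, hφ, PUnit.unit, g' ≫ e.inv, by
        change (g' ≫ e.inv) ≫ e.hom ≫ f = _
        rw [Category.assoc, e.inv_hom_id_assoc]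
        exact hg'⟩
    · haveI := hf.1
      refine ⟨inferInstanceAs (IsAffineHom (f ≫ e.hom)), fun V _ _ g => ?_⟩
      obtain ⟨W, i1, i2, φ, hφ, j, g', hg'⟩ := hf.2 V (g ≫ e.inv)
      exact ⟨W, i1, i2, φ, hφ, PUnit.unit, g', by
        change g' ≫ f ≫ e.hom = _
        rw [← Category.assoc, ← Iso.eq_comp_inv, Category.assoc]
        exact hg'⟩
  refine MorphismProperty.IsStableUnderBaseChange.mk' fun X Y Z f g hh h2 => ?_
  haveI := h2.1
  refine ⟨MorphismProperty.pullback_fst _ _ h2.1, fun V _ _ v => ?_⟩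
  obtain ⟨W, i1, i2, φ, hφ, j, v', hv'⟩ := h2.2 V (v ≫ f)
  refine ⟨W, i1, i2, φ, hφ, PUnit.unit,
    pullback.lift (Spec.map φ ≫ v) v' ((Category.assoc _ _ _).trans hv'.symm), ?_⟩
  exact pullback.lift_fst _ _ _

theorem standardV_mem (h1 : SingleV F) (hz : Presieve.IsSheaf (Scheme.zariskiTopology.over S) F)
    {W : Over S} [IsAffine W.left] {G : PreZeroHypercover.{0} W.left} (hG : IsStandardV G) :
    sieveOf W G ∈ Sheaf.finestTopologySingle F W := by
  haveI := hG.finite_index
  haveI := hG.isAffine_obj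
  let σ : ∐ G.X ⟶ W.left := Sigma.desc G.f
  let σo : Over.mk (σ ≫ W.hom) ⟶ W := Over.homMk σ rfl
  have hσ : Sieve.generate (Presieve.singleton σo) ∈ Sheaf.finestTopologySingle F W := by
    refine OverTopology.singleton_mem F (P := affineVLift) hz
      (fun U V f hU hf => h1 U V f hU (by
        haveI := hf.1
        haveI := hU
        exact isAffine_of_isAffineHom f.left) hf.2) σo ⟨?_, fun V _ _ g => ?_⟩
    · haveI : IsAffine (∐ G.X) := inferInstance
      exact inferInstanceAs (IsAffineHom σ)
    · obtain ⟨W', i1, i2, φ, hφ, j, g', hg'⟩ := hG.lift V g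
      refine ⟨W', i1, i2, φ, hφ, PUnit.unit, g' ≫ Sigma.ι G.X j, ?_⟩
      change (g' ≫ Sigma.ι G.X j) ≫ σ = _
      rw [Category.assoc, Sigma.ι_desc]
      exact hg'
  refine GrothendieckTopology.transitive _ hσ _ fun Z h hh => ?_
  obtain ⟨_, r, _, ⟨⟩, rfl⟩ := hh
  rw [Sieve.pullback_comp]
  refine GrothendieckTopology.pullback_stable _ r ?_
  intro Z' g
  refine hz _ (GrothendieckTopology.pullback_stable _ g ?_)
  rw [GrothendieckTopology.mem_over_iff]
  refine GrothendieckTopology.superset_covering _ ?_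
    (Precoverage.generate_mem_toGrothendieck (sigmaOpenCover G.X).mem₀)
  rw [Sieve.generate_le_iff]
  intro T k hk
  obtain ⟨j⟩ := hk
  rw [Sieve.overEquiv_iff, Sieve.pullback_apply, sieveOf, Sieve.overEquiv_symm_iff]
  refine ⟨G.X j, 𝟙 _, G.f j, ⟨j⟩, ?_⟩
  change 𝟙 _ ≫ G.f j = Sigma.ι G.X j ≫ σ
  rw [Category.id_comp, Sigma.ι_desc]

theorem vCover_mem (h1 : SingleV F) (hz : Presieve.IsSheaf (Scheme.zariskiTopology.over S) F)
    {Y : Over S} {E : PreZeroHypercover.{w'} Y.left} (hE : IsVCover E) :
    sieveOf Y E ∈ Sheaf.finestTopologySingle F Y := by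
  intro Z g
  refine OverTopology.isSheafFor_of_affine F hz _ fun W _ a => ?_
  rw [← Sieve.pullback_comp, sieveOf_pullback]
  obtain ⟨G, hG, hR⟩ := exists_standardV (𝟙 W.left) (isVCover_pullback₂ hE (a ≫ g).left)
  have h : sieveOf W (E.pullback₂ (a ≫ g).left) ∈ Sheaf.finestTopologySingle F W := by
    refine GrothendieckTopology.superset_covering _ ((Sieve.overEquiv W).symm.monotone ?_)
      (standardV_mem h1 hz hG)
    rw [Sieve.generate_le_iff]
    rintro _ _ ⟨j⟩
    obtain ⟨i, l, hl⟩ := hR j
    exact ⟨_, l, _, ⟨i⟩, hl.trans (Category.comp_id _)⟩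
  have h' := h _ (𝟙 W)
  rwa [Sieve.pullback_id] at h'

theorem isVSheafOver_of_singleV (h1 : SingleV F)
    (hz : Presieve.IsSheaf (Scheme.zariskiTopology.over S) F) : IsVSheafOver S F := by
  intro X R hR
  obtain ⟨E, rfl⟩ := R.exists_eq_preZeroHypercover
  rw [Presieve.isSheafFor_iff_generate]
  let E' : PreZeroHypercover X.left := ⟨E.I₀, fun i => (E.X i).left, fun i => (E.f i).left⟩
  have hE' : IsVCover E' := by
    refine (presieve₀_mem_vPrecoverage_iff E').1 ?_
    rw [show E.presieve₀ = Presieve.ofArrows E.X E.f from rfl, Presieve.map_ofArrows] at hR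
    exact hR
  have heq : Sieve.generate E.presieve₀ = sieveOf X E' :=
    ((Sieve.overEquiv X).symm_apply_apply _).symm.trans (congrArg _ (Sieve.overEquiv_ofArrows _ _))
  rw [heq]
  have h := vCover_mem h1 hz hE' _ (𝟙 X)
  rwa [Sieve.pullback_id] at h

end Groth.Agent.H18HTop.VSheafOver
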