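import Mathlib
import Groth.Agent.H18HTop.UltraPoint
import Groth.Agent.H18HTop.VCover

/-!
# The valuative lifting property and filtered colimits of rings
-/

set_option autoImplicit false
set_option backward.isDefEq.respectTransparency false
universe u

open CategoryTheory CategoryTheory.Limits AlgebraicGeometry

noncomputable section

namespace Groth.Agent.H18HTop.ValLimit

/-- A valuation ring extends to one with algebraically closed fraction field. -/
theorem exists_algClosed_ext (V : CommRingCat.{u}) [IsDomain V] [ValuationRing V] :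
    ∃ (L : Type u) (_ : Field L) (_ : IsAlgClosed L) (W : ValuationSubring L) (θ : V →+* W),
      Function.Injective θ ∧ IsLocalHom θ := by
  let L := AlgebraicClosure (FractionRing V)
  let e : V →+* L := (algebraMap (FractionRing V) L).comp (algebraMap V (FractionRing V))
  have he : Function.Injective e :=
    (algebraMap (FractionRing V) L).injective.comp (IsFractionRing.injective V (FractionRing V))
  obtain ⟨W, hW⟩ := (LocalSubring.range e).exists_le_valuationSubring
  obtain ⟨hsub, hloc⟩ := LocalSubring.le_def.1 hW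
  let θ : V →+* W := (Subring.inclusion hsub).comp e.rangeRestrict
  haveI : IsLocalHom e.rangeRestrict :=
    IsLocalHom.of_surjective e.rangeRestrict e.rangeRestrict_surjective
  exact ⟨L, inferInstance, inferInstance, W, θ, fun x y hxy => he (congrArg Subtype.val hxy),
    RingHom.isLocalHom_comp _ _⟩

variable {J : Type u} [SmallCategory J] [IsFiltered J] (E : J ⥤ CommRingCat.{u}) (c : Cocone E)
  (hc : IsColimit c) (j₀ : J)

include hc in
/-- The lifting property of a finitely presented family over a filtered colimit holds at a stage. -/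
theorem exists_stage_lift {κ : Type} (B₀ : κ → CommRingCat.{u}) (φ₀ : ∀ k, E.obj j₀ ⟶ B₀ k)
    (hfp : ∀ k, (φ₀ k).hom.FinitePresentation) (B : κ → CommRingCat.{u}) (φ : ∀ k, c.pt ⟶ B k)
    (hft : ∀ k, (φ k).hom.FiniteType) (β : ∀ k, B₀ k ⟶ B k) (hβ : ∀ k, φ₀ k ≫ β k = c.ι.app j₀ ≫ φ k)
    (hlift : HTop.HasValLift (PreZeroHypercover.mk κ (fun k => Spec (B k)) (fun k => Spec.map (φ k)))) :
    ∃ (j : J) (f : j₀ ⟶ j), ∀ (L : Type u) [Field L] [IsAlgClosed L] (W : ValuationSubring L)
      (ρ : E.obj j →+* W), ∃ (k : κ) (g : B₀ k →+* W), g.comp (φ₀ k).hom = ρ.comp (E.map f).hom := by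
  by_contra hcon
  push Not at hcon
  choose L iF iA W ρ hbad using fun s : Σ j, j₀ ⟶ j => hcon s.1 s.2
  obtain ⟨ι, F, sk, h, hh⟩ := UltraPoint.exists_ultra_point E c hc j₀ L W ρ
  haveI : ∀ a, IsAlgClosed (L (sk a)) := fun a => iA (sk a)
  obtain ⟨k, f', hf'⟩ := PhOfV.exists_lift B φ hft hlift
    (Ultra.valSubring F (fun a => L (sk a)) (fun a => W (sk a))) h
  have h1 : (f'.comp (β k).hom).comp (φ₀ k).hom =
      Ultra.diag F (fun a => L (sk a)) (fun a => W (sk a))
        (fun a => (ρ (sk a)).comp (E.map (sk a).2).hom) := by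
    have h2 : (β k).hom.comp (φ₀ k).hom = (φ k).hom.comp (c.ι.app j₀).hom :=
      congrArg CommRingCat.Hom.hom (hβ k)
    rw [RingHom.comp_assoc, h2, ← RingHom.comp_assoc, hf', hh]
  obtain ⟨a, g, hg⟩ := (Ultra.eventually_exists_hom F (fun a => L (sk a)) (fun a => W (sk a))
    (φ₀ k).hom (hfp k) _ _ h1).exists
  exact hbad (sk a) k g hg

include hc in
/-- A filtered colimit of algebras of finite type with the lifting property has the lifting
property. -/
theorem hasValLift_colimit {A : CommRingCat.{u}} (σ : ∀ j, A ⟶ E.obj j) (σ' : A ⟶ c.pt)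
    (hσ : ∀ (j : J) (f : j₀ ⟶ j), σ j₀ ≫ E.map f = σ j) (hσ' : σ j₀ ≫ c.ι.app j₀ = σ')
    (hft : ∀ j, (σ j).hom.FiniteType)
    (hlift : ∀ j, HTop.HasValLift (PreZeroHypercover.mk PUnit.{1} (fun _ => Spec (E.obj j))
      (fun _ => Spec.map (σ j)))) :
    HTop.HasValLift (PreZeroHypercover.mk PUnit.{1} (fun _ => Spec c.pt) (fun _ => Spec.map σ')) := by
  intro V _ _ gV
  let gV' : Spec V ⟶ Spec A := gV
  obtain ⟨L, _, _, W, θ, hθinj, hθloc⟩ := exists_algClosed_ext V
  let ρ : A →+* W := θ.comp (Spec.preimage gV').hom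
  choose u g hg using fun s : Σ j, j₀ ⟶ j =>
    PhOfV.exists_lift (fun _ : PUnit.{1} => E.obj s.1) (fun _ => σ s.1) (fun _ => hft s.1) (hlift s.1) W ρ
  obtain ⟨ι, F, sk, h, hh⟩ := UltraPoint.exists_ultra_point E c hc j₀ (fun _ => L) (fun _ => W) g
  let Δ := Ultra.diag F (fun _ => L) (fun _ => W) fun _ => RingHom.id W
  have hkey : h.comp σ'.hom = Δ.comp ρ := by
    rw [← hσ', CommRingCat.hom_comp, ← RingHom.comp_assoc, hh]
    refine RingHom.ext fun x => (Ultra.mk_eq F _ _).2 (Filter.Eventually.of_forall fun a => ?_)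
    change g (sk a) ((E.map (sk a).2).hom ((σ j₀).hom x)) = ρ x
    rw [← CommRingCat.comp_apply, hσ]
    exact RingHom.congr_fun (hg (sk a)) x
  obtain ⟨hΔi, hΔl⟩ := UltraPoint.isExtVal_diag F W
  haveI := hθloc
  haveI := hΔl
  let W' : CommRingCat.{u} := CommRingCat.of (Ultra.valSubring F (fun _ => L) (fun _ => W))
  refine ⟨W', inferInstanceAs (IsDomain (Ultra.valSubring F (fun _ => L) (fun _ => W))),
    inferInstanceAs (ValuationRing (Ultra.valSubring F (fun _ => L) (fun _ => W))),
    CommRingCat.ofHom (Δ.comp θ), ⟨hΔi.comp hθinj, RingHom.isLocalHom_comp Δ θ⟩, PUnit.unit,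
    Spec.map (CommRingCat.ofHom h), ?_⟩
  change Spec.map (CommRingCat.ofHom h) ≫ Spec.map σ' = _
  have : σ' ≫ CommRingCat.ofHom h = Spec.preimage gV' ≫ CommRingCat.ofHom (Δ.comp θ) :=
    CommRingCat.hom_ext (hkey.trans (RingHom.comp_assoc _ _ _).symm)
  rw [← Spec.map_comp, this, Spec.map_comp, Spec.map_preimage]

end Groth.Agent.H18HTop.ValLimit

namespace Groth.Agent.H18HTop.ValLimit

universe w w'

/-- Transport of the lifting property along a refinement over an isomorphism of targets. -/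
theorem hasValLift_map {T T' : Scheme.{u}} (d : T ≅ T') (E : PreZeroHypercover.{w} T)
    (E' : PreZeroHypercover.{w'} T') (a : E.I₀ → E'.I₀) (l : ∀ i, E.X i ⟶ E'.X (a i))
    (hl : ∀ i, l i ≫ E'.f (a i) = E.f i ≫ d.hom) (h : HTop.HasValLift E) : HTop.HasValLift E' := by
  intro V _ _ g
  obtain ⟨W, i1, i2, φ, hφ, j, v, hv⟩ := h V (g ≫ d.inv)
  refine ⟨W, i1, i2, φ, hφ, a j, v ≫ l j, ?_⟩
  rw [Category.assoc, hl, ← Category.assoc, hv, Category.assoc, Category.assoc, Iso.inv_hom_id,
    Category.comp_id]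

theorem hasValLift_toSpec {X Y : Scheme.{u}} [IsAffine X] [IsAffine Y] (f : X ⟶ Y)
    (h : HTop.HasValLift (PreZeroHypercover.singleton.{w} f)) :
    HTop.HasValLift (PreZeroHypercover.mk PUnit.{1} (fun _ => Spec Γ(X, ⊤))
      (fun _ => Spec.map f.appTop)) :=
  hasValLift_map Y.isoSpec _ _ (fun _ => PUnit.unit) (fun _ => X.isoSpec.hom)
    (fun _ => Scheme.isoSpec_hom_naturality f) h

theorem hasValLift_ofSpec {X Y : Scheme.{u}} [IsAffine X] [IsAffine Y] (f : X ⟶ Y)
    (h : HTop.HasValLift (PreZeroHypercover.mk PUnit.{1} (fun _ => Spec Γ(X, ⊤))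
      (fun _ => Spec.map f.appTop))) :
    HTop.HasValLift (PreZeroHypercover.singleton.{w} f) :=
  hasValLift_map Y.isoSpec.symm _ _ (fun _ => PUnit.unit) (fun _ => X.isoSpec.inv)
    (fun _ => by
      change X.isoSpec.inv ≫ f = Spec.map f.appTop ≫ Y.isoSpec.inv
      rw [Iso.inv_comp_eq, ← Category.assoc, Iso.eq_comp_inv]
      exact (Scheme.isoSpec_hom_naturality f).symm) h

end Groth.Agent.H18HTop.ValLimit
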